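import Mathlib

/-!
Elementary linear algebra: vectors in general position with respect to an endomorphism,
used to build products of conjugates having prescribed eigenvectors.
-/

set_option autoImplicit false
set_option linter.unusedSectionVars false
set_option linter.style.haveILetI false

namespace Cfsg.Agent.Lib.Classical.EigLin

variable {F V : Type*} [Field F] [AddCommGroup V] [Module F V]

lemma li2_iff {x y : V} :
    LinearIndependent F ![x, y] ↔ ∀ a b : F, a • x + b • y = 0 → a = 0 ∧ b = 0 :=
  LinearIndependent.pair_iff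

lemma li3_iff {x y z : V} : LinearIndependent F ![x, y, z] ↔
    ∀ a b c : F, a • x + b • y + c • z = 0 → a = 0 ∧ b = 0 ∧ c = 0 := by
  rw [Fintype.linearIndependent_iff]
  constructor
  · intro h a b c hs
    have := h ![a, b, c] (by simpa [Fin.sum_univ_three] using hs)
    exact ⟨this 0, this 1, this 2⟩
  · intro h g hg i
    have := h (g 0) (g 1) (g 2) (by simpa [Fin.sum_univ_three] using hg)
    fin_cases i
    · exact this.1
    · exact this.2.1
    · exact this.2.2

lemma li4_iff {x y z w : V} : LinearIndependent F ![x, y, z, w] ↔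
    ∀ a b c d : F, a • x + b • y + c • z + d • w = 0 → a = 0 ∧ b = 0 ∧ c = 0 ∧ d = 0 := by
  rw [Fintype.linearIndependent_iff]
  constructor
  · intro h a b c d hs
    have := h ![a, b, c, d] (by simpa [Fin.sum_univ_four] using hs)
    exact ⟨this 0, this 1, this 2, this 3⟩
  · intro h g hg i
    have := h (g 0) (g 1) (g 2) (g 3) (by simpa [Fin.sum_univ_four] using hg)
    fin_cases i
    · exact this.1
    · exact this.2.1
    · exact this.2.2.1
    · exact this.2.2.2

lemma li3_perm₁ {x y z : V} (h : LinearIndependent F ![x, y, z]) :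
    LinearIndependent F ![x, z, y] := by
  rw [li3_iff] at h ⊢
  intro a b c hs
  have := h a c b (by rw [← hs]; abel)
  exact ⟨this.1, this.2.2, this.2.1⟩

lemma li3_perm₂ {x y z : V} (h : LinearIndependent F ![x, y, z]) :
    LinearIndependent F ![z, y, x] := by
  rw [li3_iff] at h ⊢
  intro a b c hs
  have := h c b a (by rw [← hs]; abel)
  exact ⟨this.2.2, this.2.1, this.1⟩

lemma li3_12 {x y z : V} (h : LinearIndependent F ![x, y, z]) : LinearIndependent F ![x, y] := by
  rw [li3_iff] at h
  rw [li2_iff]
  intro a b hs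
  have := h a b 0 (by simpa using hs)
  exact ⟨this.1, this.2.1⟩

lemma li3_23 {x y z : V} (h : LinearIndependent F ![x, y, z]) : LinearIndependent F ![y, z] := by
  rw [li3_iff] at h
  rw [li2_iff]
  intro a b hs
  have := h 0 a b (by simpa using hs)
  exact ⟨this.2.1, this.2.2⟩

lemma li2_symm {x y : V} (h : LinearIndependent F ![x, y]) : LinearIndependent F ![y, x] := by
  rw [li2_iff] at h ⊢
  intro a b hs
  have := h b a (by rw [← hs]; abel)
  exact ⟨this.2, this.1⟩

lemma li2_ne_zero {x y : V} (h : LinearIndependent F ![x, y]) : x ≠ 0 := by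
  rw [li2_iff] at h
  rintro rfl
  have := h 1 0 (by simp)
  exact one_ne_zero this.1

/-- A vector outside a plane spanned by an independent pair gives an independent triple. -/
lemma li3_of_notMem {x y z : V} (h : LinearIndependent F ![x, y])
    (hz : z ∉ Submodule.span F {x, y}) : LinearIndependent F ![x, y, z] := by
  rw [li2_iff] at h
  rw [li3_iff]
  intro a b c hs
  by_cases hc : c = 0
  · subst hc
    have := h a b (by simpa using hs)
    exact ⟨this.1, this.2, rfl⟩
  · exfalso
    apply hz
    rw [Submodule.mem_span_pair]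
    refine ⟨-a / c, -b / c, ?_⟩
    have e : z = c⁻¹ • (c • z) := by rw [smul_smul, inv_mul_cancel₀ hc, one_smul]
    have e2 : c • z = -(a • x + b • y) := eq_neg_of_add_eq_zero_right hs
    conv_rhs => rw [e, e2]
    module

/-- A vector outside the span of an independent triple gives an independent quadruple. -/
lemma li4_of_notMem {x y z w : V} (h : LinearIndependent F ![x, y, z])
    (hw : w ∉ Submodule.span F {x, y, z}) : LinearIndependent F ![w, x, y, z] := by
  rw [li3_iff] at h
  rw [li4_iff]
  intro a b c d hs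
  by_cases ha : a = 0
  · subst ha
    have := h b c d (by rw [← hs]; simp [add_assoc])
    exact ⟨rfl, this.1, this.2.1, this.2.2⟩
  · exfalso
    apply hw
    rw [Submodule.mem_span_triple]
    refine ⟨-b / a, -c / a, -d / a, ?_⟩
    have e : w = a⁻¹ • (a • w) := by rw [smul_smul, inv_mul_cancel₀ ha, one_smul]
    have e2 : a • w = -(b • x + c • y + d • z) := by
      rw [eq_neg_iff_add_eq_zero, ← hs]
      abel
    conv_rhs => rw [e, e2]
    module

variable [FiniteDimensional F V]

/-- If the dimension is at least three there is a vector outside any plane. -/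
lemma exists_notMem_pair (hd : 3 ≤ Module.finrank F V) (x y : V) :
    ∃ z, z ∉ Submodule.span F {x, y} := by
  classical
  by_contra hcon
  push Not at hcon
  have h1 : Submodule.span F {x, y} = ⊤ := by
    rw [eq_top_iff]
    intro z _
    exact hcon z
  have h2 := finrank_span_finset_le_card (R := F) (({x, y} : Finset V))
  have h3 : Submodule.span F (({x, y} : Finset V) : Set V) = ⊤ := by
    rw [← h1]
    simp
  have h4 : Set.finrank F (({x, y} : Finset V) : Set V) = Module.finrank F V := by
    unfold Set.finrank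
    rw [h3, finrank_top]
  have h5 : ({x, y} : Finset V).card ≤ 2 := Finset.card_le_two
  omega

lemma exists_notMem_triple (hd : 4 ≤ Module.finrank F V) (x y z : V) :
    ∃ w, w ∉ Submodule.span F {x, y, z} := by
  by_contra hcon
  push Not at hcon
  have h1 : Submodule.span F {x, y, z} = ⊤ := by
    rw [eq_top_iff]
    intro w _
    exact hcon w
  classical
  have h2 := finrank_span_finset_le_card (R := F) (({x, y, z} : Finset V))
  have h3 : Submodule.span F (({x, y, z} : Finset V) : Set V) = ⊤ := by
    rw [← h1]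
    simp
  have h4 : Set.finrank F (({x, y, z} : Finset V) : Set V) = Module.finrank F V := by
    unfold Set.finrank
    rw [h3, finrank_top]
  have h5 : ({x, y, z} : Finset V).card ≤ 3 := Finset.card_le_three
  omega

/-- An endomorphism fixing a line and all of whose vectors are eigenvectors modulo the line. -/
lemma exists_scalar_mod {T : V →ₗ[F] V} {e : V} {β : F} (he0 : e ≠ 0) (he : T e = β • e)
    (h : ∀ y, ¬ LinearIndependent F ![e, y, T y]) :
    ∃ μ : F, ∀ y, ∃ c : F, T y = μ • y + c • e := by
  set W := Submodule.span F {e} with hW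
  have hWT : W ≤ W.comap T := by
    rw [hW, Submodule.span_le]
    intro z hz
    rw [Set.mem_singleton_iff] at hz
    rw [hz]
    simp only [Submodule.comap_coe, Set.mem_preimage, SetLike.mem_coe]
    rw [he]
    exact Submodule.smul_mem _ _ (Submodule.mem_span_singleton_self e)
  let Tq := W.mapQ W T hWT
  have hq : ∀ v, ¬ LinearIndependent F ![v, Tq v] := by
    intro v hv
    obtain ⟨y, rfl⟩ := Submodule.mkQ_surjective W v
    have h1 := h y
    rw [li3_iff] at h1
    push Not at h1
    obtain ⟨a, b, c, hs, hne⟩ := h1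
    rw [li2_iff] at hv
    have h2 := hv b c (by
      have h3 := congrArg W.mkQ hs
      simp only [map_add, map_smul, map_zero] at h3
      have h4 : W.mkQ e = 0 := by
        rw [Submodule.mkQ_apply, Submodule.Quotient.mk_eq_zero]
        exact Submodule.mem_span_singleton_self e
      rw [h4, smul_zero, zero_add] at h3
      exact h3)
    have h3 : a = 0 := by
      rw [h2.1, h2.2] at hs
      simp only [zero_smul, add_zero] at hs
      exact (smul_eq_zero.1 hs).resolve_right he0
    exact hne h3 h2.1 h2.2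
  obtain ⟨μ, hμ⟩ := LinearMap.exists_eq_smul_id_of_forall_notLinearIndependent hq
  refine ⟨μ, fun y => ?_⟩
  have h1 := LinearMap.congr_fun hμ (W.mkQ y)
  simp only [LinearMap.smul_apply, Module.End.one_apply] at h1
  have h2 : W.mkQ (T y - μ • y) = 0 := by
    rw [map_sub, map_smul, ← h1]
    simp [Tq]
  rw [Submodule.mkQ_apply, Submodule.Quotient.mk_eq_zero, hW, Submodule.mem_span_singleton] at h2
  obtain ⟨c, hc⟩ := h2
  refine ⟨c, ?_⟩
  rw [hc]
  abel

/-- An eigenvector off the line. -/
lemma exists_eig_off {T : V →ₗ[F] V} {e : V} {μ : F} (he0 : e ≠ 0)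
    (hT : ∀ y, ∃ c : F, T y = μ • y + c • e)
    (hd : 3 ≤ Module.finrank F V) : ∃ w, w ∉ Submodule.span F {e} ∧ T w = μ • w := by
  set D : V →ₗ[F] V := T - μ • 1 with hD
  have h1 : LinearMap.range D ≤ Submodule.span F {e} := by
    rintro _ ⟨y, rfl⟩
    obtain ⟨c, hc⟩ := hT y
    rw [Submodule.mem_span_singleton]
    refine ⟨c, ?_⟩
    simp [hD, hc]
  have hs1 : Module.finrank F (Submodule.span F {e}) = 1 := finrank_span_singleton he0
  have h2 : Module.finrank F (LinearMap.range D) ≤ 1 :=
    (Submodule.finrank_mono h1).trans hs1.le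
  have h3 := LinearMap.finrank_range_add_finrank_ker D
  have h4 : ¬ LinearMap.ker D ≤ Submodule.span F {e} := by
    intro hle
    have h5 : Module.finrank F (LinearMap.ker D) ≤ 1 :=
      (Submodule.finrank_mono hle).trans hs1.le
    omega
  obtain ⟨w, hw1, hw2⟩ := SetLike.not_le_iff_exists.1 h4
  refine ⟨w, hw2, ?_⟩
  rw [LinearMap.mem_ker] at hw1
  simp only [hD, LinearMap.sub_apply, LinearMap.smul_apply, Module.End.one_apply] at hw1
  exact sub_eq_zero.1 hw1

/-- A nonscalar endomorphism having an eigenvector has an eigenvector `e'` and a vector `y` with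
`e', y, T y` independent. -/
lemma exists_li3_eig {T : V →ₗ[F] V} (hns : ∃ v, LinearIndependent F ![v, T v]) {e : V} {β : F}
    (he0 : e ≠ 0) (he : T e = β • e) (hd : 3 ≤ Module.finrank F V) :
    ∃ (e' y : V) (α : F), e' ≠ 0 ∧ T e' = α • e' ∧ LinearIndependent F ![e', y, T y] := by
  by_cases h : ∃ y, LinearIndependent F ![e, y, T y]
  · obtain ⟨y, hy⟩ := h
    exact ⟨e, y, β, he0, he, hy⟩
  push Not at h
  obtain ⟨μ, hμ⟩ := exists_scalar_mod he0 he h
  obtain ⟨w, hw, hTw⟩ := exists_eig_off he0 hμ hd
  have hw0 : w ≠ 0 := by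
    rintro rfl
    exact hw (Submodule.zero_mem _)
  -- `w, e` are independent
  have hwe : LinearIndependent F ![w, e] := by
    rw [li2_iff]
    intro a b hs
    by_cases ha : a = 0
    · subst ha
      simp only [zero_smul, zero_add] at hs
      exact ⟨rfl, (smul_eq_zero.1 hs).resolve_right he0⟩
    · exfalso
      apply hw
      rw [Submodule.mem_span_singleton]
      refine ⟨-(a⁻¹ * b), ?_⟩
      have h1 : a • w = -(b • e) := eq_neg_of_add_eq_zero_left hs
      rw [neg_smul, mul_smul, ← smul_neg, ← h1, smul_smul, inv_mul_cancel₀ ha, one_smul]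
  -- a vector with nonzero coefficient
  obtain ⟨v, hv⟩ := hns
  obtain ⟨c₀, hc₀⟩ := hμ v
  have hc₀0 : c₀ ≠ 0 := by
    rintro rfl
    rw [li2_iff] at hv
    have := hv (-μ) 1 (by rw [hc₀]; simp)
    exact one_ne_zero this.2
  -- building the independent triple
  have key : ∀ (y : V) (c : F), T y = μ • y + c • e → c ≠ 0 → y ∉ Submodule.span F {w, e} →
      LinearIndependent F ![w, y, T y] := by
    intro y c hy hc hyn
    have h1 := li3_perm₁ (li3_of_notMem hwe hyn)
    rw [li3_iff] at h1 ⊢
    intro A B C hs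
    have h2 := h1 A (B + C * μ) (C * c) (by
      rw [← hs, hy]
      module)
    have hC : C = 0 := (mul_eq_zero.1 h2.2.2).resolve_right hc
    refine ⟨h2.1, ?_, hC⟩
    have := h2.2.1
    rw [hC] at this
    simpa using this
  obtain ⟨z, hz⟩ := exists_notMem_pair hd w e
  obtain ⟨c₁, hc₁⟩ := hμ z
  by_cases hc₁0 : c₁ = 0
  · by_cases hvn : v ∈ Submodule.span F {w, e}
    · have h1 : z + v ∉ Submodule.span F {w, e} := by
        intro h2
        apply hz
        have := Submodule.sub_mem _ h2 hvn
        simpa using this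
      refine ⟨w, z + v, μ, hw0, hTw, key _ c₀ ?_ hc₀0 h1⟩
      rw [map_add, hc₁, hc₀, hc₁0]
      module
    · exact ⟨w, v, μ, hw0, hTw, key _ c₀ hc₀ hc₀0 hvn⟩
  · exact ⟨w, z, μ, hw0, hTw, key _ c₁ hc₁ hc₁0 hz⟩

/-- An endomorphism with exactly one eigenline has a vector `u` with `u, T u, T² u` independent. -/
lemma exists_li3_of_unique {T : V →ₗ[F] V} {e : V} {β : F} (he0 : e ≠ 0) (he : T e = β • e)
    (huniq : ∀ (v : V) (l : F), v ≠ 0 → T v = l • v → v ∈ Submodule.span F {e})
    (hd : 3 ≤ Module.finrank F V) :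
    ∃ u, LinearIndependent F ![u, T u, T (T u)] := by
  by_contra hcon
  push Not at hcon
  -- non-eigenvectors
  have h2 : ∀ u, u ∉ Submodule.span F {e} → LinearIndependent F ![u, T u] := by
    intro u hu
    have hu0 : u ≠ 0 := by
      rintro rfl
      exact hu (Submodule.zero_mem _)
    rw [li2_iff]
    intro a b hs
    by_cases hb : b = 0
    · subst hb
      simp only [zero_smul, add_zero] at hs
      exact ⟨(smul_eq_zero.1 hs).resolve_right hu0, rfl⟩
    · exfalso
      apply hu
      apply huniq u (-(b⁻¹ * a)) hu0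
      have h1 : b • T u = -(a • u) := eq_neg_of_add_eq_zero_right hs
      have : T u = b⁻¹ • (b • T u) := by rw [smul_smul, inv_mul_cancel₀ hb, one_smul]
      rw [this, h1, neg_smul, smul_neg, smul_smul]
  -- the quadratic relation
  have h3 : ∀ u, u ∉ Submodule.span F {e} → ∃ τ n : F, T (T u) = τ • T u + n • u := by
    intro u hu
    have h4 := hcon u
    have h5 : T (T u) ∈ Submodule.span F {u, T u} := by
      by_contra h6
      exact h4 (li3_of_notMem (h2 u hu) h6)
    rw [Submodule.mem_span_pair] at h5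
    obtain ⟨a, b, hab⟩ := h5
    exact ⟨b, a, by rw [← hab]; abel⟩
  -- `e` lies in each invariant plane
  have h4 : ∀ u, u ∉ Submodule.span F {e} → e ∈ Submodule.span F {u, T u} := by
    intro u hu
    by_contra hen
    have hli := li3_of_notMem (h2 u hu) hen
    have hue : u + e ∉ Submodule.span F {e} := by
      intro h5
      apply hu
      have := Submodule.sub_mem _ h5 (Submodule.mem_span_singleton_self e)
      simpa using this
    obtain ⟨τ, n, hτ⟩ := h3 u hu
    obtain ⟨τ', n', hτ'⟩ := h3 _ hue
    simp only [map_add, he, map_smul] at hτ'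
    rw [hτ] at hτ'
    rw [li3_iff] at hli
    have h5 := hli (n - n') (τ - τ') (β * β - τ' * β - n') (by
      have : (τ • T u + n • u + β • β • e) - (τ' • (T u + β • e) + n' • (u + e)) = 0 :=
        sub_eq_zero.2 hτ'
      rw [← this]
      module)
    have e1 : n = n' := sub_eq_zero.1 h5.1
    have e2 : τ = τ' := sub_eq_zero.1 h5.2.1
    have e3 : β * β = τ' * β + n' := by
      have := h5.2.2
      rw [sub_sub, sub_eq_zero] at this
      exact this
    subst e1 e2
    -- an eigenvector inside the plane
    set y := T u - (τ - β) • u with hy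
    have hy0 : y ≠ 0 := by
      intro h6
      have hl := h2 u hu
      rw [li2_iff] at hl
      have := hl (-(τ - β)) 1 (by
        rw [← h6, hy]
        module)
      exact one_ne_zero this.2
    have hTy : T y = β • y := by
      rw [hy, map_sub, map_smul, hτ]
      have : τ • T u + n • u - (τ - β) • T u = β • T u + n • u := by module
      rw [this]
      have e4 : n • u = (β * β - τ * β) • u := by rw [e3]; ring_nf
      rw [e4]
      module
    have hye := huniq y β hy0 hTy
    rw [Submodule.mem_span_singleton] at hye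
    obtain ⟨c, hc⟩ := hye
    have hc0 : c ≠ 0 := by
      rintro rfl
      rw [zero_smul] at hc
      exact hy0 hc.symm
    apply hen
    rw [Submodule.mem_span_pair]
    refine ⟨-(c⁻¹ * (τ - β)), c⁻¹, ?_⟩
    have : e = c⁻¹ • y := by rw [← hc, smul_smul, inv_mul_cancel₀ hc0, one_smul]
    rw [this, hy]
    module
  -- conclusion
  have h5 : ∀ y, ¬ LinearIndependent F ![e, y, T y] := by
    intro y hy
    by_cases hyn : y ∈ Submodule.span F {e}
    · rw [Submodule.mem_span_singleton] at hyn
      obtain ⟨c, rfl⟩ := hyn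
      rw [li3_iff] at hy
      have := hy c (-1) 0 (by simp)
      simp at this
    · have h6 := h4 y hyn
      rw [Submodule.mem_span_pair] at h6
      obtain ⟨a, b, hab⟩ := h6
      rw [li3_iff] at hy
      have := hy (-1) a b (by rw [← hab]; abel_nf; simp)
      simp at this
  obtain ⟨μ, hμ⟩ := exists_scalar_mod he0 he h5
  obtain ⟨w, hw, hTw⟩ := exists_eig_off he0 hμ hd
  have hw0 : w ≠ 0 := by
    rintro rfl
    exact hw (Submodule.zero_mem _)
  exact hw (huniq w μ hw0 hTw)

/-- An endomorphism without eigenvectors. -/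
lemma exists_li_of_no_eig {T : V →ₗ[F] V} (hno : ∀ (v : V) (l : F), v ≠ 0 → T v ≠ l • v)
    (hd : 3 ≤ Module.finrank F V) :
    (∃ w, LinearIndependent F ![w, T w, T (T w)]) ∨
      (∃ w₁ w₂, LinearIndependent F ![w₁, T w₁, w₂, T w₂]) := by
  by_cases h : ∃ w, LinearIndependent F ![w, T w, T (T w)]
  · exact Or.inl h
  right
  push Not at h
  have h2 : ∀ u, u ≠ 0 → LinearIndependent F ![u, T u] := by
    intro u hu0
    rw [li2_iff]
    intro a b hs
    by_cases hb : b = 0
    · subst hb
      simp only [zero_smul, add_zero] at hs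
      exact ⟨(smul_eq_zero.1 hs).resolve_right hu0, rfl⟩
    · exfalso
      apply hno u (-(b⁻¹ * a)) hu0
      have h1 : b • T u = -(a • u) := eq_neg_of_add_eq_zero_right hs
      have : T u = b⁻¹ • (b • T u) := by rw [smul_smul, inv_mul_cancel₀ hb, one_smul]
      rw [this, h1, neg_smul, smul_neg, smul_smul]
  have h3 : ∀ u, u ≠ 0 → ∃ τ n : F, T (T u) = τ • T u + n • u := by
    intro u hu
    have h5 : T (T u) ∈ Submodule.span F {u, T u} := by
      by_contra h6
      exact h u (li3_of_notMem (h2 u hu) h6)
    rw [Submodule.mem_span_pair] at h5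
    obtain ⟨a, b, hab⟩ := h5
    exact ⟨b, a, by rw [← hab]; abel⟩
  have hne : ∃ w₁ : V, w₁ ≠ 0 := by
    have : Nontrivial V := Module.nontrivial_of_finrank_pos (R := F) (by omega)
    exact exists_ne 0
  obtain ⟨w₁, hw₁⟩ := hne
  obtain ⟨w₂, hw₂⟩ := exists_notMem_pair hd w₁ (T w₁)
  have hw₂0 : w₂ ≠ 0 := by
    rintro rfl
    exact hw₂ (Submodule.zero_mem _)
  refine ⟨w₁, w₂, ?_⟩
  rw [li4_iff]
  intro a b c d hs
  obtain ⟨τ₁, n₁, h₁⟩ := h3 w₁ hw₁
  obtain ⟨τ₂, n₂, h₂⟩ := h3 w₂ hw₂0
  have hl₁ := h2 w₁ hw₁
  have hl₂ := h2 w₂ hw₂0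
  rw [li2_iff] at hl₁ hl₂
  -- `y` lies in both planes
  set y := c • w₂ + d • T w₂ with hy
  have hy1 : y = -(a • w₁ + b • T w₁) := by
    rw [eq_neg_iff_add_eq_zero, hy, ← hs]
    abel
  have hTy1 : T y = -(a • T w₁ + b • (τ₁ • T w₁ + n₁ • w₁)) := by
    rw [hy1]
    simp only [map_neg, map_add, map_smul, h₁]
  have hTy2 : T y = (d * n₂) • w₂ + (c + d * τ₂) • T w₂ := by
    rw [hy]
    simp only [map_add, map_smul, h₂]
    module
  by_cases hy0 : y = 0
  · have e1 := hl₂ c d hy0
    rw [hy0] at hy1
    have e2 := hl₁ a b (by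
      have := hy1.symm
      rwa [neg_eq_zero] at this)
    exact ⟨e2.1, e2.2, e1.1, e1.2⟩
  · exfalso
    -- the determinant
    set Δ := c * (c + d * τ₂) - d * (d * n₂) with hΔ
    have h4 : Δ • w₂ = (c + d * τ₂) • y - d • T y := by
      rw [hTy2, hy, hΔ]
      module
    by_cases hΔ0 : Δ = 0
    · rw [hΔ0, zero_smul] at h4
      have h5 : d • T y = (c + d * τ₂) • y := (sub_eq_zero.1 h4.symm).symm
      by_cases hd0 : d = 0
      · rw [hd0] at h5
        simp only [zero_smul, mul_zero, zero_mul, add_zero] at h5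
        rcases smul_eq_zero.1 h5.symm with h6 | h6
        · apply hy0
          rw [hy, h6, hd0]
          simp
        · exact hy0 h6
      · apply hno y (d⁻¹ * (c + d * τ₂)) hy0
        have : T y = d⁻¹ • (d • T y) := by rw [smul_smul, inv_mul_cancel₀ hd0, one_smul]
        rw [this, h5, smul_smul]
    · apply hw₂
      have e : w₂ = Δ⁻¹ • (Δ • w₂) := by rw [smul_smul, inv_mul_cancel₀ hΔ0, one_smul]
      rw [e, h4, hTy1, hy1]
      rw [Submodule.mem_span_pair]
      refine ⟨Δ⁻¹ * (-(c + d * τ₂) * a + d * (b * n₁)),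
        Δ⁻¹ * (-(c + d * τ₂) * b + d * (a + b * τ₁)), ?_⟩
      module

/-- From `u, T u, T² u` independent to two independent pairs. -/
lemma exists_li4_of_li3 {T : V →ₗ[F] V} {u : V} (h : LinearIndependent F ![u, T u, T (T u)])
    (hd : 4 ≤ Module.finrank F V) : ∃ u₂, LinearIndependent F ![u, T u, u₂, T u₂] := by
  obtain ⟨z, hz⟩ := exists_notMem_triple hd u (T u) (T (T u))
  have h4 := li4_of_notMem h hz
  rw [li4_iff] at h4
  by_cases hc : LinearIndependent F ![u, T u, z, T z]
  · exact ⟨z, hc⟩
  rw [li4_iff] at hc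
  push Not at hc
  obtain ⟨a, b, c, d, hs, hne⟩ := hc
  have hd0 : d ≠ 0 := by
    rintro rfl
    have := h4 c a b 0 (by rw [← hs]; module)
    exact hne this.2.1 this.2.2.1 this.1 rfl
  set η := -(d⁻¹ * c) with hη
  set a' := -(d⁻¹ * a) with ha'
  set b' := -(d⁻¹ * b) with hb'
  have hTz : T z = η • z + a' • u + b' • T u := by
    have h1 : d • T z = -(a • u + b • T u + c • z) := eq_neg_of_add_eq_zero_right hs
    have : T z = d⁻¹ • (d • T z) := by rw [smul_smul, inv_mul_cancel₀ hd0, one_smul]
    rw [this, h1, hη, ha', hb']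
    module
  refine ⟨z + T u, ?_⟩
  rw [li4_iff]
  intro A B C D hs2
  simp only [map_add, hTz] at hs2
  have h5 := h4 (C + D * η) (A + D * a') (B + C + D * b') D (by
    rw [← hs2]
    module)
  have hD := h5.2.2.2
  have hC : C = 0 := by
    have := h5.1
    rw [hD] at this
    simpa using this
  have hA : A = 0 := by
    have := h5.2.1
    rw [hD] at this
    simpa using this
  have hB : B = 0 := by
    have := h5.2.2.1
    rw [hD, hC] at this
    simpa using this
  exact ⟨hA, hB, hC, hD⟩

end Cfsg.Agent.Lib.Classical.EigLin
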