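/-
The Frobenius semisimilarity of the minus type form, and the outer automorphism group in characteristic two.
-/
import Mathlib
import Cfsg.Agent.Lib.Classical.OmegaOut
import Cfsg.Agent.Lib.Classical.QuadExt
import Cfsg.Agent.Lib.Orth.Trans

set_option autoImplicit false
set_option linter.unusedSimpArgs false
set_option linter.unusedSectionVars false
set_option linter.style.haveILetI false
set_option linter.unusedVariables false

namespace Cfsg.Agent.Lib.Classical.OmegaFrob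

open Module MulAction QuadraticMap Cfsg.Agent.Lib.Witt.Quadratic Cfsg.Agent.Lib.Orth.Refl
open Cfsg.Agent.Lib.Orth.Gen Cfsg.Agent.Lib.OrthRefl.Eichler Cfsg.Agent.Lib.Classical.QuadEichler
open Cfsg.Agent.Lib.Classical.QuadEichSimple Cfsg.Agent.Lib.Classical.OmegaHP Cfsg.Agent.Lib.Classical.OmegaLocal
open Cfsg.Agent.Lib.Classical.OmegaRoot Cfsg.Agent.Lib.Classical.OmegaSemi Cfsg.Agent.Lib.Classical.OmegaConj
open Cfsg.Agent.Lib.Classical.OmegaBar Cfsg.Agent.Lib.Classical.OmegaAut Cfsg.Agent.Lib.Classical.OmegaCount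
open Cfsg.Agent.Lib.Orth.Forms Cfsg.Agent.Lib.Classical.BinaryForms Cfsg.Agent.Lib.Classical.QuadEichBridge
open Cfsg.Agent.Lib.Classical.OmegaForms Cfsg.Agent.Lib.Classical.OmegaOut
open Cfsg.Agent.Lib.Classical.QuadExt
open scoped commutatorElement

universe u

variable {F : Type u} [Field F] [Fintype F]

section frobenius

/-- The power of Frobenius as a field automorphism. -/
noncomputable def frobE (p : ℕ) [Fact p.Prime] [CharP F p] (j : ℕ) : F ≃+* F :=
  RingEquiv.ofBijective (iterateFrobenius F p j)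
    ⟨(iterateFrobenius F p j).injective, Finite.surjective_of_injective (iterateFrobenius F p j).injective⟩

theorem frobE_apply (p : ℕ) [Fact p.Prime] [CharP F p] (j : ℕ) (x : F) : frobE p j x = x ^ p ^ j :=
  iterateFrobenius_def p j x

theorem frobE_succ (p : ℕ) [Fact p.Prime] [CharP F p] (j : ℕ) : frobE (F := F) p (j + 1) = frobE p j * frobE p 1 := by
  ext x
  show frobE p (j + 1) x = frobE p j (frobE p 1 x)
  rw [frobE_apply, frobE_apply, frobE_apply, pow_one, ← pow_mul, pow_succ, mul_comm]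

theorem frobE_eq_pow (p : ℕ) [Fact p.Prime] [CharP F p] (j : ℕ) : frobE (F := F) p j = (frobE p 1) ^ j := by
  induction j with
  | zero =>
    ext x
    rw [frobE_apply, pow_zero, pow_one]
    rfl
  | succ j ih => rw [frobE_succ, ih, pow_succ]

/-- The order of the Frobenius. -/
theorem orderOf_frobE {p f : ℕ} [hp : Fact p.Prime] [CharP F p] (hF : Fintype.card F = p ^ f) (hf : 1 ≤ f) :
    orderOf (frobE (F := F) p 1) = f := by
  classical
  have hc : Nat.card (F ≃+* F) = f := Cfsg.Agent.Lib.KS71.PSLAutGroup.card_ringEquiv hF hf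
  have h1 : orderOf (frobE (F := F) p 1) ∣ f := by
    rw [← hc]
    exact orderOf_dvd_natCard _
  have h2 : f ≤ orderOf (frobE (F := F) p 1) := by
    set n := orderOf (frobE (F := F) p 1) with hn
    have hn0 : 0 < n := Nat.pos_of_dvd_of_pos h1 (by omega)
    have h3 : frobE (F := F) p n = 1 := by
      rw [frobE_eq_pow, hn, pow_orderOf_eq_one]
    have hroot : ∀ x : F, x ^ p ^ n = x := fun x => by
      rw [← frobE_apply, h3]
      rfl
    have hpp : 2 ≤ p := hp.out.two_le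
    have hq : 1 < p ^ n := Nat.one_lt_pow (by omega) (by omega)
    let P : Polynomial F := Polynomial.X ^ p ^ n - Polynomial.X
    have hP : P ≠ 0 := FiniteField.X_pow_card_pow_sub_X_ne_zero F (by omega) (by omega)
    have hsub : (Finset.univ : Finset F) ⊆ P.roots.toFinset := by
      intro x _
      rw [Multiset.mem_toFinset, Polynomial.mem_roots hP]
      simp [P, hroot]
    have h1 := Finset.card_le_card hsub
    have h2 := Multiset.toFinset_card_le P.roots
    have h3 := Polynomial.card_roots' P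
    have hdeg : P.natDegree = p ^ n := FiniteField.X_pow_card_pow_sub_X_natDegree_eq F (by omega) (by omega)
    rw [Finset.card_univ, hF] at h1
    have h4 : p ^ f ≤ p ^ n := by omega
    exact (Nat.pow_le_pow_iff_right (by omega)).1 h4
  exact le_antisymm (Nat.le_of_dvd (by omega) h1) h2

end frobenius

section minus

variable {k : ℕ} {a b : F}

/-- The quadratic extension attached to the binary form. -/
abbrev EE (a b : F) := QuadraticAlgebra F (-b) a

theorem fact_hab (hab : ∀ z₁ z₂ : F, z₁ ^ 2 + a * z₁ * z₂ + b * z₂ ^ 2 = 0 → z₁ = 0 ∧ z₂ = 0) :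
    Fact (∀ r : F, r ^ 2 ≠ -b + a * r) :=
  ⟨fun r h => by
    have h1 := hab (-r) 1 (by linear_combination h)
    exact one_ne_zero h1.2⟩

/-- The element of the quadratic extension of a vector. -/
def toE (v : (Fin k ⊕ Fin k) ⊕ Fin 2 → F) : EE a b := ⟨v (Sum.inr 0), v (Sum.inr 1)⟩

theorem norm_toE (v : (Fin k ⊕ Fin k) ⊕ Fin 2 → F) :
    QuadraticAlgebra.norm (toE (a := a) (b := b) v) = v (Sum.inr 0) ^ 2 + a * v (Sum.inr 0) * v (Sum.inr 1) + b * v (Sum.inr 1) ^ 2 := by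
  rw [QuadraticAlgebra.norm_def]
  simp only [toE]
  ring

/-- The Frobenius power on the vectors. -/
noncomputable def gFun (p : ℕ) [Fact p.Prime] [CharP F p] (j : ℕ) (a b : F) :
    ((Fin k ⊕ Fin k) ⊕ Fin 2 → F) → ((Fin k ⊕ Fin k) ⊕ Fin 2 → F) := fun v =>
  Sum.elim (fun i => v (Sum.inl i) ^ p ^ j) ![((toE (a := a) (b := b) v) ^ p ^ j).re, ((toE (a := a) (b := b) v) ^ p ^ j).im]

variable (p : ℕ) [hp : Fact p.Prime] [hc : CharP F p]

instance instCharPEE : CharP (EE a b) p :=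
  charP_of_injective_algebraMap (algebraMap F (EE a b)).injective p

theorem pow_add_E (j : ℕ) (x y : EE a b) : (x + y) ^ p ^ j = x ^ p ^ j + y ^ p ^ j :=
  add_pow_char_pow x y p j

theorem pow_smul_E (j : ℕ) (c : F) (x : EE a b) : (c • x) ^ p ^ j = c ^ p ^ j • x ^ p ^ j :=
  smul_pow c x _

theorem gFun_inl (j : ℕ) (v : (Fin k ⊕ Fin k) ⊕ Fin 2 → F) (i : Fin k ⊕ Fin k) :
    gFun p j a b v (Sum.inl i) = v (Sum.inl i) ^ p ^ j := rfl

theorem gFun_inr0 (j : ℕ) (v : (Fin k ⊕ Fin k) ⊕ Fin 2 → F) :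
    gFun p j a b v (Sum.inr 0) = ((toE (a := a) (b := b) v) ^ p ^ j).re := rfl

theorem gFun_inr1 (j : ℕ) (v : (Fin k ⊕ Fin k) ⊕ Fin 2 → F) :
    gFun p j a b v (Sum.inr 1) = ((toE (a := a) (b := b) v) ^ p ^ j).im := rfl

theorem toE_gFun (j : ℕ) (v : (Fin k ⊕ Fin k) ⊕ Fin 2 → F) :
    toE (a := a) (b := b) (gFun p j a b v) = (toE (a := a) (b := b) v) ^ p ^ j := rfl

theorem toE_add (v w : (Fin k ⊕ Fin k) ⊕ Fin 2 → F) :
    toE (a := a) (b := b) (v + w) = toE v + toE w := rfl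

theorem toE_smul (c : F) (v : (Fin k ⊕ Fin k) ⊕ Fin 2 → F) :
    toE (a := a) (b := b) (c • v) = c • toE v := rfl

theorem gFun_add (j : ℕ) (v w : (Fin k ⊕ Fin k) ⊕ Fin 2 → F) :
    gFun p j a b (v + w) = gFun p j a b v + gFun p j a b w := by
  ext (i | i)
  · rw [gFun_inl, Pi.add_apply, Pi.add_apply, gFun_inl, gFun_inl, add_pow_char_pow (v (Sum.inl i)) (w (Sum.inl i)) p j]
  · fin_cases i
    · show gFun p j a b (v + w) (Sum.inr 0) = gFun p j a b v (Sum.inr 0) + gFun p j a b w (Sum.inr 0)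
      rw [gFun_inr0, gFun_inr0, gFun_inr0, toE_add, pow_add_E]
      rfl
    · show gFun p j a b (v + w) (Sum.inr 1) = gFun p j a b v (Sum.inr 1) + gFun p j a b w (Sum.inr 1)
      rw [gFun_inr1, gFun_inr1, gFun_inr1, toE_add, pow_add_E]
      rfl

theorem gFun_smul (j : ℕ) (c : F) (v : (Fin k ⊕ Fin k) ⊕ Fin 2 → F) :
    gFun p j a b (c • v) = frobE p j c • gFun p j a b v := by
  rw [frobE_apply]
  ext (i | i)
  · rw [gFun_inl, Pi.smul_apply, Pi.smul_apply, gFun_inl, smul_eq_mul, smul_eq_mul, mul_pow]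
  · fin_cases i
    · show gFun p j a b (c • v) (Sum.inr 0) = c ^ p ^ j * gFun p j a b v (Sum.inr 0)
      rw [gFun_inr0, gFun_inr0, toE_smul, pow_smul_E]
      simp
    · show gFun p j a b (c • v) (Sum.inr 1) = c ^ p ^ j * gFun p j a b v (Sum.inr 1)
      rw [gFun_inr1, gFun_inr1, toE_smul, pow_smul_E]
      simp

theorem Q_gFun (j : ℕ) (v : (Fin k ⊕ Fin k) ⊕ Fin 2 → F) :
    minusForm k F a b (gFun p j a b v) = frobE p j (minusForm k F a b v) := by
  rw [frobE_apply]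
  show Cfsg.quadFormMinus k F a b _ = (Cfsg.quadFormMinus k F a b v) ^ p ^ j
  simp only [Cfsg.quadFormMinus]
  have h1 := norm_toE (a := a) (b := b) (gFun p j a b v)
  have h2 := norm_toE (a := a) (b := b) v
  rw [toE_gFun, map_pow] at h1
  rw [← h1, add_pow_char_pow, ← h2, sum_pow_char_pow]
  congr 1
  refine Finset.sum_congr rfl fun i _ => ?_
  rw [mul_pow]
  rfl

/-- The Frobenius power as an additive map. -/
noncomputable def gAdd (j : ℕ) (a b : F) : ((Fin k ⊕ Fin k) ⊕ Fin 2 → F) →+ ((Fin k ⊕ Fin k) ⊕ Fin 2 → F) :=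
  AddMonoidHom.mk' (gFun p j a b) (gFun_add p j)

theorem exists_semi_g (hab : ∀ z₁ z₂ : F, z₁ ^ 2 + a * z₁ * z₂ + b * z₂ ^ 2 = 0 → z₁ = 0 ∧ z₂ = 0) (j : ℕ) :
    ∃ g : ((Fin k ⊕ Fin k) ⊕ Fin 2 → F) ≃+ ((Fin k ⊕ Fin k) ⊕ Fin 2 → F), (∀ x, g x = gFun p j a b x) ∧
      Semi (minusForm k F a b) g (frobE p j) 1 :=
  exists_semi_of_fun (minusForm_nondeg k hab) (gAdd p j a b) (frobE p j) 1 one_ne_zero (gFun_smul p j)
    (fun x => by
      rw [one_mul]
      exact Q_gFun p j x)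

/-- The Frobenius semisimilarity of the minus type form. -/
noncomputable def g0 (k : ℕ) (hab : ∀ z₁ z₂ : F, z₁ ^ 2 + a * z₁ * z₂ + b * z₂ ^ 2 = 0 → z₁ = 0 ∧ z₂ = 0) :
    SemiEl (minusForm k F a b) :=
  ⟨(exists_semi_g p hab 1).choose, _, _, (exists_semi_g p hab 1).choose_spec.2⟩

theorem g0_apply (hab : ∀ z₁ z₂ : F, z₁ ^ 2 + a * z₁ * z₂ + b * z₂ ^ 2 = 0 → z₁ = 0 ∧ z₂ = 0)
    (x : (Fin k ⊕ Fin k) ⊕ Fin 2 → F) : (g0 p k hab).1 x = gFun p 1 a b x :=
  (exists_semi_g p hab 1).choose_spec.1 x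

theorem gFun_comp (i j : ℕ) (x : (Fin k ⊕ Fin k) ⊕ Fin 2 → F) :
    gFun p i a b (gFun p j a b x) = gFun p (i + j) a b x := by
  ext (l | l)
  · rw [gFun_inl, gFun_inl, gFun_inl, ← pow_mul, pow_add, mul_comm]
  · fin_cases l
    · show gFun p i a b (gFun p j a b x) (Sum.inr 0) = gFun p (i + j) a b x (Sum.inr 0)
      rw [gFun_inr0, gFun_inr0, toE_gFun, ← pow_mul, pow_add, mul_comm]
    · show gFun p i a b (gFun p j a b x) (Sum.inr 1) = gFun p (i + j) a b x (Sum.inr 1)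
      rw [gFun_inr1, gFun_inr1, toE_gFun, ← pow_mul, pow_add, mul_comm]

theorem g0_pow_apply (hab : ∀ z₁ z₂ : F, z₁ ^ 2 + a * z₁ * z₂ + b * z₂ ^ 2 = 0 → z₁ = 0 ∧ z₂ = 0) (j : ℕ)
    (x : (Fin k ⊕ Fin k) ⊕ Fin 2 → F) : ((g0 p k hab) ^ j).1 x = gFun p j a b x := by
  induction j generalizing x with
  | zero =>
    ext (l | l)
    · simp [gFun_inl]
    · fin_cases l
      · show x (Sum.inr 0) = gFun p 0 a b x (Sum.inr 0)
        rw [gFun_inr0, pow_zero, pow_one]
        rfl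
      · show x (Sum.inr 1) = gFun p 0 a b x (Sum.inr 1)
        rw [gFun_inr1, pow_zero, pow_one]
        rfl
  | succ j ih =>
    rw [pow_succ, SemiEl.mul_apply, ih, g0_apply, gFun_comp]

/-- The reflection which is the `f`-th power of the Frobenius. -/
def wVec (k : ℕ) (a : F) : (Fin k ⊕ Fin k) ⊕ Fin 2 → F := Sum.elim 0 ![a, -2]

theorem Q_wVec (b : F) : minusForm k F a b (wVec k a) = 4 * b - a ^ 2 := by
  show Cfsg.quadFormMinus k F a b _ = _
  simp [Cfsg.quadFormMinus, wVec]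
  ring

theorem polar_wVec (v : (Fin k ⊕ Fin k) ⊕ Fin 2 → F) :
    polar (minusForm k F a b) v (wVec k a) = (a ^ 2 - 4 * b) * v (Sum.inr 1) := by
  rw [polar, Q_wVec]
  show Cfsg.quadFormMinus k F a b _ - Cfsg.quadFormMinus k F a b _ - _ = _
  simp [Cfsg.quadFormMinus, wVec]
  ring

theorem gFun_eq_refl {f : ℕ} (hF : Fintype.card F = p ^ f) (hab : ∀ z₁ z₂ : F, z₁ ^ 2 + a * z₁ * z₂ + b * z₂ ^ 2 = 0 → z₁ = 0 ∧ z₂ = 0)
    (v : (Fin k ⊕ Fin k) ⊕ Fin 2 → F) : gFun p f a b v = refl (minusForm k F a b) (wVec k a) v := by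
  haveI := fact_hab hab
  have hD : 4 * b - a ^ 2 ≠ 0 := disc_ne_zero_of_anisotropic hab
  have h1 : ∀ (c : F), (4 * b - a ^ 2)⁻¹ * ((a ^ 2 - 4 * b) * c) = -c := by
    intro c
    field_simp
    ring
  rw [refl_apply, polar_wVec, Q_wVec, h1]
  have h2 : (toE (a := a) (b := b) v) ^ p ^ f = star (toE v) := by
    rw [← hF]
    exact pow_q_eq_star _
  ext (l | l)
  · rw [gFun_inl, ← hF, FiniteField.pow_card]
    simp [wVec]
  · fin_cases l
    · show gFun p f a b v (Sum.inr 0) = _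
      rw [gFun_inr0, h2]
      simp [wVec, toE]
      ring
    · show gFun p f a b v (Sum.inr 1) = _
      rw [gFun_inr1, h2]
      simp [wVec, toE]
      ring

end minus

section char_two

variable {k : ℕ} {a b : F}

/-- Elements of the Eichler group have even Dickson invariant. -/
theorem rp_eGroup {ι : Type} [Fintype ι] [DecidableEq ι] (Q : QuadraticForm F (ι → F)) (hQ : (polarBilin Q).Nondegenerate)
    (hn : 5 ≤ Fintype.card ι) (t : eGroup Q) : Cfsg.Agent.Lib.Orth.Spin.rp t.1 = 0 := by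
  have hgen := Cfsg.Agent.Lib.Orth.Bridge.hgen Q hQ (Or.inr (by omega))
  have ht : t.1 ∈ ⁅isoGroup Q, isoGroup Q⁆ := by
    rw [← eGroup_eq_commutator hQ (by rw [finrank_eq]; exact hn)]
    exact t.2
  rw [← Subgroup.map_subtype_commutator] at ht
  obtain ⟨t', ht', h⟩ := ht
  have := Cfsg.Agent.Lib.Orth.Omega.rp_sn_of_mem_commutator hQ hgen ht'
  rw [← h]
  exact this.1

/-- The outer automorphism group of `PΩ⁻_{2m}(2^f)`. -/
theorem out_minus_two {f m : ℕ} (hf : 1 ≤ f) (hF : Fintype.card F = 2 ^ f) (hm : 4 ≤ m)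
    (hab : ∀ z₁ z₂ : F, z₁ ^ 2 + a * z₁ * z₂ + b * z₂ ^ 2 = 0 → z₁ = 0 ∧ z₂ = 0) :
    IsCyclic (Cfsg.Out (Cfsg.POmega F (Cfsg.quadFormMinus (m - 1) F a b))) ∧
      Nat.card (Cfsg.Out (Cfsg.POmega F (Cfsg.quadFormMinus (m - 1) F a b))) = 2 * f := by
  haveI : Fact (Nat.Prime 2) := ⟨Nat.prime_two⟩
  haveI : CharP F 2 := charP_of_card hF hf
  set Q := minusForm (m - 1) F a b with hQdef
  have hQ : (polarBilin Q).Nondegenerate := minusForm_nondeg (m - 1) hab
  have hn : 7 ≤ Fintype.card ((Fin (m - 1) ⊕ Fin (m - 1)) ⊕ Fin 2) := by simp; omega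
  have hn7 : 7 ≤ finrank F ((Fin (m - 1) ⊕ Fin (m - 1)) ⊕ Fin 2 → F) := by rw [finrank_eq]; exact hn
  haveI : Nontrivial ((Fin (m - 1) ⊕ Fin (m - 1)) ⊕ Fin 2 → F) := Module.nontrivial_of_finrank_pos (R := F) (by omega)
  have h8 : NoSolid Q := fun W hW hdim => (no_half_minus hab W hW hdim).elim
  have hcard : Nat.card (Cfsg.Out (Cfsg.POmega F ⇑Q)) = 2 * f := by
    have h1 := card_out_POmega Q hQ hn
    have h3 := card_aut_minus (F := F) hf hF m hm a b hab
    simp only [if_true] at h3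
    change Nat.card (MulAut (Cfsg.POmega F ⇑Q)) = 2 * f * Nat.card (Cfsg.POmega F ⇑Q) at h3
    rw [h3] at h1
    exact Nat.eq_of_mul_eq_mul_right Nat.card_pos h1
  refine ⟨?_, hcard⟩
  let e := outCongr (pOmegaEquiv Q hQ (by omega))
  have hcard' : Nat.card (Cfsg.Out (Gbar Q)) = 2 * f := by
    rw [← hcard]
    exact Nat.card_congr e.toEquiv.symm
  haveI : Finite (Cfsg.Out (Gbar Q)) := by
    apply Nat.finite_of_card_ne_zero
    rw [hcard']
    omega
  let π := thetaOut hQ 2 hn7 h8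
  set g₀ := g0 2 (m - 1) hab with hg₀
  set ξ := outHom Q g₀ with hξ
  have hπ : π ξ = frobE 2 1 := by
    show thetaOut hQ 2 hn7 h8 (outHom Q g₀) = _
    rw [thetaOut_apply]
    exact thetaHom_eq _ (exists_semi_g 2 hab 1).choose_spec.2
  have hdvd1 : f ∣ orderOf ξ := by
    rw [← orderOf_frobE (F := F) (p := 2) hF hf, ← hπ]
    exact orderOf_dvd_of_pow_eq_one (by rw [← map_pow, pow_orderOf_eq_one, map_one])
  have hdvd2 : orderOf ξ ∣ 2 * f := by
    rw [← hcard']
    exact orderOf_dvd_natCard ξ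
  have hne : ξ ^ f ≠ 1 := by
    intro h1
    rw [hξ, ← map_pow] at h1
    obtain ⟨c, t, hc0, hc⟩ := (mem_ker_outHom hQ 2 (by omega)).1 h1
    have hrefl : ∀ x, refl Q (wVec (m - 1) a) x = c • t.1 x := by
      intro x
      rw [← hc, g0_pow_apply, gFun_eq_refl 2 hF hab]
    have hc1 : c = 1 := by
      obtain ⟨x, hx⟩ := Cfsg.Agent.Lib.Orth.Closure.exists_nonsingular (Q := Q) hQ
      have h2 := congrArg Q (hrefl x)
      rw [QuadraticMap.map_smul, eGroup_le_iso t.2 x, refl_mem Q _ x, smul_eq_mul] at h2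
      have h3 : (c * c - 1) * Q x = 0 := by rw [sub_mul, ← h2]; ring
      have h4 : c * c = 1 := sub_eq_zero.1 ((mul_eq_zero.1 h3).resolve_right hx)
      have h5 : (c - 1) * (c - 1) = 0 := by
        have h6 : (2 : F) = 0 := by exact_mod_cast CharP.cast_eq_zero F 2
        linear_combination h4 + (1 - c) * h6
      have h7 := mul_self_eq_zero.1 h5
      exact sub_eq_zero.1 h7
    have h2 : refl Q (wVec (m - 1) a) = t.1 := by
      ext1 x
      rw [hrefl, hc1, one_smul]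
    have h3 := rp_eGroup Q hQ (by omega) t
    rw [← h2, Cfsg.Agent.Lib.Orth.Trans.rp_refl hQ (by
      rw [Q_wVec]
      exact disc_ne_zero_of_anisotropic hab)] at h3
    exact one_ne_zero h3
  have hord : orderOf ξ = 2 * f := by
    obtain ⟨d, hd⟩ := hdvd1
    obtain ⟨c, hc⟩ := hdvd2
    have h1 : 2 = d * c := by
      have : f * 2 = f * (d * c) := by
        rw [mul_comm f 2, hc, hd]
        ring
      exact Nat.eq_of_mul_eq_mul_left (by omega) this
    have hd2 : d = 1 ∨ d = 2 := by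
      have : d ∣ 2 := ⟨c, h1⟩
      exact (Nat.dvd_prime Nat.prime_two).1 this
    rcases hd2 with rfl | rfl
    · exfalso
      apply hne
      rw [mul_one] at hd
      rw [← hd, pow_orderOf_eq_one]
    · rw [hd]
      ring
  haveI : IsCyclic (Cfsg.Out (Gbar Q)) := isCyclic_of_orderOf_eq_card ξ (by rw [hord, hcard'])
  exact isCyclic_of_surjective e.symm e.symm.surjective

end char_two

end Cfsg.Agent.Lib.Classical.OmegaFrob
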