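/-
The conformal orthogonal group acting on `PΩ`.
-/
import Mathlib
import Cfsg.Agent.Lib.Classical.OmegaFrob
import Cfsg.Prelude.Def_LieTypeDatum
import Cfsg.Agent.Lib.PGroups.Presentations

set_option autoImplicit false
set_option linter.unusedSimpArgs false
set_option linter.unusedSectionVars false
set_option linter.style.haveILetI false
set_option linter.unusedVariables false

namespace Cfsg.Agent.Lib.Classical.OmegaPGO

open Module MulAction QuadraticMap Matrix Cfsg.Agent.Lib.Witt.Quadratic Cfsg.Agent.Lib.Orth.Refl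
open Cfsg.Agent.Lib.Orth.Gen Cfsg.Agent.Lib.OrthRefl.Eichler Cfsg.Agent.Lib.Classical.QuadEichler
open Cfsg.Agent.Lib.Classical.QuadEichSimple Cfsg.Agent.Lib.Classical.OmegaHP Cfsg.Agent.Lib.Classical.OmegaLocal
open Cfsg.Agent.Lib.Classical.OmegaRoot Cfsg.Agent.Lib.Classical.OmegaSemi Cfsg.Agent.Lib.Classical.OmegaConj
open Cfsg.Agent.Lib.Classical.OmegaBar Cfsg.Agent.Lib.Classical.OmegaAut Cfsg.Agent.Lib.Classical.OmegaCount
open Cfsg.Agent.Lib.Orth.Forms Cfsg.Agent.Lib.Classical.BinaryForms Cfsg.Agent.Lib.Classical.QuadEichBridge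
open Cfsg.Agent.Lib.Classical.OmegaForms Cfsg.Agent.Lib.Classical.OmegaOut Cfsg.Agent.Lib.Orth.Bridge
open Cfsg.Agent.Lib.Classical.MatrixBridge Cfsg.Agent.Lib.Classical.SympSimple
open scoped commutatorElement

universe u

variable {F : Type u} [Field F] {ι : Type} [Fintype ι] [DecidableEq ι]

section conj

variable {Q : (ι → F) → F}

/-- Similarities of a form. -/
abbrev Hs (Q : (ι → F) → F) : Subgroup (GL ι F) := Cfsg.Geo.quadSimilarityGroup (F := F) Q

theorem isometry_le_Hs : Cfsg.isometryGroup F Q ≤ Hs Q := fun g hg =>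
  ⟨1, fun v => by
    rw [Units.val_one, one_mul]
    exact (mem_isometryGroup_iff Q g).1 hg v⟩

theorem conj_mem_isometry (g : Hs Q) (s : Cfsg.isometryGroup F Q) :
    (g : GL ι F) * s * (g : GL ι F)⁻¹ ∈ Cfsg.isometryGroup F Q := by
  rw [mem_isometryGroup_iff]
  intro v
  obtain ⟨c, hc⟩ := g.2
  have h1 := hc ((s : GL ι F).val *ᵥ (((g : GL ι F)⁻¹ : GL ι F).val *ᵥ v))
  have h2 := (mem_isometryGroup_iff Q s.1).1 s.2 (((g : GL ι F)⁻¹ : GL ι F).val *ᵥ v)
  have h3 := hc (((g : GL ι F)⁻¹ : GL ι F).val *ᵥ v)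
  rw [h2, ← h3] at h1
  have e1 : (((g : GL ι F) * s * (g : GL ι F)⁻¹ : GL ι F) : Matrix ι ι F) *ᵥ v =
      (g : GL ι F).val *ᵥ ((s : GL ι F).val *ᵥ (((g : GL ι F)⁻¹ : GL ι F).val *ᵥ v)) := by
    simp [Matrix.mulVec_mulVec, Units.val_mul, Matrix.mul_assoc]
  rw [e1, h1, Matrix.mulVec_mulVec, ← Units.val_mul, mul_inv_cancel, Units.val_one, Matrix.one_mulVec]

/-- Conjugation on the isometry group. -/
def conjI (g : Hs Q) : Cfsg.isometryGroup F Q ≃* Cfsg.isometryGroup F Q where
  toFun s := ⟨_, conj_mem_isometry g s⟩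
  invFun s := ⟨_, conj_mem_isometry g⁻¹ s⟩
  left_inv s := by
    apply Subtype.ext
    simp [mul_assoc]
  right_inv s := by
    apply Subtype.ext
    simp [mul_assoc]
  map_mul' s t := by
    apply Subtype.ext
    simp [mul_assoc]

@[simp] theorem conjI_coe (g : Hs Q) (s : Cfsg.isometryGroup F Q) :
    ((conjI g s : Cfsg.isometryGroup F Q) : GL ι F) = (g : GL ι F) * s * (g : GL ι F)⁻¹ := rfl

theorem conjI_mem_Omega (g : Hs Q) (s : Cfsg.isometryGroup F Q) (hs : s ∈ Cfsg.Omega F Q) : conjI g s ∈ Cfsg.Omega F Q :=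
  (mem_commutator_equiv (conjI g) s).1 hs

/-- Conjugation on `Ω`. -/
def conjO (g : Hs Q) : Cfsg.Omega F Q ≃* Cfsg.Omega F Q where
  toFun s := ⟨conjI g s.1, conjI_mem_Omega g s.1 s.2⟩
  invFun s := ⟨conjI g⁻¹ s.1, conjI_mem_Omega g⁻¹ s.1 s.2⟩
  left_inv s := by
    apply Subtype.ext
    apply Subtype.ext
    simp [mul_assoc]
  right_inv s := by
    apply Subtype.ext
    apply Subtype.ext
    simp [mul_assoc]
  map_mul' s t := by
    apply Subtype.ext
    exact map_mul (conjI g) s.1 t.1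

@[simp] theorem conjO_coe (g : Hs Q) (s : Cfsg.Omega F Q) :
    (((conjO g s : Cfsg.Omega F Q) : Cfsg.isometryGroup F Q) : GL ι F) = (g : GL ι F) * (s : Cfsg.isometryGroup F Q) * (g : GL ι F)⁻¹ := rfl

/-- The quotient map. -/
abbrev mkP (Q : (ι → F) → F) : Cfsg.Omega F Q →* Cfsg.POmega F Q := QuotientGroup.mk' _

/-- Conjugation on `PΩ`. -/
noncomputable def conjP (g : Hs Q) : Cfsg.POmega F Q ≃* Cfsg.POmega F Q := quotientCenterEquiv (conjO g)

@[simp] theorem conjP_mk (g : Hs Q) (s : Cfsg.Omega F Q) : conjP g (mkP Q s) = mkP Q (conjO g s) := rfl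

/-- The action of similarities on `PΩ`. -/
noncomputable def conjHom (Q : (ι → F) → F) : Hs Q →* MulAut (Cfsg.POmega F Q) where
  toFun := conjP
  map_one' := by
    ext x
    obtain ⟨s, rfl⟩ := QuotientGroup.mk'_surjective _ x
    show mkP Q (conjO 1 s) = mkP Q s
    congr 1
    apply Subtype.ext
    apply Subtype.ext
    simp
  map_mul' a b := by
    ext x
    obtain ⟨s, rfl⟩ := QuotientGroup.mk'_surjective _ x
    show mkP Q (conjO (a * b) s) = mkP Q (conjO a (conjO b s))
    congr 1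
    apply Subtype.ext
    apply Subtype.ext
    simp [mul_assoc]

@[simp] theorem conjHom_mk (g : Hs Q) (s : Cfsg.Omega F Q) : conjHom Q g (mkP Q s) = mkP Q (conjO g s) := rfl

/-- Elements of `Ω` as similarities. -/
def omegaToHs (s : Cfsg.Omega F Q) : Hs Q := ⟨s.1.1, isometry_le_Hs s.1.2⟩

theorem conjHom_omega (s : Cfsg.Omega F Q) : conjHom Q (omegaToHs s) = MulAut.conj (mkP Q s) := by
  ext x
  obtain ⟨t, rfl⟩ := QuotientGroup.mk'_surjective _ x
  rw [MulAut.conj_apply]
  show mkP Q (conjO (omegaToHs s) t) = mkP Q s * mkP Q t * (mkP Q s)⁻¹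
  rw [← map_inv, ← map_mul, ← map_mul]
  congr 1

/-- Being induced by a similarity means being the conjugation. -/
theorem induced_iff (g : Hs Q) (β : Cfsg.POmega F Q ≃* Cfsg.POmega F Q) :
    Cfsg.IsInducedBySemilinearPOmega Q g.1 (RingEquiv.refl F) β ↔ β = conjHom Q g := by
  constructor
  · intro h
    ext x
    obtain ⟨s, rfl⟩ := QuotientGroup.mk'_surjective _ x
    refine h s (conjO g s) ?_
    rw [conjO_coe]
    simp
  · rintro rfl s s' hs
    have : conjO g s = s' := by
      apply Subtype.ext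
      apply Subtype.ext
      apply Units.ext
      rw [hs]
      simp
    show mkP Q (conjO g s) = mkP Q s'
    rw [this]

/-- The image of the conformal group. -/
theorem pgoAut_eq : Cfsg.pgoAut F Q = (conjHom Q).range := by
  apply le_antisymm
  · apply (Subgroup.closure_le _).2
    rintro β ⟨g, hg, hβ⟩
    exact ⟨⟨g, hg⟩, ((induced_iff ⟨g, hg⟩ β).1 hβ).symm⟩
  · rintro β ⟨g, rfl⟩
    exact Subgroup.subset_closure ⟨g.1, g.2, (induced_iff g _).2 rfl⟩

/-- The subgroup of the similarities given by isometries of determinant one. -/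
def soH (Q : (ι → F) → F) : Subgroup (Hs Q) := (Cfsg.specialIsometryGL F Q).subgroupOf (Hs Q)

theorem special_le_Hs : Cfsg.specialIsometryGL F Q ≤ Hs Q := inf_le_left.trans isometry_le_Hs

/-- The image of the special orthogonal group. -/
theorem psoAut_eq : Cfsg.psoAut F Q = (soH Q).map (conjHom Q) := by
  apply le_antisymm
  · apply (Subgroup.closure_le _).2
    rintro β ⟨g, hg, hβ⟩
    exact ⟨⟨g, special_le_Hs hg⟩, hg, ((induced_iff ⟨g, special_le_Hs hg⟩ β).1 hβ).symm⟩
  · rintro β ⟨g, hg, rfl⟩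
    exact Subgroup.subset_closure ⟨g.1, hg, (induced_iff g _).2 rfl⟩

/-- The subgroup of the similarities given by elements of `Ω`. -/
def omH (Q : (ι → F) → F) : Subgroup (Hs Q) := (MonoidHom.mk' omegaToHs (fun a b => rfl) : Cfsg.Omega F Q →* Hs Q).range

theorem mem_omH {g : Hs Q} : g ∈ omH Q ↔ ∃ s : Cfsg.Omega F Q, omegaToHs s = g := Iff.rfl

/-- Inner automorphisms. -/
theorem inn_eq : Cfsg.Inn (Cfsg.POmega F Q) = (omH Q).map (conjHom Q) := by
  ext β
  constructor
  · rintro ⟨x, rfl⟩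
    obtain ⟨s, rfl⟩ := QuotientGroup.mk'_surjective _ x
    exact ⟨omegaToHs s, ⟨s, rfl⟩, conjHom_omega s⟩
  · rintro ⟨_, ⟨s, rfl⟩, rfl⟩
    exact ⟨mkP Q s, (conjHom_omega s).symm⟩

end conj

section bridge

variable [Fintype F] (Q : QuadraticForm F (ι → F))

/-- The semisimilarity of a similarity matrix. -/
theorem semi_of_Hs (g : Hs ⇑Q) : ∃ l, Semi Q (glToLin g.1).toAddEquiv (RingEquiv.refl F) l := by
  obtain ⟨c, hc⟩ := g.2
  exact ⟨c, ⟨fun d x => map_smul (glToLin g.1) d x, fun x => hc x, c.ne_zero⟩⟩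

/-- The semisimilarity of a similarity matrix. -/
noncomputable def toSemi (g : Hs ⇑Q) : SemiEl Q := ⟨(glToLin g.1).toAddEquiv, _, _, (semi_of_Hs Q g).choose_spec⟩

@[simp] theorem toSemi_apply (g : Hs ⇑Q) (x : ι → F) : (toSemi Q g).1 x = g.1.val *ᵥ x := rfl

theorem toSemi_symm_apply (g : Hs ⇑Q) (x : ι → F) : (toSemi Q g).1.symm x = (g.1⁻¹ : GL ι F).val *ᵥ x := rfl

variable {Q}

/-- Compatibility of the two constructions. -/
theorem pOmegaEquiv_conjHom (hQ : (polarBilin Q).Nondegenerate) (hn : 5 ≤ Fintype.card ι) (g : Hs ⇑Q) (x : Cfsg.POmega F ⇑Q) :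
    pOmegaEquiv Q hQ hn (conjHom (⇑Q) g x) = phi Q (toSemi Q g) (pOmegaEquiv Q hQ hn x) := by
  obtain ⟨s, rfl⟩ := QuotientGroup.mk'_surjective _ x
  obtain ⟨l, H⟩ := semi_of_Hs Q g
  rw [phi_apply (toSemi Q g) H]
  show pi Q (omegaEquiv Q hQ hn (conjO g s)) = pi Q (conjG H (omegaEquiv Q hQ hn s))
  congr 1
  apply Subtype.ext
  ext1 y
  show ((((conjO g s : Cfsg.Omega F ⇑Q) : Cfsg.isometryGroup F ⇑Q) : GL ι F) : Matrix ι ι F) *ᵥ y =
    g.1.val *ᵥ (((s : Cfsg.isometryGroup F ⇑Q) : GL ι F).val *ᵥ ((g.1⁻¹ : GL ι F).val *ᵥ y))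
  rw [conjO_coe]
  simp [Matrix.mulVec_mulVec, Units.val_mul, Matrix.mul_assoc]

/-- The kernel of the action. -/
theorem conjHom_eq_one_iff {p : ℕ} [Fact p.Prime] [CharP F p] (hQ : (polarBilin Q).Nondegenerate) (hn : 5 ≤ Fintype.card ι) (g : Hs ⇑Q) :
    conjHom (⇑Q) g = 1 ↔ ∃ c : F, c ≠ 0 ∧ g.1.val = c • 1 := by
  have hn' : 5 ≤ finrank F (ι → F) := by rw [finrank_eq]; exact hn
  constructor
  · intro h
    have h1 : toSemi Q g ∈ (phi Q).ker := by
      rw [MonoidHom.mem_ker]
      ext x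
      obtain ⟨x', rfl⟩ := (pOmegaEquiv Q hQ hn).surjective x
      rw [← pOmegaEquiv_conjHom, h]
      rfl
    obtain ⟨c, hc0, hc⟩ := (mem_ker_phi hQ p hn').1 h1
    refine ⟨c, hc0, Cfsg.Agent.Lib.Orth.Words.mat_eq_of_mulVec fun x => ?_⟩
    rw [Matrix.smul_mulVec, Matrix.one_mulVec]
    exact hc x
  · rintro ⟨c, hc0, hc⟩
    have h1 : toSemi Q g ∈ (phi Q).ker := by
      refine (mem_ker_phi hQ p hn').2 ⟨c, hc0, fun x => ?_⟩
      rw [toSemi_apply, hc, Matrix.smul_mulVec, Matrix.one_mulVec]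
    ext x
    have h2 := pOmegaEquiv_conjHom hQ hn g x
    rw [MonoidHom.mem_ker.1 h1] at h2
    exact (pOmegaEquiv Q hQ hn).injective h2

end bridge

section groups

/-- The standard Klein four group. -/
theorem exists_equiv_klein {Y : Type*} [Group Y] (hcard : Nat.card Y = 4) (hs : ∀ y : Y, y * y = 1) :
    Nonempty (Y ≃* Multiplicative (ZMod 2 × ZMod 2)) := by
  classical
  haveI hfin : Finite Y := Nat.finite_of_card_ne_zero (by omega)
  haveI : Nontrivial Y := by
    apply Finite.one_lt_card_iff_nontrivial.1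
    omega
  have hexp : Monoid.exponent Y = 2 := by
    apply (Monoid.exponent_eq_prime_iff Nat.prime_two).2
    intro g hg
    apply orderOf_eq_prime _ hg
    rw [pow_two]
    exact hs g
  haveI : IsKleinFour Y := ⟨hcard, hexp⟩
  have hcard2 : Nat.card Y = Nat.card (Multiplicative (ZMod 2 × ZMod 2)) := by
    rw [hcard]
    simp [Nat.card_eq_fintype_card]
  obtain ⟨e⟩ := Finite.card_eq.1 hcard2
  exact ⟨IsKleinFour.mulEquiv (e.trans (Equiv.swap (e 1) 1)) (by simp)⟩

/-- The dihedral group of order eight. -/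
theorem exists_equiv_d8 {Y : Type*} [Group Y] (hcard : Nat.card Y = 8) {r d : Y} (hr : r * r = 1) (hne : d * r ≠ r * d) :
    Nonempty (DihedralGroup 4 ≃* Y) := by
  classical
  haveI hfin : Finite Y := Nat.finite_of_card_ne_zero (by omega)
  -- an element whose square is not one
  obtain ⟨a, ha⟩ : ∃ a : Y, a * a ≠ 1 := by
    by_contra hall
    push Not at hall
    apply hne
    have h1 := hall (d * r)
    have h2 := hall d
    calc d * r = d * r * (r * d * (r * d)) := by rw [hall (r * d), mul_one]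
      _ = d * (r * r) * d * (r * d) := by group
      _ = r * d := by rw [hr, mul_one, h2, one_mul]
  have hd8 : orderOf a ∣ 8 := by
    rw [← hcard]
    exact orderOf_dvd_natCard a
  have hnoncomm : ¬ IsCyclic Y := by
    intro hc
    exact hne (hc.isMulCommutative.is_comm.comm d r)
  have hord : orderOf a = 4 := by
    have h1 : orderOf a ≠ 8 := by
      intro h
      exact hnoncomm (isCyclic_of_orderOf_eq_card a (by rw [h, hcard]))
    have h2 : orderOf a ≠ 1 := by
      intro h
      rw [orderOf_eq_one_iff] at h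
      apply ha
      rw [h, mul_one]
    have h3 : orderOf a ≠ 2 := by
      intro h
      apply ha
      rw [← pow_two, ← h]
      exact pow_orderOf_eq_one a
    have h4 : orderOf a ∈ Nat.divisors 8 := Nat.mem_divisors.2 ⟨hd8, by norm_num⟩
    have h5 : Nat.divisors 8 = {1, 2, 4, 8} := by decide
    rw [h5] at h4
    simp only [Finset.mem_insert, Finset.mem_singleton] at h4
    omega
  set H := Subgroup.zpowers a with hH
  have hcardH : Nat.card H = 4 := by
    rw [hH, Nat.card_zpowers, hord]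
  have hindex : H.index = 2 := by
    have h1 := Subgroup.card_mul_index H
    rw [hcardH, hcard] at h1
    omega
  haveI hnorm : H.Normal := Subgroup.normal_of_index_eq_two hindex
  have ha4 : a ^ 4 = 1 := by
    rw [← hord]
    exact pow_orderOf_eq_one a
  -- an element of order four conjugated
  have hconj : ∀ x : Y, x * a * x⁻¹ = a ∨ x * a * x⁻¹ = a⁻¹ := by
    intro x
    have h1 : x * a * x⁻¹ ∈ H := hnorm.conj_mem a (Subgroup.mem_zpowers a) x
    obtain ⟨k, hk⟩ := Subgroup.mem_zpowers_iff.1 h1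
    have h2 : orderOf (x * a * x⁻¹) = 4 := by
      have : x * a * x⁻¹ = MulAut.conj x a := rfl
      rw [this, MulEquiv.orderOf_eq, hord]
    have hk4 : k % 4 = 0 ∨ k % 4 = 1 ∨ k % 4 = 2 ∨ k % 4 = 3 := by omega
    have hpow : ∀ j : ℤ, k % 4 = j → x * a * x⁻¹ = a ^ j := by
      intro j hj
      rw [← hk, ← zpow_mod_orderOf, hord]
      congr 1
    rcases hk4 with h | h | h | h
    · exfalso
      have := hpow 0 h
      rw [zpow_zero] at this
      rw [this, orderOf_one] at h2
      omega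
    · left
      have := hpow 1 h
      simpa using this
    · exfalso
      have := hpow 2 h
      have h3 : (x * a * x⁻¹) ^ 2 = 1 := by
        rw [this, ← zpow_natCast, ← _root_.zpow_mul]
        have : (2 : ℤ) * ((2 : ℕ) : ℤ) = ((4 : ℕ) : ℤ) := by norm_num
        rw [this, zpow_natCast, ha4]
      have h4 := orderOf_dvd_of_pow_eq_one h3
      rw [h2] at h4
      omega
    · right
      have := hpow 3 h
      rw [this, eq_inv_iff_mul_eq_one]
      have : (3 : ℤ) = ((3 : ℕ) : ℤ) := rfl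
      rw [this, zpow_natCast, ← pow_succ, ha4]
  -- `r` is not a power of `a`
  have hrH : r ∉ H := by
    intro hrH
    apply hne
    obtain ⟨k, hk⟩ := Subgroup.mem_zpowers_iff.1 hrH
    have hk4 : k % 4 = 0 ∨ k % 4 = 1 ∨ k % 4 = 2 ∨ k % 4 = 3 := by omega
    have hpow : ∀ j : ℤ, k % 4 = j → r = a ^ j := by
      intro j hj
      rw [← hk, ← zpow_mod_orderOf, hord]
      congr 1
    have haa : ∀ x : Y, x * (a * a) * x⁻¹ = a * a := by
      intro x
      have e1 : x * (a * a) * x⁻¹ = (x * a * x⁻¹) * (x * a * x⁻¹) := by group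
      rw [e1]
      rcases hconj x with h | h
      · rw [h]
      · rw [h]
        have h4 : a * a * (a * a) = 1 := by
          rw [← ha4]
          simp only [pow_succ, pow_zero, one_mul, mul_assoc]
        have h5 : (a * a)⁻¹ = a * a := (inv_eq_of_mul_eq_one_right h4)
        rw [← _root_.mul_inv_rev]
        exact h5
    rcases hk4 with h | h | h | h
    · have := hpow 0 h
      rw [zpow_zero] at this
      rw [this, one_mul, mul_one]
    · exfalso
      have := hpow 1 h
      rw [zpow_one] at this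
      exact ha (this ▸ hr)
    · have := hpow 2 h
      have h3 : r = a * a := by
        rw [this]
        exact zpow_two a
      rw [h3]
      have := haa d
      rw [mul_inv_eq_iff_eq_mul] at this
      exact this
    · exfalso
      have := hpow 3 h
      have h3 : r = a⁻¹ := by
        rw [this, eq_inv_iff_mul_eq_one]
        have : (3 : ℤ) = ((3 : ℕ) : ℤ) := rfl
        rw [this, zpow_natCast, ← pow_succ, ha4]
      rw [h3] at hr
      apply ha
      have h5 : a⁻¹ * a⁻¹ * (a * a) = 1 := by group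
      rw [hr, one_mul] at h5
      exact h5
  have hr2 : r ^ 2 = 1 := by rw [pow_two, hr]
  have hrinv : r⁻¹ = r := inv_eq_of_mul_eq_one_right hr
  have hconj' : r * a * r⁻¹ = a⁻¹ := by
    rcases hconj r with h | h
    · exfalso
      apply hne
      have hra : r * a = a * r := by
        rw [mul_inv_eq_iff_eq_mul] at h
        exact h
      have hrp : ∀ k : ℤ, r * a ^ k = a ^ k * r := fun k =>
        ((Commute.zpow_right hra k : Commute r (a ^ k))).eq
      by_cases hd : d ∈ H
      · obtain ⟨k, rfl⟩ := Subgroup.mem_zpowers_iff.1 hd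
        exact (hrp k).symm
      · have h6 : r * d ∈ H := (Subgroup.mul_mem_iff_of_index_two hindex).2 (iff_of_false hrH hd)
        obtain ⟨k, hk⟩ := Subgroup.mem_zpowers_iff.1 h6
        have h7 : d = r * a ^ k := by
          rw [hk, ← mul_assoc, hr, one_mul]
        rw [h7, mul_assoc, hrp k, ← mul_assoc]
    · exact h
  exact Cfsg.Agent.Lib.PGroups.Presentations.nonempty_dihedral_equiv (m := 4) hord hr2 hconj' hrH hcard

/-- A quotient of order four of exponent two. -/
theorem exists_klein {X : Type*} [Group X] (N : Subgroup X) [N.Normal] (hc : N.index = 4) (hs : ∀ x, x * x ∈ N) :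
    ∃ φ : X →* Multiplicative (ZMod 2 × ZMod 2), Function.Surjective φ ∧ φ.ker = N := by
  obtain ⟨e⟩ := exists_equiv_klein (Y := X ⧸ N) hc (fun y => by
    obtain ⟨x, rfl⟩ := QuotientGroup.mk'_surjective N y
    rw [← map_mul]
    exact (QuotientGroup.eq_one_iff _).2 (hs x))
  refine ⟨e.toMonoidHom.comp (QuotientGroup.mk' N), e.surjective.comp (QuotientGroup.mk'_surjective N), ?_⟩
  ext x
  simp

/-- A dihedral quotient of order eight. -/
theorem exists_d8 {X : Type*} [Group X] (N : Subgroup X) [N.Normal] (hc : N.index = 8) {r d : X} (hr : r * r ∈ N)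
    (hne : d * r * d⁻¹ * r⁻¹ ∉ N) :
    ∃ φ : X →* DihedralGroup 4, Function.Surjective φ ∧ φ.ker = N := by
  obtain ⟨e⟩ := exists_equiv_d8 (Y := X ⧸ N) hc (r := QuotientGroup.mk' N r) (d := QuotientGroup.mk' N d)
    (by
      rw [← map_mul]
      exact (QuotientGroup.eq_one_iff _).2 hr)
    (by
      intro h
      apply hne
      rw [← QuotientGroup.eq_one_iff]
      show QuotientGroup.mk' N _ = 1
      rw [map_mul, map_mul, map_mul, map_inv, map_inv, h]
      group)
  refine ⟨e.symm.toMonoidHom.comp (QuotientGroup.mk' N), e.symm.surjective.comp (QuotientGroup.mk'_surjective N), ?_⟩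
  ext x
  simp

/-- A cyclic quotient of order four. -/
theorem exists_c4 {X : Type*} [Group X] (N : Subgroup X) [N.Normal] (hc : N.index = 4) {d : X} (hd : d * d ∉ N) :
    ∃ φ : X →* Multiplicative (ZMod 4), Function.Surjective φ ∧ φ.ker = N := by
  have hcard : Nat.card (X ⧸ N) = 4 := hc
  haveI hfin : Finite (X ⧸ N) := Nat.finite_of_card_ne_zero (by omega)
  set y := QuotientGroup.mk' N d with hy
  have hy2 : y ^ 2 ≠ 1 := by
    intro h
    apply hd
    rw [← QuotientGroup.eq_one_iff]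
    show QuotientGroup.mk' N _ = 1
    rw [map_mul, ← pow_two]
    exact h
  have hdvd : orderOf y ∣ 2 ^ 2 := by
    have : (2 : ℕ) ^ 2 = 4 := rfl
    rw [this, ← hcard]
    exact orderOf_dvd_natCard y
  have hord : orderOf y = 4 := by
    obtain ⟨k, hk, h⟩ := (Nat.dvd_prime_pow Nat.prime_two).1 hdvd
    interval_cases k
    · exfalso
      rw [pow_zero, orderOf_eq_one_iff] at h
      apply hy2
      rw [h, one_pow]
    · exfalso
      rw [pow_one] at h
      apply hy2
      rw [← h]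
      exact pow_orderOf_eq_one y
    · exact h
  haveI hcyc : IsCyclic (X ⧸ N) := isCyclic_of_orderOf_eq_card y (by rw [hord, hcard])
  have e : Multiplicative (ZMod 4) ≃* (X ⧸ N) := by
    have := zmodCyclicMulEquiv hcyc
    rw [hcard] at this
    exact this
  refine ⟨e.symm.toMonoidHom.comp (QuotientGroup.mk' N), e.symm.surjective.comp (QuotientGroup.mk'_surjective N), ?_⟩
  ext x
  simp

/-- A quotient of order two. -/
theorem exists_c2 {X : Type*} [Group X] (N : Subgroup X) [N.Normal] (hc : N.index = 2) :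
    ∃ φ : X →* Multiplicative (ZMod 2), Function.Surjective φ ∧ φ.ker = N := by
  haveI : Fact (Nat.Prime 2) := ⟨Nat.prime_two⟩
  have e : (X ⧸ N) ≃* Multiplicative (ZMod 2) := mulEquivOfPrimeCardEq (p := 2) hc (by simp)
  refine ⟨e.toMonoidHom.comp (QuotientGroup.mk' N), e.surjective.comp (QuotientGroup.mk'_surjective N), ?_⟩
  ext x
  simp

/-- The order of the image of a subgroup. -/
theorem card_map_mul {G H : Type*} [Group G] [Group H] (f : G →* H) (L : Subgroup G) :
    Nat.card (L.map f) * Nat.card (f.ker.subgroupOf L) = Nat.card L := by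
  have h1 := Subgroup.card_mul_index (f.comp L.subtype).ker
  rw [Subgroup.index_ker] at h1
  have h2 : (f.comp L.subtype).range = L.map f := by
    rw [MonoidHom.range_comp, Subgroup.range_subtype]
  have h3 : (f.comp L.subtype).ker = f.ker.subgroupOf L := by
    ext x
    simp [Subgroup.mem_subgroupOf]
  rw [h2, h3] at h1
  rw [mul_comm]
  exact h1

/-- Relative index of nested subgroups. -/
theorem relIndex_mul_card {G : Type*} [Group G] {A B : Subgroup G} (h : B ≤ A) :
    B.relIndex A * Nat.card B = Nat.card A := by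
  have h1 := Subgroup.card_mul_index (B.subgroupOf A)
  rw [Nat.card_congr (Subgroup.subgroupOfEquivOfLe h).toEquiv] at h1
  rw [mul_comm]
  exact h1

end groups

section odd

variable [Fintype F] (Q : QuadraticForm F (ι → F))

instance instFiniteGL : Finite (GL ι F) := by
  exact Finite.of_injective (fun g : GL ι F => (g : Matrix ι ι F)) Units.val_injective

instance instFiniteMulAut (R : (ι → F) → F) : Finite (MulAut (Cfsg.POmega F R)) :=
  Finite.of_injective (fun g : MulAut (Cfsg.POmega F R) => (g : Cfsg.POmega F R → Cfsg.POmega F R)) DFunLike.coe_injective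

variable {Q}
variable (hQ : (polarBilin Q).Nondegenerate)
include hQ

/-- The polar form in matrix form. -/
theorem det_gram_ne_zero :
    (Matrix.of fun i j : ι => polar ⇑Q (Pi.single i 1) (Pi.single j 1)).det ≠ 0 := by
  intro h0
  obtain ⟨v, hv0, hv⟩ := Matrix.exists_mulVec_eq_zero_iff.2 h0
  apply hv0
  apply hQ.2 v
  intro u
  show polar ⇑Q u v = 0
  rw [polar_eq_gram, hv]
  simp

/-- The determinant of a similarity. -/
theorem det_sq_of_sim (M : Matrix ι ι F) (l : F) (h : ∀ v, Q (M *ᵥ v) = l * Q v) :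
    M.det * M.det = l ^ Fintype.card ι := by
  classical
  set G := (Matrix.of fun i j : ι => polar ⇑Q (Pi.single i 1) (Pi.single j 1)) with hGdef
  have hG : ∀ u v, polar ⇑Q u v = u ⬝ᵥ (G *ᵥ v) := polar_eq_gram Q
  have hd := det_gram_ne_zero hQ
  have hp : ∀ x y, polar ⇑Q (M *ᵥ x) (M *ᵥ y) = l * polar ⇑Q x y := by
    intro x y
    rw [polar, polar, ← Matrix.mulVec_add, h, h, h]
    ring
  have h1 : M.transpose * G * M = l • G := by
    ext i j
    have h2 := hp (Pi.single i 1) (Pi.single j 1)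
    rw [hG, hG] at h2
    have h3 : ∀ A : Matrix ι ι F, (Pi.single i 1 : ι → F) ⬝ᵥ (A *ᵥ (Pi.single j 1)) = A i j := by
      intro A
      simp
    rw [← h3 (M.transpose * G * M)]
    have h5 : (Pi.single i 1 : ι → F) ⬝ᵥ ((M.transpose * G * M) *ᵥ (Pi.single j 1)) =
        (M *ᵥ (Pi.single i 1)) ⬝ᵥ (G *ᵥ (M *ᵥ (Pi.single j 1))) := by
      rw [← Matrix.mulVec_mulVec, ← Matrix.mulVec_mulVec, Matrix.dotProduct_mulVec (Pi.single i 1) M.transpose,
        Matrix.vecMul_transpose]
    rw [h5, h2]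
    simp
  have h6 := congrArg Matrix.det h1
  rw [Matrix.det_mul, Matrix.det_mul, Matrix.det_transpose, Matrix.det_smul] at h6
  have : (M.det * M.det) * G.det = l ^ Fintype.card ι * G.det := by
    rw [← h6]
    ring
  exact mul_right_cancel₀ hd this

variable [Nontrivial (ι → F)]

/-- The multiplier of a similarity. -/
noncomputable def mult : Hs ⇑Q →* Fˣ where
  toFun g := g.2.choose
  map_one' := by
    obtain ⟨v, hv⟩ := Cfsg.Agent.Lib.Orth.Closure.exists_nonsingular (Q := Q) hQ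
    have h1 := (1 : Hs ⇑Q).2.choose_spec v
    have h2 : Q (((1 : Hs ⇑Q).1 : GL ι F).val *ᵥ v) = Q v := by simp
    rw [h2] at h1
    apply Units.ext
    have h3 : (((1 : Hs ⇑Q).2.choose : Fˣ) : F) * Q v = 1 * Q v := by rw [← h1, one_mul]
    exact mul_right_cancel₀ hv h3
  map_mul' a b := by
    obtain ⟨v, hv⟩ := Cfsg.Agent.Lib.Orth.Closure.exists_nonsingular (Q := Q) hQ
    have h1 := (a * b).2.choose_spec v
    have h2 : (((a * b : Hs ⇑Q).1 : GL ι F).val *ᵥ v) = a.1.val *ᵥ (b.1.val *ᵥ v) := by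
      simp [Matrix.mulVec_mulVec, Units.val_mul]
    rw [h2, a.2.choose_spec, b.2.choose_spec] at h1
    apply Units.ext
    rw [Units.val_mul]
    have h3 : (((a * b).2.choose : Fˣ) : F) * Q v = (a.2.choose : F) * b.2.choose * Q v := by
      rw [← h1]
      ring
    exact mul_right_cancel₀ hv h3

theorem mult_spec (g : Hs ⇑Q) (v : ι → F) : Q (g.1.val *ᵥ v) = (mult hQ g : F) * Q v := g.2.choose_spec v

theorem mult_eq (g : Hs ⇑Q) {c : Fˣ} (h : ∀ v, Q (g.1.val *ᵥ v) = (c : F) * Q v) : mult hQ g = c := by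
  obtain ⟨v, hv⟩ := Cfsg.Agent.Lib.Orth.Closure.exists_nonsingular (Q := Q) hQ
  apply Units.ext
  have h1 := mult_spec hQ g v
  rw [h] at h1
  exact (mul_right_cancel₀ hv h1).symm

theorem mem_ker_mult {g : Hs ⇑Q} : g ∈ (mult hQ).ker ↔ g.1 ∈ Cfsg.isometryGroup F ⇑Q := by
  rw [MonoidHom.mem_ker, mem_isometryGroup_iff]
  constructor
  · intro h v
    rw [mult_spec hQ, h]
    simp
  · intro h
    apply mult_eq
    intro v
    rw [h]
    simp

omit hQ in
/-- The scalar matrix as a similarity. -/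
noncomputable def scH (c : Fˣ) : Hs ⇑Q :=
  ⟨Units.map (Matrix.scalar ι : F →+* Matrix ι ι F).toMonoidHom c, c * c, fun v => by
    have : ((Units.map (Matrix.scalar ι : F →+* Matrix ι ι F).toMonoidHom c : GL ι F) : Matrix ι ι F) *ᵥ v = (c : F) • v := by
      show (Matrix.scalar ι (c : F)) *ᵥ v = _
      ext i
      simp [Matrix.scalar_apply, Matrix.mulVec, dotProduct, Matrix.diagonal_apply]
    rw [this, QuadraticMap.map_smul, smul_eq_mul, Units.val_mul]⟩

omit hQ in
theorem scH_mulVec (c : Fˣ) (v : ι → F) : ((scH c : Hs ⇑Q).1 : GL ι F).val *ᵥ v = (c : F) • v := by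
  show (Matrix.scalar ι (c : F)) *ᵥ v = _
  ext i
  simp [Matrix.scalar_apply, Matrix.mulVec, dotProduct, Matrix.diagonal_apply]

omit hQ in
theorem scH_val (c : Fˣ) : ((scH c : Hs ⇑Q).1 : GL ι F).val = (c : F) • 1 :=
  Cfsg.Agent.Lib.Orth.Words.mat_eq_of_mulVec fun v => by
    rw [scH_mulVec, Matrix.smul_mulVec, Matrix.one_mulVec]

theorem mult_scH (c : Fˣ) : mult hQ (scH c) = c * c :=
  mult_eq hQ _ fun v => by
    rw [scH_mulVec, QuadraticMap.map_smul, smul_eq_mul, Units.val_mul]

/-- A similarity from a semisimilarity. -/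
theorem exists_Hs_of_semi {g : (ι → F) ≃+ (ι → F)} {c : F} (H : Semi Q g (RingEquiv.refl F) c) :
    ∃ ĝ : Hs ⇑Q, (∀ x, ĝ.1.val *ᵥ x = g x) ∧ (mult hQ ĝ : F) = c := by
  let L : (ι → F) ≃ₗ[F] (ι → F) := g.toLinearEquiv (fun d x => H.smul d x)
  have hL : ∀ x, (glToLin.symm L : GL ι F).val *ᵥ x = g x := fun x => glToLin_symm_mulVec L x
  have hmem : glToLin.symm L ∈ Hs ⇑Q := ⟨Units.mk0 c H.ne, fun v => by
    rw [hL, H.Q_eq]
    rfl⟩
  refine ⟨⟨_, hmem⟩, hL, ?_⟩
  have := mult_eq hQ (c := Units.mk0 c H.ne) ⟨_, hmem⟩ (fun v => by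
    show Q ((glToLin.symm L : GL ι F).val *ᵥ v) = c * Q v
    rw [hL, H.Q_eq]
    rfl)
  rw [this]
  rfl

variable (p : ℕ) [hp : Fact p.Prime] [hc : CharP F p]

include p in
/-- The order of the similarity group. -/
theorem card_Hs (hall : ∀ c : F, c ≠ 0 → ∃ g, Semi Q g (RingEquiv.refl F) c) :
    Nat.card (Hs ⇑Q) = (Nat.card F - 1) * Nat.card (Cfsg.isometryGroup F ⇑Q) := by
  classical
  have hs : Function.Surjective (mult hQ) := by
    intro c
    obtain ⟨g, H⟩ := hall c c.ne_zero
    obtain ⟨ĝ, -, h2⟩ := exists_Hs_of_semi hQ H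
    exact ⟨ĝ, Units.ext h2⟩
  have h1 := Subgroup.card_mul_index (mult hQ).ker
  rw [Subgroup.index_ker, MonoidHom.range_eq_top.2 hs, Subgroup.card_top] at h1
  have h2 : (mult hQ).ker = (Cfsg.isometryGroup F ⇑Q).subgroupOf (Hs ⇑Q) := by
    ext g
    rw [mem_ker_mult, Subgroup.mem_subgroupOf]
  rw [h2, Nat.card_congr (Subgroup.subgroupOfEquivOfLe isometry_le_Hs).toEquiv] at h1
  have h3 : Nat.card Fˣ = Nat.card F - 1 := by
    rw [Nat.card_eq_fintype_card, Nat.card_eq_fintype_card, Fintype.card_units]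
  rw [← h1, h3]
  ring

include p in
/-- The order of the kernel of the action. -/
theorem card_ker_conjHom (hn : 5 ≤ Fintype.card ι) : Nat.card (conjHom ⇑Q).ker = Nat.card F - 1 := by
  classical
  have h3 : Nat.card Fˣ = Nat.card F - 1 := by
    rw [Nat.card_eq_fintype_card, Nat.card_eq_fintype_card, Fintype.card_units]
  rw [← h3]
  symm
  have hmem : ∀ c : Fˣ, scH c ∈ (conjHom ⇑Q).ker := fun c =>
    (conjHom_eq_one_iff (p := p) hQ hn _).2 ⟨c, c.ne_zero, scH_val c⟩
  refine Nat.card_congr (Equiv.ofBijective (fun c : Fˣ => (⟨scH c, hmem c⟩ : (conjHom ⇑Q).ker)) ⟨?_, ?_⟩)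
  · intro a b hab
    obtain ⟨v, hv⟩ := exists_ne (0 : ι → F)
    have h1 : (a : F) • v = (b : F) • v := by
      rw [← scH_mulVec (Q := Q), ← scH_mulVec (Q := Q)]
      have : (scH a : Hs ⇑Q) = scH b := congrArg Subtype.val hab
      rw [this]
    exact Units.ext (smul_left_injective F hv h1)
  · rintro ⟨g, hg⟩
    obtain ⟨c, hc0, hc⟩ := (conjHom_eq_one_iff (p := p) hQ hn g).1 hg
    refine ⟨Units.mk0 c hc0, Subtype.ext (Subtype.ext (Units.ext ?_))⟩
    show ((scH (Units.mk0 c hc0) : Hs ⇑Q).1 : GL ι F).val = _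
    rw [scH_val, hc]
    rfl

include p in
/-- The order of the image of the similarity group. -/
theorem card_pgoAut (hn : 5 ≤ Fintype.card ι) (hall : ∀ c : F, c ≠ 0 → ∃ g, Semi Q g (RingEquiv.refl F) c) :
    Nat.card (Cfsg.pgoAut F ⇑Q) = Nat.card (Cfsg.isometryGroup F ⇑Q) := by
  rw [pgoAut_eq]
  have h1 := Subgroup.card_mul_index (conjHom ⇑Q).ker
  rw [Subgroup.index_ker, card_ker_conjHom hQ p hn, card_Hs hQ p hall] at h1
  have hq : 0 < Nat.card F - 1 := by
    have : 1 < Nat.card F := Finite.one_lt_card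
    omega
  exact (Nat.eq_of_mul_eq_mul_left hq h1)

variable (Q) in
/-- The reflection as a similarity. -/
noncomputable def reflH (v : ι → F) : Hs ⇑Q := ⟨(Cfsg.Agent.Lib.Orth.Closure.reflEl Q v).1, isometry_le_Hs (Cfsg.Agent.Lib.Orth.Closure.reflEl Q v).2⟩

omit hQ [Nontrivial (ι → F)] hp hc in
theorem reflH_mulVec (v x : ι → F) : (reflH Q v).1.val *ᵥ x = refl Q v x := by
  show ((Cfsg.Agent.Lib.Orth.Closure.reflEl Q v : Cfsg.isometryGroup F ⇑Q) : GL ι F).val *ᵥ x = _
  rw [Cfsg.Agent.Lib.Orth.Closure.reflEl, toIso_symm_mulVec]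

omit hp hc in
/-- Conjugation of a reflection by a similarity. -/
theorem conj_reflH (d : Hs ⇑Q) {v : ι → F} (hv : Q v ≠ 0) : d * reflH Q v * d⁻¹ = reflH Q (d.1.val *ᵥ v) := by
  apply Subtype.ext
  apply Units.ext
  apply Cfsg.Agent.Lib.Orth.Words.mat_eq_of_mulVec
  intro x
  have hlam : (mult hQ d : F) ≠ 0 := (mult hQ d).ne_zero
  set y := (d⁻¹ : Hs ⇑Q).1.val *ᵥ x with hy
  have hxy : x = d.1.val *ᵥ y := by
    rw [hy, Matrix.mulVec_mulVec]
    have : d.1.val * (d⁻¹ : Hs ⇑Q).1.val = 1 := by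
      rw [← Units.val_mul]
      have : d.1 * (d⁻¹ : Hs ⇑Q).1 = 1 := by
        rw [← Subgroup.coe_mul, mul_inv_cancel]
        rfl
      rw [this]
      rfl
    rw [this, Matrix.one_mulVec]
  have h1 : (((d * reflH Q v * d⁻¹ : Hs ⇑Q)).1).val *ᵥ x = d.1.val *ᵥ ((reflH Q v).1.val *ᵥ y) := by
    show ((d.1 * (reflH Q v).1 * (d⁻¹ : Hs ⇑Q).1 : GL ι F)).val *ᵥ x = _
    rw [hy]
    simp only [Units.val_mul, Matrix.mulVec_mulVec, Matrix.mul_assoc]
  rw [h1, reflH_mulVec, reflH_mulVec, refl_apply, refl_apply, Matrix.mulVec_sub, Matrix.mulVec_smul, ← hxy, mult_spec hQ]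
  have hp0 : ∀ a b : ι → F, polar Q (d.1.val *ᵥ a) (d.1.val *ᵥ b) = (mult hQ d : F) * polar Q a b := by
    intro a b
    rw [polar, polar, ← Matrix.mulVec_add, mult_spec hQ, mult_spec hQ, mult_spec hQ]
    ring
  have hp : polar Q x (d.1.val *ᵥ v) = (mult hQ d : F) * polar Q y v := by
    rw [← hp0, ← hxy]
  rw [hp]
  congr 2
  field_simp

omit hp hc in
/-- Two reflections in the classes of a similarity. -/
theorem reflH_sq (v : ι → F) : reflH Q v * reflH Q v = 1 := by
  apply Subtype.ext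
  apply Units.ext
  apply Cfsg.Agent.Lib.Orth.Words.mat_eq_of_mulVec
  intro x
  show ((reflH Q v).1 * (reflH Q v).1 : GL ι F).val *ᵥ x = (1 : Matrix ι ι F) *ᵥ x
  rw [Units.val_mul, ← Matrix.mulVec_mulVec, reflH_mulVec, reflH_mulVec, Matrix.one_mulVec]
  show (refl Q v * refl Q v) x = x
  rw [refl_mul_self]
  rfl

omit hp hc in
/-- The image of the isometries under the determinant. -/
theorem card_special (h2 : (2 : F) ≠ 0) :
    2 * Nat.card (Cfsg.specialIsometryGL F ⇑Q) = Nat.card (Cfsg.isometryGroup F ⇑Q) := by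
  classical
  let δ : Cfsg.isometryGroup F ⇑Q →* Fˣ := Matrix.GeneralLinearGroup.det.comp (Cfsg.isometryGroup F ⇑Q).subtype
  have hker : Nat.card δ.ker = Nat.card (Cfsg.specialIsometryGL F ⇑Q) := by
    refine Nat.card_congr ⟨fun x => ⟨x.1.1, x.1.2, x.2⟩, fun x => ⟨⟨x.1, x.2.1⟩, x.2.2⟩, fun _ => rfl, fun _ => rfl⟩
  have hrange : Nat.card δ.range = 2 := by
    obtain ⟨v, hv⟩ := Cfsg.Agent.Lib.Orth.Closure.exists_nonsingular (Q := Q) hQ
    have hneg : (-1 : Fˣ) ≠ 1 := by
      intro h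
      have h3 : (-1 : F) = 1 := congrArg Units.val h
      apply h2
      have h7 : (2 : F) = 1 + 1 := by norm_num
      rw [h7]
      nth_rw 1 [← h3]
      simp
    have hmem : ∀ y : Fˣ, y ∈ δ.range ↔ y = 1 ∨ y = -1 := by
      intro y
      constructor
      · rintro ⟨g, rfl⟩
        have h3 := det_sq_of_sim hQ (g : GL ι F).val 1 (fun w => by
          rw [one_mul]
          exact (mem_isometryGroup_iff _ _).1 g.2 w)
        rw [one_pow] at h3
        have h4 : (((g : GL ι F).val.det - 1) * ((g : GL ι F).val.det + 1)) = 0 := by linear_combination h3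
        rcases mul_eq_zero.1 h4 with h5 | h5
        · left
          exact Units.ext (sub_eq_zero.1 h5)
        · right
          exact Units.ext (eq_neg_of_add_eq_zero_left h5)
      · rintro (rfl | rfl)
        · exact one_mem _
        · refine ⟨Cfsg.Agent.Lib.Orth.Closure.reflEl Q v, Units.ext ?_⟩
          show ((Cfsg.Agent.Lib.Orth.Closure.reflEl Q v : Cfsg.isometryGroup F ⇑Q) : GL ι F).val.det = -1
          rw [Cfsg.Agent.Lib.Orth.Closure.reflEl_val, Cfsg.Agent.Lib.Reflect.Basic.reflection_det Q v hv]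
    have h5 : Nat.card δ.range = Nat.card ({(1 : Fˣ), -1} : Finset Fˣ) := by
      apply Nat.card_congr
      exact Equiv.subtypeEquivRight (fun y => by simp [hmem y])
    rw [h5, Nat.card_eq_fintype_card, Fintype.card_coe, Finset.card_pair hneg.symm]
  have h1 := Subgroup.card_mul_index δ.ker
  rw [Subgroup.index_ker, hrange, hker] at h1
  rw [← h1, mul_comm]

omit hp hc in
/-- `Ω` consists of elements of determinant one. -/
theorem omH_le_soH : omH ⇑Q ≤ soH ⇑Q := by
  rintro _ ⟨s, rfl⟩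
  show (s.1.1 : GL ι F) ∈ Cfsg.specialIsometryGL F ⇑Q
  refine ⟨s.1.2, ?_⟩
  let δ : Cfsg.isometryGroup F ⇑Q →* Fˣ := Matrix.GeneralLinearGroup.det.comp (Cfsg.isometryGroup F ⇑Q).subtype
  have h1 : Cfsg.Omega F ⇑Q ≤ δ.ker := by
    rw [Cfsg.Omega, commutator, Subgroup.commutator_le]
    intro a _ b _
    rw [MonoidHom.mem_ker, map_commutatorElement, commutatorElement_eq_one_iff_mul_comm, mul_comm]
  exact h1 s.2

include p in
/-- The image of the special orthogonal group. -/
theorem card_psoAut (h2 : (2 : F) ≠ 0) {m : ℕ} (hcard : Fintype.card ι = 2 * m) (hn : 5 ≤ Fintype.card ι) :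
    4 * Nat.card (Cfsg.psoAut F ⇑Q) = Nat.card (Cfsg.isometryGroup F ⇑Q) := by
  classical
  rw [psoAut_eq]
  have h1 := card_map_mul (conjHom ⇑Q) (soH ⇑Q)
  have h3 : Nat.card (soH ⇑Q) = Nat.card (Cfsg.specialIsometryGL F ⇑Q) :=
    Nat.card_congr (Subgroup.subgroupOfEquivOfLe special_le_Hs).toEquiv
  have hneg : (-1 : Fˣ) ≠ 1 := by
    intro h
    have h3 : (-1 : F) = 1 := congrArg Units.val h
    apply h2
    have h7 : (2 : F) = 1 + 1 := by norm_num
    rw [h7]
    nth_rw 1 [← h3]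
    simp
  have hmem1 : ∀ c : Fˣ, c * c = 1 → (scH c : Hs ⇑Q) ∈ soH ⇑Q := by
    intro c hc2
    refine ⟨(mem_isometryGroup_iff _ _).2 fun v => ?_, ?_⟩
    · show Q (((scH c : Hs ⇑Q).1 : GL ι F).val *ᵥ v) = Q v
      rw [scH_mulVec, QuadraticMap.map_smul, smul_eq_mul, ← Units.val_mul, hc2]
      simp
    · show Matrix.GeneralLinearGroup.det ((scH c : Hs ⇑Q).1) = 1
      apply Units.ext
      show ((scH c : Hs ⇑Q).1 : GL ι F).val.det = 1
      rw [scH_val, Matrix.det_smul, Matrix.det_one, mul_one, hcard, pow_mul, ← Units.val_pow_eq_pow_val, pow_two, hc2]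
      simp
  have h4 : Nat.card ((conjHom ⇑Q).ker.subgroupOf (soH ⇑Q)) = 2 := by
    have hk : ∀ (c : Fˣ) (hc2 : c * c = 1), (⟨scH c, hmem1 c hc2⟩ : soH ⇑Q) ∈ (conjHom ⇑Q).ker.subgroupOf (soH ⇑Q) := by
      intro c hc2
      rw [Subgroup.mem_subgroupOf]
      exact (conjHom_eq_one_iff (p := p) hQ hn _).2 ⟨c, c.ne_zero, scH_val c⟩
    rw [Nat.card_eq_two_iff]
    refine ⟨1, ⟨⟨scH (-1), hmem1 (-1) (by simp)⟩, hk (-1) (by simp)⟩, ?_, ?_⟩
    · intro h
      obtain ⟨v, hv⟩ := exists_ne (0 : ι → F)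
      have h5 : ((scH (-1) : Hs ⇑Q).1 : GL ι F).val *ᵥ v = v := by
        have : ((scH (-1) : Hs ⇑Q)) = 1 := (congrArg (fun y : ((conjHom ⇑Q).ker.subgroupOf (soH ⇑Q)) => y.1.1) h).symm
        rw [this]
        simp
      rw [scH_mulVec] at h5
      simp only [Units.val_neg, Units.val_one, neg_smul, one_smul] at h5
      apply hv
      have h6 : (2 : F) • v = 0 := by
        rw [two_smul]
        nth_rw 1 [← h5]
        simp
      exact (smul_eq_zero.1 h6).resolve_left h2
    · ext y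
      simp only [Set.mem_insert_iff, Set.mem_singleton_iff, Set.mem_univ, iff_true]
      obtain ⟨⟨g, hg⟩, hg2⟩ := y
      rw [Subgroup.mem_subgroupOf] at hg2
      obtain ⟨c, hc0, hc⟩ := (conjHom_eq_one_iff (p := p) hQ hn g).1 hg2
      have hg3 : g.1 ∈ Cfsg.isometryGroup F ⇑Q := hg.1
      have hc2 : c * c = 1 := by
        obtain ⟨v, hv⟩ := Cfsg.Agent.Lib.Orth.Closure.exists_nonsingular (Q := Q) hQ
        have h5 := (mem_isometryGroup_iff _ _).1 hg3 v
        rw [hc, Matrix.smul_mulVec, Matrix.one_mulVec, QuadraticMap.map_smul, smul_eq_mul] at h5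
        have h6 : (c * c) * Q v = 1 * Q v := by rw [h5, one_mul]
        exact mul_right_cancel₀ hv h6
      have h7 : (c - 1) * (c + 1) = 0 := by linear_combination hc2
      rcases mul_eq_zero.1 h7 with h8 | h8
      · left
        have h9 : c = 1 := sub_eq_zero.1 h8
        apply Subtype.ext
        apply Subtype.ext
        apply Subtype.ext
        apply Units.ext
        rw [hc, h9, one_smul]
        rfl
      · right
        have h9 : c = -1 := eq_neg_of_add_eq_zero_left h8
        apply Subtype.ext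
        apply Subtype.ext
        apply Subtype.ext
        apply Units.ext
        rw [hc, h9]
        show _ = ((scH (-1) : Hs ⇑Q).1 : GL ι F).val
        rw [scH_val]
        rfl
  rw [h4, h3] at h1
  have h5 := card_special hQ h2
  omega

/-- The order of the inner automorphism group. -/
theorem card_inn (hn : 7 ≤ Fintype.card ι) : Nat.card (Cfsg.Inn (Cfsg.POmega F ⇑Q)) = Nat.card (Cfsg.POmega F ⇑Q) := by
  have hinj : Function.Injective (MulAut.conj : Cfsg.POmega F ⇑Q →* MulAut (Cfsg.POmega F ⇑Q)) := by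
    rw [injective_iff_map_eq_one]
    intro a ha
    have ha' : a ∈ Subgroup.center (Cfsg.POmega F ⇑Q) := by
      rw [Subgroup.mem_center_iff]
      intro g
      have h2 := DFunLike.congr_fun ha g
      rw [MulAut.conj_apply, MulAut.one_apply] at h2
      have h3 : a * g = g * a := by
        calc a * g = a * g * a⁻¹ * a := by group
          _ = g * a := by rw [h2]
      exact h3.symm
    rw [center_POmega Q hQ hn] at ha'
    simpa using ha'
  exact Nat.card_congr (MonoidHom.ofInjective hinj).toEquiv.symm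

end odd

end Cfsg.Agent.Lib.Classical.OmegaPGO
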