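/-
The structure of the image of the conformal orthogonal group in the automorphism group of `PΩ`.
-/
import Mathlib
import Cfsg.Agent.Lib.Classical.OmegaPGO

set_option autoImplicit false
set_option linter.unusedSimpArgs false
set_option linter.unusedSectionVars false
set_option linter.style.haveILetI false
set_option linter.unusedVariables false

namespace Cfsg.Agent.Lib.Classical.OmegaPGO2

open Module MulAction QuadraticMap Matrix Cfsg.Agent.Lib.Witt.Quadratic Cfsg.Agent.Lib.Orth.Refl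
open Cfsg.Agent.Lib.Orth.Gen Cfsg.Agent.Lib.OrthRefl.Eichler Cfsg.Agent.Lib.Classical.QuadEichler
open Cfsg.Agent.Lib.Classical.QuadEichSimple Cfsg.Agent.Lib.Classical.OmegaHP Cfsg.Agent.Lib.Classical.OmegaLocal
open Cfsg.Agent.Lib.Classical.OmegaRoot Cfsg.Agent.Lib.Classical.OmegaSemi Cfsg.Agent.Lib.Classical.OmegaConj
open Cfsg.Agent.Lib.Classical.OmegaBar Cfsg.Agent.Lib.Classical.OmegaAut Cfsg.Agent.Lib.Classical.OmegaCount
open Cfsg.Agent.Lib.Orth.Forms Cfsg.Agent.Lib.Classical.BinaryForms Cfsg.Agent.Lib.Classical.QuadEichBridge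
open Cfsg.Agent.Lib.Classical.OmegaForms Cfsg.Agent.Lib.Classical.OmegaOut Cfsg.Agent.Lib.Orth.Bridge
open Cfsg.Agent.Lib.Classical.MatrixBridge Cfsg.Agent.Lib.Classical.SympSimple
open Cfsg.Agent.Lib.Classical.OmegaPGO
open scoped commutatorElement

universe u

variable {F : Type u} [Field F] [Fintype F] {ι : Type} [Fintype ι] [DecidableEq ι]
variable {Q : QuadraticForm F (ι → F)} (hQ : (polarBilin Q).Nondegenerate)
variable [Nontrivial (ι → F)] (p : ℕ) [hp : Fact p.Prime] [hc : CharP F p]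

include hQ p

/-- The image of the special orthogonal group lies in the image of the conformal group. -/
theorem pso_le_pgo : Cfsg.psoAut F ⇑Q ≤ Cfsg.pgoAut F ⇑Q := by
  rw [psoAut_eq, pgoAut_eq, MonoidHom.range_eq_map]
  exact Subgroup.map_mono le_top

theorem inn_le_pso : Cfsg.Inn (Cfsg.POmega F ⇑Q) ≤ Cfsg.psoAut F ⇑Q := by
  rw [psoAut_eq, inn_eq]
  exact Subgroup.map_mono (omH_le_soH hQ)

/-- Normality of the special orthogonal image. -/
theorem normal_pso : ((Cfsg.psoAut F ⇑Q).subgroupOf (Cfsg.pgoAut F ⇑Q)).Normal := by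
  constructor
  rintro ⟨n, hn⟩ hn2 ⟨x, hx⟩
  rw [Subgroup.mem_subgroupOf] at hn2 ⊢
  show x * n * x⁻¹ ∈ Cfsg.psoAut F ⇑Q
  have hn3 : n ∈ Cfsg.psoAut F ⇑Q := hn2
  rw [psoAut_eq] at hn3 ⊢
  rw [pgoAut_eq] at hx
  obtain ⟨h, hh, rfl⟩ := hn3
  obtain ⟨g, rfl⟩ := hx
  refine ⟨g * h * g⁻¹, ?_, by simp⟩
  -- conjugate of a special isometry
  have hh1 : h.1 ∈ Cfsg.isometryGroup F ⇑Q := hh.1
  have hh2 : Matrix.GeneralLinearGroup.det h.1 = 1 := hh.2
  refine ⟨conj_mem_isometry g ⟨h.1, hh1⟩, ?_⟩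
  show Matrix.GeneralLinearGroup.det (g.1 * h.1 * g.1⁻¹) = 1
  rw [map_mul, map_mul, map_inv, hh2]
  simp

/-- `g²` lies in the special part, up to a scalar. -/
theorem sq_mem_pso {m : ℕ} (hn : 5 ≤ Fintype.card ι) (hcard : Fintype.card ι = 2 * m) (g : Hs ⇑Q) :
    conjHom ⇑Q g * conjHom ⇑Q g ∈ Cfsg.psoAut F ⇑Q := by
  rw [psoAut_eq]
  set c := mult hQ g with hc'
  refine ⟨(scH c)⁻¹ * (g * g), ?_, ?_⟩
  · refine ⟨?_, ?_⟩
    · show ((scH c)⁻¹ * (g * g) : Hs ⇑Q).1 ∈ Cfsg.isometryGroup F ⇑Q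
      have : (scH c)⁻¹ * (g * g) ∈ (mult hQ).ker := by
        rw [MonoidHom.mem_ker, map_mul, map_inv, map_mul, mult_scH]
        exact inv_mul_cancel _
      exact (mem_ker_mult hQ).1 this
    · let δ : Hs ⇑Q →* Fˣ := Matrix.GeneralLinearGroup.det.comp (Hs ⇑Q).subtype
      have e1 : δ (scH c) = c ^ Fintype.card ι := Units.ext (by
        show ((scH c : Hs ⇑Q).1 : GL ι F).val.det = _
        rw [scH_val, Matrix.det_smul, Matrix.det_one, mul_one]
        rfl)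
      have e2 : δ g * δ g = c ^ Fintype.card ι := Units.ext (by
        have h3 := det_sq_of_sim hQ g.1.val (c : F) (fun v => mult_spec hQ g v)
        rw [Units.val_pow_eq_pow_val, ← h3]
        rfl)
      show δ ((scH c)⁻¹ * (g * g)) = 1
      rw [map_mul, map_inv, map_mul, e1, e2]
      exact inv_mul_cancel _
  · rw [map_mul, map_inv]
    have : conjHom ⇑Q (scH c) = 1 := (conjHom_eq_one_iff (p := p) hQ hn _).2 ⟨c, c.ne_zero, scH_val c⟩
    rw [this, inv_one, one_mul, map_mul]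

/-- **The conformal group modulo the special group is a Klein four group.** -/
theorem pgo_mod_pso (h2 : (2 : F) ≠ 0) {m : ℕ} (hn : 5 ≤ Fintype.card ι) (hcard : Fintype.card ι = 2 * m)
    (hall : ∀ c : F, c ≠ 0 → ∃ g, Semi Q g (RingEquiv.refl F) c) :
    ∃ φ : Cfsg.pgoAut F ⇑Q →* Multiplicative (ZMod 2 × ZMod 2), Function.Surjective φ ∧
      φ.ker = (Cfsg.psoAut F ⇑Q).subgroupOf (Cfsg.pgoAut F ⇑Q) := by
  haveI := normal_pso hQ p
  apply exists_klein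
  · -- the index
    have h1 := relIndex_mul_card (pso_le_pgo hQ p)
    rw [card_pgoAut hQ p hn hall, ← card_psoAut hQ p h2 hcard hn] at h1
    have hpos : 0 < Nat.card (Cfsg.psoAut F ⇑Q) := Nat.card_pos
    have : (Cfsg.psoAut F ⇑Q).relIndex (Cfsg.pgoAut F ⇑Q) * Nat.card (Cfsg.psoAut F ⇑Q) = 4 * Nat.card (Cfsg.psoAut F ⇑Q) := h1
    exact Nat.eq_of_mul_eq_mul_right hpos this
  · rintro ⟨x, hx⟩
    rw [Subgroup.mem_subgroupOf]
    have hx' := hx
    rw [pgoAut_eq] at hx'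
    obtain ⟨g, rfl⟩ := hx'
    exact sq_mem_pso hQ p hn hcard g

/-- The relative index of the inner automorphisms when `-1 ∈ Ω`. -/
theorem relIndex_inn_pso_neg (h2 : (2 : F) ≠ 0) {m : ℕ} (hn : 7 ≤ Fintype.card ι) (hcard : Fintype.card ι = 2 * m)
    (h : ∃ g : Cfsg.isometryGroup F ⇑Q, g ∈ Cfsg.Omega F ⇑Q ∧ ((g : GL ι F) : Matrix ι ι F) = -1) :
    (Cfsg.Inn (Cfsg.POmega F ⇑Q)).relIndex (Cfsg.psoAut F ⇑Q) = 2 := by
  have h1 := relIndex_mul_card (inn_le_pso hQ p)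
  have h3 := card_psoAut hQ p h2 hcard (by omega)
  have h4 := card_P_neg Q hQ (by omega) h2 h
  rw [card_inn hQ hn] at h1
  have hpos : 0 < Nat.card (Cfsg.POmega F ⇑Q) := Nat.card_pos
  have h5 : (Cfsg.Inn (Cfsg.POmega F ⇑Q)).relIndex (Cfsg.psoAut F ⇑Q) * Nat.card (Cfsg.POmega F ⇑Q) = 2 * Nat.card (Cfsg.POmega F ⇑Q) := by
    omega
  exact Nat.eq_of_mul_eq_mul_right hpos h5

/-- The relative index of the inner automorphisms when `-1 ∉ Ω`. -/
theorem relIndex_inn_pso_not_neg (h2 : (2 : F) ≠ 0) {m : ℕ} (hn : 7 ≤ Fintype.card ι) (hcard : Fintype.card ι = 2 * m)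
    (h : ¬ ∃ g : Cfsg.isometryGroup F ⇑Q, g ∈ Cfsg.Omega F ⇑Q ∧ ((g : GL ι F) : Matrix ι ι F) = -1) :
    (Cfsg.Inn (Cfsg.POmega F ⇑Q)).relIndex (Cfsg.psoAut F ⇑Q) = 1 := by
  have h1 := relIndex_mul_card (inn_le_pso hQ p)
  have h3 := card_psoAut hQ p h2 hcard (by omega)
  have h4 := card_P_not_neg Q hQ (by omega) h2 h
  rw [card_inn hQ hn] at h1
  have hpos : 0 < Nat.card (Cfsg.POmega F ⇑Q) := Nat.card_pos
  have h5 : (Cfsg.Inn (Cfsg.POmega F ⇑Q)).relIndex (Cfsg.psoAut F ⇑Q) * Nat.card (Cfsg.POmega F ⇑Q) = 1 * Nat.card (Cfsg.POmega F ⇑Q) := by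
    omega
  exact Nat.eq_of_mul_eq_mul_right hpos h5

/-- The conformal group modulo `Ω` when `-1 ∉ Ω`. -/
theorem pgo_mod_inn_not_neg (h2 : (2 : F) ≠ 0) {m : ℕ} (hn : 7 ≤ Fintype.card ι) (hcard : Fintype.card ι = 2 * m)
    (hall : ∀ c : F, c ≠ 0 → ∃ g, Semi Q g (RingEquiv.refl F) c)
    (h : ¬ ∃ g : Cfsg.isometryGroup F ⇑Q, g ∈ Cfsg.Omega F ⇑Q ∧ ((g : GL ι F) : Matrix ι ι F) = -1) :
    ∃ φ : Cfsg.pgoAut F ⇑Q →* Multiplicative (ZMod 2 × ZMod 2), Function.Surjective φ ∧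
      φ.ker = (Cfsg.Inn (Cfsg.POmega F ⇑Q)).subgroupOf (Cfsg.pgoAut F ⇑Q) := by
  have h1 := relIndex_inn_pso_not_neg hQ p h2 hn hcard h
  have h3 : Cfsg.psoAut F ⇑Q = Cfsg.Inn (Cfsg.POmega F ⇑Q) :=
    le_antisymm (Subgroup.relIndex_eq_one.1 h1) (inn_le_pso hQ p)
  rw [← h3]
  exact pgo_mod_pso hQ p h2 (by omega) hcard hall

/-- The conformal group modulo `Ω` when `-1 ∈ Ω`. -/
theorem pgo_mod_inn_neg (h2 : (2 : F) ≠ 0) {m : ℕ} (hn : 7 ≤ Fintype.card ι) (hcard : Fintype.card ι = 2 * m)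
    (hall : ∀ c : F, c ≠ 0 → ∃ g, Semi Q g (RingEquiv.refl F) c)
    (h : ∃ g : Cfsg.isometryGroup F ⇑Q, g ∈ Cfsg.Omega F ⇑Q ∧ ((g : GL ι F) : Matrix ι ι F) = -1) :
    ∃ φ : Cfsg.pgoAut F ⇑Q →* DihedralGroup 4, Function.Surjective φ ∧
      φ.ker = (Cfsg.Inn (Cfsg.POmega F ⇑Q)).subgroupOf (Cfsg.pgoAut F ⇑Q) := by
  classical
  have hinn : Cfsg.Inn (Cfsg.POmega F ⇑Q) ≤ Cfsg.pgoAut F ⇑Q := (inn_le_pso hQ p).trans (pso_le_pgo hQ p)
  -- the index
  have hidx : ((Cfsg.Inn (Cfsg.POmega F ⇑Q)).subgroupOf (Cfsg.pgoAut F ⇑Q)).index = 8 := by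
    have h1 := relIndex_mul_card hinn
    rw [card_pgoAut hQ p (by omega) hall, card_P_neg Q hQ (by omega) h2 h, card_inn hQ hn] at h1
    have hpos : 0 < Nat.card (Cfsg.POmega F ⇑Q) := Nat.card_pos
    exact Nat.eq_of_mul_eq_mul_right hpos h1
  -- the elements
  have hch : ringChar F ≠ 2 := by
    intro hh
    exact h2 (by
      have := ringChar.spec F 2
      exact_mod_cast (this.mpr (by rw [hh])))
  obtain ⟨ν, hν⟩ := FiniteField.exists_nonsquare hch
  have hν0 : ν ≠ 0 := by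
    rintro rfl
    exact hν IsSquare.zero
  obtain ⟨g₀, H₀⟩ := hall ν hν0
  obtain ⟨d₀, hd₀, hd₀m⟩ := exists_Hs_of_semi hQ H₀
  obtain ⟨v, hv⟩ := Cfsg.Agent.Lib.Orth.Closure.exists_nonsingular (Q := Q) hQ
  have hrg : conjHom ⇑Q (reflH Q v) ∈ Cfsg.pgoAut F ⇑Q := by
    rw [pgoAut_eq]
    exact ⟨_, rfl⟩
  have hdg : conjHom ⇑Q d₀ ∈ Cfsg.pgoAut F ⇑Q := by
    rw [pgoAut_eq]
    exact ⟨_, rfl⟩
  refine exists_d8 _ hidx (r := ⟨_, hrg⟩) (d := ⟨_, hdg⟩) ?_ ?_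
  · rw [Subgroup.mem_subgroupOf]
    show conjHom ⇑Q (reflH Q v) * conjHom ⇑Q (reflH Q v) ∈ _
    rw [← map_mul, reflH_sq hQ, map_one]
    exact one_mem _
  · rw [Subgroup.mem_subgroupOf]
    show conjHom ⇑Q d₀ * conjHom ⇑Q (reflH Q v) * (conjHom ⇑Q d₀)⁻¹ * (conjHom ⇑Q (reflH Q v))⁻¹ ∉ _
    rw [← map_inv, ← map_inv, ← map_mul, ← map_mul, ← map_mul, conj_reflH hQ d₀ hv, inn_eq]
    rintro ⟨_, ⟨s, rfl⟩, hs⟩
    -- the two reflections
    set w := d₀.1.val *ᵥ v with hw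
    have hQw : Q w = ν * Q v := by
      rw [hw, mult_spec hQ, hd₀m]
    have hw0 : Q w ≠ 0 := by
      rw [hQw]
      exact mul_ne_zero hν0 hv
    let u : Cfsg.isometryGroup F ⇑Q := Cfsg.Agent.Lib.Orth.Closure.reflEl Q w * Cfsg.Agent.Lib.Orth.Closure.reflEl Q v
    have hu : (reflH Q w * (reflH Q v)⁻¹ : Hs ⇑Q) = ⟨u.1, isometry_le_Hs u.2⟩ := by
      have : (reflH Q v)⁻¹ = reflH Q v := inv_eq_of_mul_eq_one_right (reflH_sq hQ v)
      rw [this]
      rfl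
    have hnot : u ∉ Cfsg.Omega F ⇑Q := by
      intro hmem
      have h3 := (word_mem_Omega_iff Q hQ (Or.inr (by omega)) u [w, v] (by
        intro x hx
        simp only [List.mem_cons, List.not_mem_nil, or_false] at hx
        rcases hx with rfl | rfl
        · exact hw0
        · exact hv) (by
          simp only [List.map_cons, List.map_nil, List.prod_cons, List.prod_nil, mul_one]
          show (Cfsg.Agent.Lib.Orth.Closure.reflEl Q w * Cfsg.Agent.Lib.Orth.Closure.reflEl Q v : Cfsg.isometryGroup F ⇑Q).1.val = _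
          rw [Subgroup.coe_mul, Units.val_mul, Cfsg.Agent.Lib.Orth.Closure.reflEl_val, Cfsg.Agent.Lib.Orth.Closure.reflEl_val])).1 hmem
      obtain ⟨-, r, hr⟩ := h3
      apply hν
      simp only [List.map_cons, List.map_nil, List.prod_cons, List.prod_nil, mul_one] at hr
      rw [hQw] at hr
      refine ⟨r / Q v, ?_⟩
      field_simp
      rw [pow_two r, ← hr]
      ring
    -- the scalar
    rw [hu] at hs
    have hs' : conjHom ⇑Q (omegaToHs s) = conjHom ⇑Q ⟨u.1, isometry_le_Hs u.2⟩ := hs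
    have h4 : (omegaToHs s)⁻¹ * ⟨u.1, isometry_le_Hs u.2⟩ ∈ (conjHom ⇑Q).ker := by
      rw [MonoidHom.mem_ker, map_mul, map_inv, hs']
      exact inv_mul_cancel _
    obtain ⟨c, hc0, hc⟩ := (conjHom_eq_one_iff (p := p) hQ (by omega) _).1 h4
    have hU : u.1.val = c • (s.1.1 : GL ι F).val := by
      have h6 : ((s.1.1)⁻¹ * u.1 : GL ι F).val = c • 1 := hc
      have h7 : u.1.val = (s.1.1 : GL ι F).val * ((s.1.1)⁻¹ * u.1 : GL ι F).val := by
        rw [← Units.val_mul, mul_inv_cancel_left]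
      rw [h7, h6, Matrix.mul_smul, Matrix.mul_one]
    have hc2 : c * c = 1 := by
      have h5 := (mem_isometryGroup_iff _ _).1 u.2 v
      have h6 := (mem_isometryGroup_iff _ _).1 s.1.2 v
      rw [hU, Matrix.smul_mulVec, QuadraticMap.map_smul, smul_eq_mul, h6] at h5
      have h7 : (c * c) * Q v = 1 * Q v := by rw [h5, one_mul]
      exact mul_right_cancel₀ hv h7
    have h7 : (c - 1) * (c + 1) = 0 := by linear_combination hc2
    apply hnot
    rcases mul_eq_zero.1 h7 with h8 | h8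
    · have h9 : c = 1 := sub_eq_zero.1 h8
      have : u = s.1 := by
        apply Subtype.ext
        apply Units.ext
        rw [hU, h9, one_smul]
      rw [this]
      exact s.2
    · have h9 : c = -1 := eq_neg_of_add_eq_zero_left h8
      obtain ⟨n, hn1, hn2⟩ := h
      have : u = n * s.1 := by
        apply Subtype.ext
        apply Units.ext
        rw [hU, h9, Subgroup.coe_mul, Units.val_mul, hn2]
        simp
      rw [this]
      exact mul_mem hn1 s.2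

end Cfsg.Agent.Lib.Classical.OmegaPGO2
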