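/-
The conformal orthogonal group of the standard even-dimensional forms.
-/
import Mathlib
import Cfsg.Agent.Lib.Classical.OmegaPGO2

set_option autoImplicit false
set_option linter.unusedSimpArgs false
set_option linter.unusedSectionVars false
set_option linter.style.haveILetI false
set_option linter.unusedVariables false

namespace Cfsg.Agent.Lib.Classical.OmegaPGO3

open Module QuadraticMap Matrix
open Cfsg.Agent.Lib.Orth.Forms Cfsg.Agent.Lib.Classical.QuadEichBridge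
open Cfsg.Agent.Lib.Classical.OmegaForms Cfsg.Agent.Lib.Classical.OmegaPGO Cfsg.Agent.Lib.Classical.OmegaPGO2
open Cfsg.Agent.Lib.Classical.SympSimple

universe u

variable {F : Type u} [Field F] [Fintype F]

theorem exists_char : ∃ p : ℕ, Fact p.Prime ∧ CharP F p := by
  obtain ⟨p, hp⟩ := CharP.exists F
  obtain ⟨n, hpp, -⟩ := FiniteField.card F p
  exact ⟨p, ⟨hpp⟩, hp⟩

theorem two_ne (hodd : Odd (Fintype.card F)) : (2 : F) ≠ 0 := by
  rw [Ne, two_eq_zero_iff_even_card, Nat.not_even_iff_odd]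
  exact hodd

/-- The arithmetic of `-1` for the plus type. -/
theorem plus_arith {q m : ℕ} (hq : Odd q) : q ^ m % 4 = 1 ↔ ¬ (Odd m ∧ q % 4 = 3) := by
  obtain ⟨h, rfl⟩ := hq
  rcases Nat.even_or_odd h with ⟨r, rfl⟩ | ⟨r, rfl⟩
  · have h3 : (2 * (r + r) + 1) % 4 = 1 := by omega
    have h4 : (2 * (r + r) + 1) ^ m % 4 = 1 := by
      rw [Nat.pow_mod, h3]
      simp
    simp [h4, h3]
  · have h3 : (2 * (2 * r + 1) + 1) % 4 = 3 := by omega
    rcases Nat.even_or_odd m with hm | hm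
    · have h4 : (2 * (2 * r + 1) + 1) ^ m % 4 = 1 := by
        obtain ⟨k, rfl⟩ := hm
        rw [← two_mul, pow_mul, Nat.pow_mod]
        have h5 : ((2 * (2 * r + 1) + 1) ^ 2) % 4 = 1 := by
          rw [Nat.pow_mod, h3]
        rw [h5]
        simp
      have hm' : ¬ Odd m := Nat.not_odd_iff_even.2 hm
      simp [h4, hm']
    · have h4 : (2 * (2 * r + 1) + 1) ^ m % 4 = 3 := by
        obtain ⟨k, rfl⟩ := hm
        have h5 : ((2 * (2 * r + 1) + 1) ^ 2) % 4 = 1 := by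
          rw [Nat.pow_mod, h3]
        rw [pow_succ, pow_mul, Nat.mul_mod, Nat.pow_mod, h5, h3]
        simp
      simp [h4, hm, h3]

/-- The arithmetic of `-1` for the minus type. -/
theorem minus_arith {q m : ℕ} (hq : Odd q) : q ^ (m + 1) % 4 = 3 ↔ (Even m ∧ q % 4 = 3) := by
  have h1 := plus_arith (m := m + 1) hq
  have h2 : Odd (q ^ (m + 1)) := hq.pow
  obtain ⟨k, hk⟩ := h2
  have h3 : q ^ (m + 1) % 4 = 3 ↔ ¬ q ^ (m + 1) % 4 = 1 := by omega
  rw [h3, h1, not_not, Nat.odd_add_one, Nat.not_odd_iff_even]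

section plus

variable (m : ℕ)

theorem plus_card : Fintype.card (Fin m ⊕ Fin m) = 2 * m := by
  simp only [Fintype.card_sum, Fintype.card_fin]; ring

theorem plus_S2722 (hodd : Odd (Fintype.card F)) (hm : 4 ≤ m) :
    ∃ φ : Cfsg.pgoAut F (Cfsg.quadFormPlus m F) →* Multiplicative (ZMod 2 × ZMod 2), Function.Surjective φ ∧
      φ.ker = (Cfsg.psoAut F (Cfsg.quadFormPlus m F)).subgroupOf (Cfsg.pgoAut F (Cfsg.quadFormPlus m F)) := by
  obtain ⟨p, hp, hc⟩ := exists_char (F := F)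
  have hc1 := plus_card m
  have hn5 : 5 ≤ Fintype.card (Fin m ⊕ Fin m) := by omega
  have hn : 7 ≤ finrank F (Fin m ⊕ Fin m → F) := by rw [finrank_eq]; omega
  haveI : Nontrivial (Fin m ⊕ Fin m → F) := Module.nontrivial_of_finrank_pos (R := F) (by omega)
  have key := pgo_mod_pso (Q := plusForm m F) (plusForm_nondeg m) p (two_ne hodd) (m := m) hn5 hc1 (semi_plus_mult m)
  rw [coe_plusForm] at key
  exact key

set_option maxHeartbeats 1000000 in
theorem plus_S2723 (hodd : Odd (Fintype.card F)) (hm : 4 ≤ m) :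
    ((Odd m ∧ Fintype.card F % 4 = 3) → (Cfsg.Inn (Cfsg.POmega F (Cfsg.quadFormPlus m F))).relIndex (Cfsg.psoAut F (Cfsg.quadFormPlus m F)) = 1) ∧
      (¬ (Odd m ∧ Fintype.card F % 4 = 3) → (Cfsg.Inn (Cfsg.POmega F (Cfsg.quadFormPlus m F))).relIndex (Cfsg.psoAut F (Cfsg.quadFormPlus m F)) = 2) := by
  obtain ⟨p, hp, hc⟩ := exists_char (F := F)
  have hc1 := plus_card m
  have hn7 : 7 ≤ Fintype.card (Fin m ⊕ Fin m) := by omega
  have hn : 7 ≤ finrank F (Fin m ⊕ Fin m → F) := by rw [finrank_eq]; omega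
  haveI : Nontrivial (Fin m ⊕ Fin m → F) := Module.nontrivial_of_finrank_pos (R := F) (by omega)
  have hS := Cfsg.Agent.S0790.result rfl hodd m (by omega)
  rw [plus_arith hodd] at hS
  constructor
  · intro h
    have key := relIndex_inn_pso_not_neg (Q := plusForm m F) (plusForm_nondeg m) p (two_ne hodd) (m := m) hn7 hc1
      (by rw [coe_plusForm]; exact fun h' => (hS.1 h') h)
    rw [coe_plusForm] at key
    exact key
  · intro h
    have key := relIndex_inn_pso_neg (Q := plusForm m F) (plusForm_nondeg m) p (two_ne hodd) (m := m) hn7 hc1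
      (by rw [coe_plusForm]; exact hS.2 h)
    rw [coe_plusForm] at key
    exact key

set_option maxHeartbeats 1000000 in
theorem plus_S2724 (hodd : Odd (Fintype.card F)) (hm : 4 ≤ m) :
    ((Odd m ∧ Fintype.card F % 4 = 3) → (∃ φ : Cfsg.pgoAut F (Cfsg.quadFormPlus m F) →* Multiplicative (ZMod 2 × ZMod 2), Function.Surjective φ ∧ φ.ker = (Cfsg.Inn (Cfsg.POmega F (Cfsg.quadFormPlus m F))).subgroupOf (Cfsg.pgoAut F (Cfsg.quadFormPlus m F)))) ∧
      (¬ (Odd m ∧ Fintype.card F % 4 = 3) → (∃ φ : Cfsg.pgoAut F (Cfsg.quadFormPlus m F) →* DihedralGroup 4, Function.Surjective φ ∧ φ.ker = (Cfsg.Inn (Cfsg.POmega F (Cfsg.quadFormPlus m F))).subgroupOf (Cfsg.pgoAut F (Cfsg.quadFormPlus m F)))) := by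
  obtain ⟨p, hp, hc⟩ := exists_char (F := F)
  have hc1 := plus_card m
  have hn7 : 7 ≤ Fintype.card (Fin m ⊕ Fin m) := by omega
  have hn : 7 ≤ finrank F (Fin m ⊕ Fin m → F) := by rw [finrank_eq]; omega
  haveI : Nontrivial (Fin m ⊕ Fin m → F) := Module.nontrivial_of_finrank_pos (R := F) (by omega)
  have hS := Cfsg.Agent.S0790.result rfl hodd m (by omega)
  rw [plus_arith hodd] at hS
  constructor
  · intro h
    have key := pgo_mod_inn_not_neg (Q := plusForm m F) (plusForm_nondeg m) p (two_ne hodd) (m := m) hn7 hc1 (semi_plus_mult m)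
      (by rw [coe_plusForm]; exact fun h' => (hS.1 h') h)
    rw [coe_plusForm] at key
    exact key
  · intro h
    have key := pgo_mod_inn_neg (Q := plusForm m F) (plusForm_nondeg m) p (two_ne hodd) (m := m) hn7 hc1 (semi_plus_mult m)
      (by rw [coe_plusForm]; exact hS.2 h)
    rw [coe_plusForm] at key
    exact key

end plus

section minus

variable (m : ℕ) {a b : F}

theorem minus_card : Fintype.card ((Fin m ⊕ Fin m) ⊕ Fin 2) = 2 * (m + 1) := by
  simp only [Fintype.card_sum, Fintype.card_fin]; ring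

theorem neg_minus_iff (hodd : Odd (Fintype.card F))
    (hab : ∀ z₁ z₂ : F, z₁ ^ 2 + a * z₁ * z₂ + b * z₂ ^ 2 = 0 → z₁ = 0 ∧ z₂ = 0) :
    (∃ g : Cfsg.isometryGroup F (Cfsg.quadFormMinus m F a b), g ∈ Cfsg.Omega F (Cfsg.quadFormMinus m F a b) ∧
      ((g : Matrix.GeneralLinearGroup ((Fin m ⊕ Fin m) ⊕ Fin 2) F) : Matrix ((Fin m ⊕ Fin m) ⊕ Fin 2) ((Fin m ⊕ Fin m) ⊕ Fin 2) F) = -1) ↔
      Fintype.card F ^ (m + 1) % 4 = 3 :=
  Cfsg.Agent.S0791.result rfl hodd (m + 1) (by omega) a b hab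

theorem minus_S2726 (hodd : Odd (Fintype.card F)) (hm : 3 ≤ m)
    (hab : ∀ z₁ z₂ : F, z₁ ^ 2 + a * z₁ * z₂ + b * z₂ ^ 2 = 0 → z₁ = 0 ∧ z₂ = 0) :
    ∃ φ : Cfsg.pgoAut F (Cfsg.quadFormMinus m F a b) →* Multiplicative (ZMod 2 × ZMod 2), Function.Surjective φ ∧
      φ.ker = (Cfsg.psoAut F (Cfsg.quadFormMinus m F a b)).subgroupOf (Cfsg.pgoAut F (Cfsg.quadFormMinus m F a b)) := by
  obtain ⟨p, hp, hc⟩ := exists_char (F := F)
  have hc1 := minus_card m
  have hn5 : 5 ≤ Fintype.card ((Fin m ⊕ Fin m) ⊕ Fin 2) := by omega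
  have hn : 7 ≤ finrank F ((Fin m ⊕ Fin m) ⊕ Fin 2 → F) := by rw [finrank_eq]; omega
  haveI : Nontrivial ((Fin m ⊕ Fin m) ⊕ Fin 2 → F) := Module.nontrivial_of_finrank_pos (R := F) (by omega)
  have key := pgo_mod_pso (Q := minusForm m F a b) (minusForm_nondeg m hab) p (two_ne hodd) (m := m + 1) hn5 hc1 (semi_minus_mult hab)
  rw [coe_minusForm] at key
  exact key

set_option maxHeartbeats 1000000 in
theorem minus_S2727 (hodd : Odd (Fintype.card F)) (hm : 3 ≤ m)
    (hab : ∀ z₁ z₂ : F, z₁ ^ 2 + a * z₁ * z₂ + b * z₂ ^ 2 = 0 → z₁ = 0 ∧ z₂ = 0) :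
    ((Even m ∧ Fintype.card F % 4 = 3) → (Cfsg.Inn (Cfsg.POmega F (Cfsg.quadFormMinus m F a b))).relIndex (Cfsg.psoAut F (Cfsg.quadFormMinus m F a b)) = 2) ∧
      (¬ (Even m ∧ Fintype.card F % 4 = 3) → (Cfsg.Inn (Cfsg.POmega F (Cfsg.quadFormMinus m F a b))).relIndex (Cfsg.psoAut F (Cfsg.quadFormMinus m F a b)) = 1) := by
  obtain ⟨p, hp, hc⟩ := exists_char (F := F)
  have hc1 := minus_card m
  have hn7 : 7 ≤ Fintype.card ((Fin m ⊕ Fin m) ⊕ Fin 2) := by omega
  have hn : 7 ≤ finrank F ((Fin m ⊕ Fin m) ⊕ Fin 2 → F) := by rw [finrank_eq]; omega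
  haveI : Nontrivial ((Fin m ⊕ Fin m) ⊕ Fin 2 → F) := Module.nontrivial_of_finrank_pos (R := F) (by omega)
  have hS := neg_minus_iff m hodd hab
  rw [minus_arith hodd] at hS
  constructor
  · intro h
    have key := relIndex_inn_pso_neg (Q := minusForm m F a b) (minusForm_nondeg m hab) p (two_ne hodd) (m := m + 1) hn7 hc1
      (by rw [coe_minusForm]; exact hS.2 h)
    rw [coe_minusForm] at key
    exact key
  · intro h
    have key := relIndex_inn_pso_not_neg (Q := minusForm m F a b) (minusForm_nondeg m hab) p (two_ne hodd) (m := m + 1) hn7 hc1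
      (by rw [coe_minusForm]; exact fun h' => h (hS.1 h'))
    rw [coe_minusForm] at key
    exact key

set_option maxHeartbeats 1000000 in
theorem minus_S2728 (hodd : Odd (Fintype.card F)) (hm : 3 ≤ m)
    (hab : ∀ z₁ z₂ : F, z₁ ^ 2 + a * z₁ * z₂ + b * z₂ ^ 2 = 0 → z₁ = 0 ∧ z₂ = 0) :
    ((Even m ∧ Fintype.card F % 4 = 3) → (∃ φ : Cfsg.pgoAut F (Cfsg.quadFormMinus m F a b) →* DihedralGroup 4, Function.Surjective φ ∧ φ.ker = (Cfsg.Inn (Cfsg.POmega F (Cfsg.quadFormMinus m F a b))).subgroupOf (Cfsg.pgoAut F (Cfsg.quadFormMinus m F a b)))) ∧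
      (¬ (Even m ∧ Fintype.card F % 4 = 3) → (∃ φ : Cfsg.pgoAut F (Cfsg.quadFormMinus m F a b) →* Multiplicative (ZMod 2 × ZMod 2), Function.Surjective φ ∧ φ.ker = (Cfsg.Inn (Cfsg.POmega F (Cfsg.quadFormMinus m F a b))).subgroupOf (Cfsg.pgoAut F (Cfsg.quadFormMinus m F a b)))) := by
  obtain ⟨p, hp, hc⟩ := exists_char (F := F)
  have hc1 := minus_card m
  have hn7 : 7 ≤ Fintype.card ((Fin m ⊕ Fin m) ⊕ Fin 2) := by omega
  have hn : 7 ≤ finrank F ((Fin m ⊕ Fin m) ⊕ Fin 2 → F) := by rw [finrank_eq]; omega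
  haveI : Nontrivial ((Fin m ⊕ Fin m) ⊕ Fin 2 → F) := Module.nontrivial_of_finrank_pos (R := F) (by omega)
  have hS := neg_minus_iff m hodd hab
  rw [minus_arith hodd] at hS
  constructor
  · intro h
    have key := pgo_mod_inn_neg (Q := minusForm m F a b) (minusForm_nondeg m hab) p (two_ne hodd) (m := m + 1) hn7 hc1 (semi_minus_mult hab)
      (by rw [coe_minusForm]; exact hS.2 h)
    rw [coe_minusForm] at key
    exact key
  · intro h
    have key := pgo_mod_inn_not_neg (Q := minusForm m F a b) (minusForm_nondeg m hab) p (two_ne hodd) (m := m + 1) hn7 hc1 (semi_minus_mult hab)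
      (by rw [coe_minusForm]; exact fun h' => h (hS.1 h'))
    rw [coe_minusForm] at key
    exact key

end minus

end Cfsg.Agent.Lib.Classical.OmegaPGO3
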