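/-
The outer automorphism group of `PΩ` in even dimension and odd characteristic.
-/
import Mathlib
import Cfsg.Agent.Lib.Classical.OmegaPGO3

set_option autoImplicit false
set_option linter.unusedSimpArgs false
set_option linter.unusedSectionVars false
set_option linter.style.haveILetI false
set_option linter.unusedVariables false

namespace Cfsg.Agent.Lib.Classical.OmegaOutOdd

open Module MulAction QuadraticMap Matrix Cfsg.Agent.Lib.Witt.Quadratic Cfsg.Agent.Lib.Orth.Refl
open Cfsg.Agent.Lib.Orth.Gen Cfsg.Agent.Lib.OrthRefl.Eichler Cfsg.Agent.Lib.Classical.QuadEichler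
open Cfsg.Agent.Lib.Classical.QuadEichSimple Cfsg.Agent.Lib.Classical.OmegaHP Cfsg.Agent.Lib.Classical.OmegaLocal
open Cfsg.Agent.Lib.Classical.OmegaRoot Cfsg.Agent.Lib.Classical.OmegaSemi Cfsg.Agent.Lib.Classical.OmegaConj
open Cfsg.Agent.Lib.Classical.OmegaBar Cfsg.Agent.Lib.Classical.OmegaAut Cfsg.Agent.Lib.Classical.OmegaCount
open Cfsg.Agent.Lib.Orth.Forms Cfsg.Agent.Lib.Classical.BinaryForms Cfsg.Agent.Lib.Classical.QuadEichBridge
open Cfsg.Agent.Lib.Classical.OmegaForms Cfsg.Agent.Lib.Classical.OmegaOut Cfsg.Agent.Lib.Orth.Bridge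
open Cfsg.Agent.Lib.Classical.MatrixBridge Cfsg.Agent.Lib.Classical.SympSimple
open Cfsg.Agent.Lib.Classical.OmegaPGO Cfsg.Agent.Lib.Classical.OmegaPGO2 Cfsg.Agent.Lib.Classical.OmegaFrob
open scoped commutatorElement

universe u

section abstract

open DihedralGroup in
/-- Automorphisms of the dihedral group of order eight have exponent dividing eight. -/
theorem aut_d8_pow_eight (α : MulAut (DihedralGroup 4)) : α ^ 8 = 1 := by
  have h0 : ∀ x : DihedralGroup 4, x ^ 2 ≠ 1 → x = r 1 ∨ x = r 3 := by decide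
  have h1 : ∀ x : DihedralGroup 4, x ^ 2 = 1 → x = r 0 ∨ x = r 2 ∨ ∃ j, x = sr j := by decide
  have hr2 : (r 1 : DihedralGroup 4) ^ 2 ≠ 1 := by decide
  have hu : ∃ u : ZMod 4, (u = 1 ∨ u = 3) ∧ α (r 1) = r u := by
    have : (α (r 1)) ^ 2 ≠ 1 := by
      rw [← map_pow]
      intro h
      exact hr2 (α.map_eq_one_iff.1 h)
    rcases h0 _ this with h | h
    · exact ⟨1, Or.inl rfl, h⟩
    · exact ⟨3, Or.inr rfl, h⟩
  obtain ⟨u, hu, hαr⟩ := hu
  have hr3 : α (r 2) = r 2 := by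
    have e1 : (r 2 : DihedralGroup 4) = r 1 * r 1 := by decide
    rw [e1, map_mul, hαr]
    rcases hu with rfl | rfl <;> decide
  have hj : ∃ j, α (sr 0) = sr j := by
    have hs2 : (sr 0 : DihedralGroup 4) ^ 2 = 1 := by decide
    have : (α (sr 0)) ^ 2 = 1 := by rw [← map_pow, hs2, map_one]
    rcases h1 _ this with h | h | h
    · exfalso
      have e0 : (r 0 : DihedralGroup 4) = 1 := rfl
      rw [e0] at h
      have := α.map_eq_one_iff.1 h
      exact absurd this (by decide)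
    · exfalso
      rw [← hr3] at h
      have := α.injective h
      exact absurd this (by decide)
    · exact h
  obtain ⟨j, hαs⟩ := hj
  have hk : ∀ k : ZMod 4, α (r k) = r (u * k) := by
    intro k
    have e2 : (r k : DihedralGroup 4) = (r 1) ^ k.val := by
      revert k
      decide
    rw [e2, map_pow, hαr]
    have key : ∀ u k : ZMod 4, (r u : DihedralGroup 4) ^ k.val = r (u * k) := by decide
    exact key u k
  have hl : ∀ k : ZMod 4, α (sr k) = sr (j + u * k) := by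
    intro k
    have e2 : (sr k : DihedralGroup 4) = sr 0 * r k := by
      revert k
      decide
    rw [e2, map_mul, hαs, hk]
    show sr (j + u * k) = _
    rfl
  ext x
  show (α ^ 8) x = x
  have e8 : α ^ 8 = α * α * α * α * α * α * α * α := by
    simp only [pow_succ, pow_zero, one_mul]
  rw [e8]
  simp only [MulAut.mul_apply]
  rcases x with k | k
  · simp only [hk]
    have key : ∀ u : ZMod 4, (u = 1 ∨ u = 3) → ∀ k : ZMod 4, (r (u * (u * (u * (u * (u * (u * (u * (u * k)))))))) : DihedralGroup 4) = r k := by decide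
    exact key u hu k
  · simp only [hl]
    have key : ∀ u : ZMod 4, (u = 1 ∨ u = 3) → ∀ j k : ZMod 4, (sr (j + u * (j + u * (j + u * (j + u * (j + u * (j + u * (j + u * (j + u * k)))))))) : DihedralGroup 4) = sr k := by decide
    exact key u hu j k

/-- A group which is an extension of a dihedral group of order eight by a cyclic group of odd order. -/
theorem prod_of_d8 {X C : Type*} [Group X] [Finite X] [Group C] (π : X →* C) (hs : Function.Surjective π) [hc : IsCyclic C]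
    {f : ℕ} (hf : Nat.card C = f) (hodd : Odd f) (e₁ : π.ker ≃* DihedralGroup 4) :
    Nonempty (X ≃* DihedralGroup 4 × Multiplicative (ZMod f)) := by
  classical
  haveI hfinC : Finite C := Finite.of_surjective π hs
  have hK : Nat.card π.ker = 8 := by
    rw [Nat.card_congr e₁.toEquiv, DihedralGroup.nat_card]
  have hidx : π.ker.index = f := by
    rw [Subgroup.index_ker, MonoidHom.range_eq_top.2 hs, Subgroup.card_top, hf]
  have hcop : (Nat.card π.ker).Coprime π.ker.index := by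
    rw [hK, hidx]
    have : Nat.Coprime (2 ^ 3) f := Nat.Coprime.pow_left 3 ((Nat.coprime_two_left).2 hodd)
    exact this
  obtain ⟨H, hH⟩ := Subgroup.exists_right_complement'_of_coprime hcop
  have hinj : Function.Injective (π.comp H.subtype) := by
    rw [injective_iff_map_eq_one]
    intro h hh
    have h1 : (h : X) ∈ π.ker := hh
    have h2 : (h : X) ∈ H := h.2
    have h3 := Subgroup.disjoint_def.1 hH.disjoint h1 h2
    exact Subtype.ext h3
  have hsurj : Function.Surjective (π.comp H.subtype) := by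
    intro c
    obtain ⟨x, rfl⟩ := hs c
    obtain ⟨⟨k, h⟩, rfl⟩ := hH.2 x
    refine ⟨h, ?_⟩
    have hk : π k.1 = 1 := k.2
    simp [hk]
  let e₂ : H ≃* C := MulEquiv.ofBijective (π.comp H.subtype) ⟨hinj, hsurj⟩
  let s : C →* X := H.subtype.comp e₂.symm.toMonoidHom
  have hπs : ∀ c, π (s c) = c := fun c => e₂.apply_symm_apply c
  have hcomm : ∀ k ∈ π.ker, ∀ c, k * s c = s c * k := by
    intro k hk c
    let β : MulAut π.ker := MulAut.conjNormal (s c)
    have h1 : β ^ f = 1 := by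
      show (MulAut.conjNormal (s c)) ^ f = 1
      rw [← map_pow, ← map_pow]
      have : c ^ f = 1 := by
        rw [← hf]
        exact pow_card_eq_one'
      rw [this, map_one, map_one]
    have h2 : β ^ 8 = 1 := by
      have h3 := aut_d8_pow_eight (MulAut.congr e₁ β)
      rw [← map_pow] at h3
      exact (MulEquiv.map_eq_one_iff _).1 h3
    have h4 : β = 1 := by
      have h5 := (pow_gcd_eq_one (a := β) (m := f) (n := 8)).2 ⟨h1, h2⟩
      have h6 : Nat.gcd f 8 = 1 := by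
        have : Nat.Coprime (2 ^ 3) f := Nat.Coprime.pow_left 3 ((Nat.coprime_two_left).2 hodd)
        exact (Nat.Coprime.symm this)
      rwa [h6, pow_one] at h5
    have h7 : s c * k * (s c)⁻¹ = k := by
      have := DFunLike.congr_fun h4 ⟨k, hk⟩
      exact congrArg Subtype.val this
    calc k * s c = s c * k * (s c)⁻¹ * s c := by rw [h7]
      _ = s c * k := by group
  let e₃ := prodOfSection π s hπs hcomm
  have e₄ : Multiplicative (ZMod f) ≃* C := by
    have := zmodCyclicMulEquiv hc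
    rw [hf] at this
    exact this
  exact ⟨e₃.trans (MulEquiv.prodCongr e₁ e₄.symm)⟩

/-- An abelian group with an element of order `2f` and a complementary involution. -/
theorem abelian_prod {X : Type*} [Group X] (hcomm : ∀ x y : X, x * y = y * x) {f : ℕ} (hf : 1 ≤ f)
    (hcard : Nat.card X = 4 * f) {ξ δ : X} (hξ : orderOf ξ = 2 * f) (hδ : δ * δ = 1)
    (hne : ∀ k : ℕ, δ ≠ ξ ^ k) : Nonempty (X ≃* Multiplicative (ZMod 2 × ZMod (2 * f))) := by
  classical
  letI : CommGroup X := { ‹Group X› with mul_comm := hcomm }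
  haveI : NeZero (2 * f) := ⟨by omega⟩
  have hξ1 : ξ ^ (2 * f) = 1 := by rw [← hξ, pow_orderOf_eq_one]
  let A : ZMod 2 →+ Additive X := ZMod.lift 2 ⟨zmultiplesHom _ (Additive.ofMul δ), by
    show ((2 : ℕ) : ℤ) • (Additive.ofMul δ) = 0
    rw [natCast_zsmul, two_nsmul]
    exact congrArg Additive.ofMul hδ⟩
  let B : ZMod (2 * f) →+ Additive X := ZMod.lift (2 * f) ⟨zmultiplesHom _ (Additive.ofMul ξ), by
    show ((2 * f : ℕ) : ℤ) • (Additive.ofMul ξ) = 0
    rw [natCast_zsmul, ← ofMul_pow, hξ1]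
    rfl⟩
  let ψ : ZMod 2 × ZMod (2 * f) →+ Additive X := A.coprod B
  have hA : ∀ a : ZMod 2, a = 0 ∨ a = 1 := by decide
  have hB : ∀ b : ZMod (2 * f), B b = Additive.ofMul (ξ ^ b.val) := by
    intro b
    have : b = ((b.val : ℤ) : ZMod (2 * f)) := by simp
    conv_lhs => rw [this]
    show ZMod.lift (2 * f) _ _ = _
    rw [ZMod.lift_coe]
    simp only [zmultiplesHom_apply, natCast_zsmul, ofMul_pow]
  have hinj : Function.Injective ψ := by
    rw [injective_iff_map_eq_zero]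
    rintro ⟨a, b⟩ h
    have h1 : A a + B b = 0 := h
    rw [hB] at h1
    rcases hA a with rfl | rfl
    · rw [map_zero, zero_add] at h1
      have h2 : ξ ^ b.val = 1 := h1
      have h3 := orderOf_dvd_of_pow_eq_one h2
      rw [hξ] at h3
      have h4 : b.val = 0 := Nat.eq_zero_of_dvd_of_lt h3 (ZMod.val_lt b)
      have h5 : b = 0 := (ZMod.val_eq_zero b).1 h4
      rw [h5]
      rfl
    · exfalso
      have hA1 : A 1 = Additive.ofMul δ := by
        have : (1 : ZMod 2) = ((1 : ℤ) : ZMod 2) := by simp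
        conv_lhs => rw [this]
        show ZMod.lift 2 _ _ = _
        rw [ZMod.lift_coe]
        simp
      rw [hA1] at h1
      have h2 : δ * ξ ^ b.val = 1 := h1
      have h3 : δ * δ = δ * ξ ^ b.val := by rw [hδ, h2]
      exact hne b.val (mul_left_cancel h3)
  have hfin : Finite X := Nat.finite_of_card_ne_zero (by omega)
  have hcard2 : Nat.card (ZMod 2 × ZMod (2 * f)) = Nat.card (Additive X) := by
    rw [Nat.card_prod, Nat.card_zmod, Nat.card_zmod]
    show _ = Nat.card X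
    rw [hcard]
    ring
  have hbij : Function.Bijective ψ := (Nat.bijective_iff_injective_and_card ψ).2 ⟨hinj, hcard2⟩
  let e : (ZMod 2 × ZMod (2 * f)) ≃+ Additive X := AddEquiv.ofBijective ψ hbij
  exact ⟨(AddEquiv.toMultiplicative e).symm.trans (MulEquiv.refl _) |>.trans (MulEquiv.refl _)⟩

/-- Comparing the quotient of a subgroup with its image. -/
theorem equiv_of_map {A Y : Type*} [Group A] [Group Y] (I P : Subgroup A) [I.Normal] (φ : P →* Y)
    (hs : Function.Surjective φ) (hk : φ.ker = I.subgroupOf P) (K : Subgroup (A ⧸ I))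
    (hK : K = P.map (QuotientGroup.mk' I)) : Nonempty (K ≃* Y) := by
  subst hK
  let ψ : P →* P.map (QuotientGroup.mk' I) := (QuotientGroup.mk' I).subgroupMap P
  have hψ : Function.Surjective ψ := (QuotientGroup.mk' I).subgroupMap_surjective P
  have hker : ψ.ker = φ.ker := by
    rw [hk]
    ext x
    rw [MonoidHom.mem_ker, Subgroup.mem_subgroupOf]
    constructor
    · intro h
      have h1 : QuotientGroup.mk' I (x : A) = 1 := congrArg Subtype.val h
      exact (QuotientGroup.eq_one_iff _).1 h1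
    · intro h
      apply Subtype.ext
      exact (QuotientGroup.eq_one_iff _).2 h
  exact ⟨(QuotientGroup.quotientKerEquivOfSurjective ψ hψ).symm.trans
    ((QuotientGroup.quotientMulEquivOfEq hker).trans (QuotientGroup.quotientKerEquivOfSurjective φ hs))⟩

end abstract

section bridge

variable {F : Type u} [Field F] [Fintype F] {ι : Type} [Fintype ι] [DecidableEq ι]
variable {Q : QuadraticForm F (ι → F)}

/-- The outer class of a similarity. -/
theorem outCongr_mk (hQ : (polarBilin Q).Nondegenerate) (hn : 5 ≤ Fintype.card ι) (g : Hs ⇑Q) :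
    outCongr (pOmegaEquiv Q hQ hn) (QuotientGroup.mk' (Cfsg.Inn (Cfsg.POmega F ⇑Q)) (conjHom ⇑Q g)) = outHom Q (toSemi Q g) := by
  have h1 : MulAut.congr (pOmegaEquiv Q hQ hn) (conjHom ⇑Q g) = phi Q (toSemi Q g) := by
    ext x
    obtain ⟨x, rfl⟩ := (pOmegaEquiv Q hQ hn).surjective x
    rw [← pOmegaEquiv_conjHom]
    simp [MulAut.congr]
  show QuotientGroup.mk' _ (MulAut.congr (pOmegaEquiv Q hQ hn) (conjHom ⇑Q g)) = _
  rw [h1]
  rfl

theorem toSemi_mul (g h : Hs ⇑Q) : toSemi Q (g * h) = toSemi Q g * toSemi Q h := by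
  apply Subtype.ext
  ext x i
  show ((g * h : Hs ⇑Q).1.val *ᵥ x) i = (g.1.val *ᵥ (h.1.val *ᵥ x)) i
  simp [Matrix.mulVec_mulVec, Units.val_mul]

theorem toSemi_one : toSemi Q (1 : Hs ⇑Q) = 1 := by
  apply Subtype.ext
  ext x i
  show ((1 : Hs ⇑Q).1.val *ᵥ x) i = x i
  simp

/-- `toSemi` as a homomorphism. -/
noncomputable def toSemiHom (Q : QuadraticForm F (ι → F)) : Hs ⇑Q →* SemiEl Q :=
  MonoidHom.mk' (toSemi Q) toSemi_mul

@[simp] theorem toSemiHom_apply (g : Hs ⇑Q) : toSemiHom Q g = toSemi Q g := rfl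

/-- Field automorphisms preserve squares. -/
theorem isSquare_ratio (h2 : (2 : F) ≠ 0) (σ : F ≃+* F) {μ : F} (hμ : μ ≠ 0) : ∃ c : F, c ≠ 0 ∧ c * c = σ μ / μ := by
  classical
  have hch : ringChar F ≠ 2 := by
    intro h
    apply h2
    have := ringChar.spec F 2
    exact_mod_cast this.2 (by rw [h])
  have hσ : IsSquare (σ μ) ↔ IsSquare μ := by
    constructor
    · rintro ⟨t, ht⟩
      refine ⟨σ.symm t, ?_⟩
      apply σ.injective
      rw [ht, map_mul, σ.apply_symm_apply]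
    · rintro ⟨t, rfl⟩
      exact ⟨σ t, map_mul σ t t⟩
  have hσ0 : σ μ ≠ 0 := fun h => hμ (σ.map_eq_zero_iff.1 h)
  have hprod : IsSquare (σ μ * μ) := by
    rw [← quadraticChar_one_iff_isSquare (mul_ne_zero hσ0 hμ), map_mul]
    by_cases hs : IsSquare μ
    · rw [(quadraticChar_one_iff_isSquare hμ).2 hs, (quadraticChar_one_iff_isSquare hσ0).2 (hσ.2 hs), one_mul]
    · rw [quadraticChar_neg_one_iff_not_isSquare.2 hs, quadraticChar_neg_one_iff_not_isSquare.2 (fun h => hs (hσ.1 h))]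
      norm_num
  obtain ⟨s, hs⟩ := hprod
  have hs0 : s ≠ 0 := by
    rintro rfl
    simp at hs
    tauto
  refine ⟨s / μ, div_ne_zero hs0 hμ, ?_⟩
  field_simp
  rw [pow_two, ← hs]
  ring

/-- The determinant of a conjugate under a semilinear map. -/
theorem det_conj_semi {g : (ι → F) ≃+ (ι → F)} {σ : F ≃+* F} {l : F} (H : Semi Q g σ l) (M M' : Matrix ι ι F)
    (hM : ∀ x, M' *ᵥ x = g (M *ᵥ g.symm x)) : M'.det = σ M.det := by
  classical
  let φ : (ι → F) ≃+ (ι → F) := coordEquiv σ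
  have hφs : ∀ x, φ.symm x = fun i => σ.symm (x i) := fun x => rfl
  let L0 : (ι → F) ≃+ (ι → F) := φ.symm.trans g
  have hL0 : ∀ (c : F) (x : ι → F), L0 (c • x) = c • L0 x := by
    intro c x
    show g (φ.symm (c • x)) = c • g (φ.symm x)
    have : φ.symm (c • x) = σ.symm c • φ.symm x := by
      ext i
      rw [hφs, hφs]
      simp
    rw [this, H.smul, σ.apply_symm_apply]
  let L : (ι → F) ≃ₗ[F] (ι → F) := L0.toLinearEquiv hL0
  let N : Matrix ι ι F := M.map σ
  have hN : ∀ x, N *ᵥ x = φ (M *ᵥ φ.symm x) := by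
    intro x
    ext i
    show _ = σ ((M *ᵥ φ.symm x) i)
    simp [N, Matrix.mulVec, dotProduct, map_sum, hφs]
  have h1 : Matrix.toLin' M' = L.toLinearMap ∘ₗ Matrix.toLin' N ∘ₗ L.symm.toLinearMap := by
    ext1 i
    ext j
    have hL : ∀ y, L y = g (φ.symm y) := fun y => rfl
    have hLs : ∀ y, φ.symm (L.symm y) = g.symm y := by
      intro y
      apply g.injective
      rw [g.apply_symm_apply]
      exact L.apply_symm_apply y
    have hLs2 : ∀ y, L.symm y = φ (g.symm y) := by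
      intro y
      rw [← hLs, φ.apply_symm_apply]
    simp only [LinearMap.comp_apply, LinearEquiv.coe_coe, Matrix.toLin'_apply]
    rw [hM, hL, hN, φ.symm_apply_apply, hLs]
  have h3 := congrArg LinearMap.det h1
  rw [LinearMap.det_toLin', LinearMap.det_conj, LinearMap.det_toLin'] at h3
  rw [h3]
  exact (RingEquiv.map_det σ M).symm

variable (hQ : (polarBilin Q).Nondegenerate) [Nontrivial (ι → F)]
include hQ

/-- The conjugate of a similarity under a semisimilarity. -/
theorem conj_Hs {g : (ι → F) ≃+ (ι → F)} {σ : F ≃+* F} {l : F} (H : Semi Q g σ l) (h : Hs ⇑Q) :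
    ∃ M : Hs ⇑Q, (∀ x, M.1.val *ᵥ x = g (h.1.val *ᵥ g.symm x)) ∧ (mult hQ M : F) = σ (mult hQ h) ∧
      M.1.val.det = σ h.1.val.det := by
  let t : (ι → F) ≃+ (ι → F) := (g.symm.trans (toSemi Q h).1).trans g
  have ht : ∀ x, t x = g (h.1.val *ᵥ g.symm x) := fun x => rfl
  have hs : Semi Q t (RingEquiv.refl F) (σ (mult hQ h)) := by
    refine ⟨fun c x => ?_, fun x => ?_, ?_⟩
    · rw [ht, ht, H.symm_smul, Matrix.mulVec_smul, H.smul, σ.apply_symm_apply]
      rfl
    · rw [ht, H.Q_eq, mult_spec hQ, map_mul, mul_left_comm, ← H.Q_eq, g.apply_symm_apply]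
      rfl
    · intro h0
      exact (mult hQ h).ne_zero (σ.map_eq_zero_iff.1 h0)
  obtain ⟨M, hM1, hM2⟩ := exists_Hs_of_semi hQ hs
  refine ⟨M, fun x => (hM1 x).trans (ht x), hM2, det_conj_semi H _ _ fun x => (hM1 x).trans (ht x)⟩

variable (p : ℕ) [hp : Fact p.Prime] [hc : CharP F p]
include p

/-- The similarities which are scalar multiples of special isometries have trivial outer class. -/
theorem outHom_eq_one_of_mult (hI : Cfsg.psoAut F ⇑Q ≤ Cfsg.Inn (Cfsg.POmega F ⇑Q)) (hn : 5 ≤ Fintype.card ι) {m : ℕ}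
    (hcard : Fintype.card ι = 2 * m) (h : Hs ⇑Q) (c : F) (hc0 : c ≠ 0) (hmult : (mult hQ h : F) = c * c)
    (hdet : h.1.val.det = c ^ (2 * m)) : outHom Q (toSemi Q h) = 1 := by
  set cu : Fˣ := Units.mk0 c hc0 with hcu
  set w : Hs ⇑Q := (scH cu)⁻¹ * h with hw
  have hwm : mult hQ w = 1 := by
    rw [hw, map_mul, map_inv, mult_scH]
    have : mult hQ h = cu * cu := Units.ext (by rw [hmult]; rfl)
    rw [this]
    exact inv_mul_cancel _
  have hwiso : w.1 ∈ Cfsg.isometryGroup F ⇑Q := (mem_ker_mult hQ).1 hwm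
  have hwdet : Matrix.GeneralLinearGroup.det w.1 = 1 := by
    let δ : Hs ⇑Q →* Fˣ := Matrix.GeneralLinearGroup.det.comp (Hs ⇑Q).subtype
    have e1 : δ (scH cu) = cu ^ Fintype.card ι := Units.ext (by
      show ((scH cu : Hs ⇑Q).1 : GL ι F).val.det = _
      rw [scH_val, Matrix.det_smul, Matrix.det_one, mul_one]
      rfl)
    have e2 : δ h = cu ^ Fintype.card ι := Units.ext (by
      show h.1.val.det = _
      rw [hdet, hcard]
      rfl)
    show δ w = 1
    rw [hw, map_mul, map_inv, e1, e2]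
    exact inv_mul_cancel _
  have hwso : w ∈ soH ⇑Q := ⟨hwiso, hwdet⟩
  have hconj : conjHom ⇑Q w = conjHom ⇑Q h := by
    rw [hw, map_mul, map_inv]
    have : conjHom ⇑Q (scH cu) = 1 := (conjHom_eq_one_iff (p := p) hQ hn _).2 ⟨c, hc0, by rw [scH_val]; rfl⟩
    rw [this]
    simp
  have hmem : conjHom ⇑Q h ∈ Cfsg.Inn (Cfsg.POmega F ⇑Q) := by
    apply hI
    rw [psoAut_eq, ← hconj]
    exact ⟨w, hwso, rfl⟩
  have h1 : QuotientGroup.mk' (Cfsg.Inn (Cfsg.POmega F ⇑Q)) (conjHom ⇑Q h) = 1 := (QuotientGroup.eq_one_iff _).2 hmem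
  rw [← outCongr_mk hQ hn, h1, map_one]

/-- Similarities commute with all semisimilarities modulo the inner automorphisms, if `PSO` is inner. -/
theorem comm_outHom (h2 : (2 : F) ≠ 0) (hI : Cfsg.psoAut F ⇑Q ≤ Cfsg.Inn (Cfsg.POmega F ⇑Q)) (hn : 5 ≤ Fintype.card ι) {m : ℕ}
    (hcard : Fintype.card ι = 2 * m) (g : SemiEl Q) (h : Hs ⇑Q) :
    outHom Q g * outHom Q (toSemi Q h) = outHom Q (toSemi Q h) * outHom Q g := by
  obtain ⟨σ, l, H⟩ := g.2
  obtain ⟨M, hM1, hM2, hM3⟩ := conj_Hs hQ H h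
  have hM : toSemi Q M = g * toSemi Q h * g⁻¹ := by
    apply Subtype.ext
    ext x i
    exact congrFun (hM1 x) i
  set μ : F := ((mult hQ h : Fˣ) : F) with hμ
  have hμ0 : μ ≠ 0 := (mult hQ h).ne_zero
  obtain ⟨c, hc0, hc⟩ := isSquare_ratio h2 σ hμ0
  have hd := det_sq_of_sim hQ h.1.val μ (fun v => mult_spec hQ h v)
  rw [hcard, pow_mul', pow_two] at hd
  have hd0 : h.1.val.det ≠ 0 := by
    intro h0
    have : (h.1.val.det) = ((Matrix.GeneralLinearGroup.det h.1 : Fˣ) : F) := rfl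
    rw [this] at h0
    exact Units.ne_zero _ h0
  have hdsm : σ h.1.val.det / h.1.val.det = c ^ (2 * m) := by
    have h3 : (h.1.val.det - μ ^ m) * (h.1.val.det + μ ^ m) = 0 := by linear_combination hd
    have hpow : c ^ (2 * m) = (σ μ) ^ m / μ ^ m := by
      rw [pow_mul, pow_two, hc, div_pow]
    rw [hpow]
    have hμm : μ ^ m ≠ 0 := pow_ne_zero _ hμ0
    rcases mul_eq_zero.1 h3 with h4 | h4
    · have h5 : h.1.val.det = μ ^ m := sub_eq_zero.1 h4
      rw [h5, map_pow]
    · have h5 : h.1.val.det = - μ ^ m := eq_neg_of_add_eq_zero_left h4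
      rw [h5, map_neg, map_pow, neg_div_neg_eq]
  have hu : outHom Q (toSemi Q (M * h⁻¹)) = 1 := by
    apply outHom_eq_one_of_mult hQ p hI hn hcard _ c hc0
    · rw [map_mul, map_inv, Units.val_mul, Units.val_inv_eq_inv_val, hM2, ← div_eq_mul_inv, hc]
    · have e1 : ((M * h⁻¹ : Hs ⇑Q).1).val.det = M.1.val.det * (h⁻¹ : Hs ⇑Q).1.val.det := by
        show ((M.1 * (h⁻¹ : Hs ⇑Q).1 : GL ι F)).val.det = _
        rw [Units.val_mul, Matrix.det_mul]
      have e2 : (h⁻¹ : Hs ⇑Q).1.val.det = (h.1.val.det)⁻¹ := by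
        have e3 : (h.1.val.det) * (h⁻¹ : Hs ⇑Q).1.val.det = 1 := by
          rw [← Matrix.det_mul, ← Units.val_mul]
          have : h.1 * (h⁻¹ : Hs ⇑Q).1 = 1 := by
            rw [← Subgroup.coe_mul, mul_inv_cancel]
            rfl
          rw [this]
          simp
        exact eq_inv_of_mul_eq_one_right e3
      rw [e1, e2, hM3, ← div_eq_mul_inv, hdsm]
  rw [toSemi_mul] at hu
  have hinv : toSemi Q h⁻¹ = (toSemi Q h)⁻¹ := map_inv (toSemiHom Q) h
  rw [hinv, map_mul, map_inv, hM, map_mul, map_mul, map_inv] at hu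
  have h5 := mul_inv_eq_one.1 hu
  have h6 := mul_inv_eq_iff_eq_mul.1 h5
  exact h6

end bridge

section main

variable {F : Type u} [Field F] [Fintype F] {ι : Type} [Fintype ι] [DecidableEq ι]
variable {Q : QuadraticForm F (ι → F)}
variable (hQ : (polarBilin Q).Nondegenerate) [Nontrivial (ι → F)]
variable (p : ℕ) [hp : Fact p.Prime] [hc : CharP F p]
include hQ p

/-- The semisimilarities with trivial field automorphism come from similarities. -/
theorem exists_toSemi_of_ker {g : SemiEl Q} (hg : g ∈ (thetaHom Q).ker) : ∃ h : Hs ⇑Q, toSemi Q h = g := by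
  obtain ⟨l, H⟩ := mem_ker_theta.1 hg
  obtain ⟨h, h1, -⟩ := exists_Hs_of_semi hQ H
  refine ⟨h, Subtype.ext ?_⟩
  ext x i
  exact congrFun (h1 x) i

theorem theta_toSemi (h : Hs ⇑Q) : thetaHom Q (toSemi Q h) = 1 := by
  obtain ⟨l, H⟩ := semi_of_Hs Q h
  exact thetaHom_eq (toSemi Q h) H

/-- The kernel of the map to the field automorphisms is the image of the conformal group. -/
theorem ker_theta_out (hn : 7 ≤ Fintype.card ι) (h8 : NoSolid Q) :
    ((thetaOut hQ p (by rw [finrank_eq]; exact hn) h8).comp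
      (outCongr (pOmegaEquiv Q hQ (by omega))).toMonoidHom).ker =
      (Cfsg.pgoAut F ⇑Q).map (QuotientGroup.mk' (Cfsg.Inn (Cfsg.POmega F ⇑Q))) := by
  have hn7 : 7 ≤ finrank F (ι → F) := by rw [finrank_eq]; exact hn
  ext x
  constructor
  · intro hx
    obtain ⟨g, hg⟩ := surjective_outHom hQ p hn7 h8 (outCongr (pOmegaEquiv Q hQ (by omega)) x)
    have h1 : thetaHom Q g = 1 := by
      rw [← thetaOut_apply hQ p hn7 h8, hg]
      exact hx
    obtain ⟨h, rfl⟩ := exists_toSemi_of_ker hQ p h1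
    refine ⟨conjHom ⇑Q h, ?_, ?_⟩
    · rw [pgoAut_eq]
      exact ⟨h, rfl⟩
    · apply (outCongr (pOmegaEquiv Q hQ (by omega))).injective
      rw [outCongr_mk hQ (by omega), hg]
  · rintro ⟨α, hα, rfl⟩
    rw [pgoAut_eq] at hα
    obtain ⟨h, rfl⟩ := hα
    rw [MonoidHom.mem_ker]
    show thetaOut hQ p hn7 h8 (outCongr (pOmegaEquiv Q hQ (by omega)) (QuotientGroup.mk' _ (conjHom ⇑Q h))) = 1
    rw [outCongr_mk hQ (by omega), thetaOut_apply]
    exact theta_toSemi hQ p h

/-- If the field automorphisms are induced and the conformal group modulo inner automorphisms is dihedral. -/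
theorem out_d8 (hn : 7 ≤ Fintype.card ι) (h8 : NoSolid Q) {f : ℕ} (hF : Fintype.card F = p ^ f) (hf : 1 ≤ f) (hodd : Odd f)
    (hθ : ∀ θ : F ≃+* F, ∃ g l, Semi Q g θ l)
    (hd8 : ∃ φ : Cfsg.pgoAut F ⇑Q →* DihedralGroup 4, Function.Surjective φ ∧
      φ.ker = (Cfsg.Inn (Cfsg.POmega F ⇑Q)).subgroupOf (Cfsg.pgoAut F ⇑Q)) :
    Nonempty (Cfsg.Out (Cfsg.POmega F ⇑Q) ≃* DihedralGroup 4 × Multiplicative (ZMod f)) := by
  have hn7 : 7 ≤ finrank F (ι → F) := by rw [finrank_eq]; exact hn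
  let π : Cfsg.Out (Cfsg.POmega F ⇑Q) →* (F ≃+* F) := (thetaOut hQ p hn7 h8).comp
      (outCongr (pOmegaEquiv Q hQ (by omega))).toMonoidHom
  have hs : Function.Surjective π := by
    intro θ
    obtain ⟨g, l, H⟩ := hθ θ
    let g' : SemiEl Q := ⟨g, θ, l, H⟩
    obtain ⟨x, hx⟩ := (outCongr (pOmegaEquiv Q hQ (by omega))).surjective (outHom Q g')
    refine ⟨x, ?_⟩
    show thetaOut hQ p hn7 h8 (outCongr (pOmegaEquiv Q hQ (by omega)) x) = θ
    rw [hx, thetaOut_apply]
    exact thetaHom_eq g' H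
  haveI : Finite (Cfsg.Out (Cfsg.POmega F ⇑Q)) := Finite.of_surjective (QuotientGroup.mk' _) (QuotientGroup.mk'_surjective _)
  haveI hcyc : IsCyclic (F ≃+* F) := Cfsg.Agent.Lib.KS71.GalFin.isCyclic
  obtain ⟨φ, hφ1, hφ2⟩ := hd8
  obtain ⟨e₁⟩ := equiv_of_map (Cfsg.Inn (Cfsg.POmega F ⇑Q)) (Cfsg.pgoAut F ⇑Q) φ hφ1 hφ2 π.ker (ker_theta_out hQ p hn h8)
  exact prod_of_d8 π hs (Cfsg.Agent.Lib.KS71.PSLAutGroup.card_ringEquiv hF hf) hodd e₁

/-- The abelian case. -/
theorem out_abelian (hn : 7 ≤ Fintype.card ι) (h8 : NoSolid Q) {f m : ℕ} (hF : Fintype.card F = p ^ f) (hf : 1 ≤ f) (h2 : (2 : F) ≠ 0)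
    (hcard : Fintype.card ι = 2 * m) (hall : ∀ c : F, c ≠ 0 → ∃ g, Semi Q g (RingEquiv.refl F) c)
    (hI : Cfsg.psoAut F ⇑Q ≤ Cfsg.Inn (Cfsg.POmega F ⇑Q)) (hX : Nat.card (Cfsg.Out (Cfsg.POmega F ⇑Q)) = 4 * f)
    (g₀ : SemiEl Q) (hg₀ : thetaHom Q g₀ = frobE p 1) {v : ι → F} (hv : Q v ≠ 0) (hg₀f : ∀ x, (g₀ ^ f).1 x = refl Q v x) :
    Nonempty (Cfsg.Out (Cfsg.POmega F ⇑Q) ≃* Multiplicative (ZMod 2 × ZMod (2 * f))) := by
  classical
  have hn7 : 7 ≤ finrank F (ι → F) := by rw [finrank_eq]; exact hn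
  have hn5 : 5 ≤ Fintype.card ι := by omega
  let e := outCongr (pOmegaEquiv Q hQ hn5)
  have hcard' : Nat.card (Cfsg.Out (Gbar Q)) = 4 * f := by
    rw [← hX]
    exact Nat.card_congr e.toEquiv.symm
  haveI : Finite (Cfsg.Out (Gbar Q)) := Nat.finite_of_card_ne_zero (by omega)
  let π := thetaOut hQ p hn7 h8
  set ξ := outHom Q g₀ with hξ
  have hsurj := surjective_outHom hQ p hn7 h8
  have hπ : π ξ = frobE p 1 := by
    show thetaOut hQ p hn7 h8 (outHom Q g₀) = _
    rw [thetaOut_apply, hg₀]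
  have hord1 : orderOf (frobE (F := F) p 1) = f := orderOf_frobE hF hf
  have hdvd1 : f ∣ orderOf ξ := by
    rw [← hord1, ← hπ]
    exact orderOf_dvd_of_pow_eq_one (by rw [← map_pow, pow_orderOf_eq_one, map_one])
  -- the reflection
  have hsq : (g₀ ^ f) * (g₀ ^ f) = 1 := by
    apply Subtype.ext
    ext1 x
    show (g₀ ^ f).1 ((g₀ ^ f).1 x) = x
    rw [hg₀f, hg₀f]
    show (refl Q v * refl Q v) x = x
    rw [refl_mul_self]
    rfl
  have hdvd2 : orderOf ξ ∣ 2 * f := by
    apply orderOf_dvd_of_pow_eq_one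
    rw [hξ, ← map_pow, two_mul, pow_add, hsq, map_one]
  have hne : ξ ^ f ≠ 1 := by
    intro h1
    rw [hξ, ← map_pow] at h1
    obtain ⟨c, t, hc0, hct⟩ := (mem_ker_outHom hQ p (by omega)).1 h1
    have hrefl : ∀ x, refl Q v x = c • t.1 x := fun x => by rw [← hct, hg₀f]
    have hc2 : c * c = 1 := by
      have h3 := congrArg Q (hrefl v)
      rw [QuadraticMap.map_smul, eGroup_le_iso t.2 v, refl_mem Q _ v, smul_eq_mul] at h3
      have h4 : (c * c - 1) * Q v = 0 := by rw [sub_mul, ← h3]; ring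
      exact sub_eq_zero.1 ((mul_eq_zero.1 h4).resolve_right hv)
    -- the determinant
    obtain ⟨s, hs⟩ := (omegaEquiv Q hQ hn5).surjective t
    have hds : ((s.1 : GL ι F)).val.det = 1 := by
      have := omH_le_soH (Q := Q) hQ (⟨s, rfl⟩ : omegaToHs s ∈ omH ⇑Q)
      have h7 : Matrix.GeneralLinearGroup.det (s.1 : GL ι F) = 1 := this.2
      exact congrArg Units.val h7
    have hmat : (Cfsg.Agent.Lib.Orth.Closure.reflEl Q v : Cfsg.isometryGroup F ⇑Q).1.val = c • ((s.1 : GL ι F)).val := by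
      apply Cfsg.Agent.Lib.Orth.Words.mat_eq_of_mulVec
      intro x
      rw [Cfsg.Agent.Lib.Orth.Closure.reflEl, toIso_symm_mulVec, Matrix.smul_mulVec, hrefl x, ← hs, omegaEquiv_apply]
    have hdet := congrArg Matrix.det hmat
    rw [Cfsg.Agent.Lib.Orth.Closure.reflEl_val, Cfsg.Agent.Lib.Reflect.Basic.reflection_det Q v hv, Matrix.det_smul, hds, hcard,
      pow_mul, pow_two, hc2, one_pow, mul_one] at hdet
    apply h2
    have h7 : (2 : F) = 1 + 1 := by norm_num
    rw [h7]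
    nth_rw 1 [← hdet]
    simp
  have hord : orderOf ξ = 2 * f := by
    obtain ⟨d, hd⟩ := hdvd1
    obtain ⟨c, hc'⟩ := hdvd2
    have h1 : 2 = d * c := by
      have : f * 2 = f * (d * c) := by
        rw [mul_comm f 2, hc', hd]
        ring
      exact Nat.eq_of_mul_eq_mul_left (by omega) this
    have hd2 : d = 1 ∨ d = 2 := (Nat.dvd_prime Nat.prime_two).1 ⟨c, h1⟩
    rcases hd2 with rfl | rfl
    · exfalso
      apply hne
      rw [mul_one] at hd
      rw [← hd, pow_orderOf_eq_one]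
    · rw [hd]
      ring
  -- a nonsquare multiplier
  have hch : ringChar F ≠ 2 := by
    intro h
    apply h2
    have := ringChar.spec F 2
    exact_mod_cast this.2 (by rw [h])
  obtain ⟨ν, hν⟩ := FiniteField.exists_nonsquare hch
  have hν0 : ν ≠ 0 := by
    rintro rfl
    exact hν (IsSquare.zero)
  obtain ⟨gν, Hν⟩ := hall ν hν0
  obtain ⟨d, hd1, hd2⟩ := exists_Hs_of_semi hQ Hν
  set δ := outHom Q (toSemi Q d) with hδ
  have hδ2 : δ * δ = 1 := by
    rw [hδ, ← map_mul, ← toSemi_mul]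
    apply outHom_eq_one_of_mult hQ p hI hn5 hcard _ ν hν0
    · rw [map_mul, Units.val_mul, hd2]
    · show ((d.1 * d.1 : GL ι F)).val.det = _
      rw [Units.val_mul, Matrix.det_mul, det_sq_of_sim hQ d.1.val ν, hcard]
      intro w
      rw [mult_spec hQ, hd2]
  -- the powers of `g₀`
  have hisopow : ∀ (j : ℕ) (x : ι → F), Q (((g₀ ^ f) ^ j).1 x) = Q x := by
    intro j
    induction j with
    | zero => intro x; rfl
    | succ j ih =>
      intro x
      rw [pow_succ, SemiEl.mul_apply, ih, hg₀f, refl_mem]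
  have hne2 : ∀ k : ℕ, δ ≠ ξ ^ k := by
    intro k hk
    have h1 : π δ = 1 := by
      show thetaOut hQ p hn7 h8 (outHom Q (toSemi Q d)) = 1
      rw [thetaOut_apply]
      exact theta_toSemi hQ p d
    rw [hk, map_pow, hπ] at h1
    have h3 : f ∣ k := by
      rw [← hord1]
      exact orderOf_dvd_of_pow_eq_one h1
    obtain ⟨j, rfl⟩ := h3
    rw [hδ, hξ, ← map_pow, pow_mul] at hk
    have h4 : (toSemi Q d)⁻¹ * (g₀ ^ f) ^ j ∈ (outHom Q).ker := by
      rw [MonoidHom.mem_ker, map_mul, map_inv, hk]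
      exact inv_mul_cancel _
    obtain ⟨c, t, hc0, hct⟩ := (mem_ker_outHom hQ p (by omega)).1 h4
    obtain ⟨x, hx⟩ := Cfsg.Agent.Lib.Orth.Closure.exists_nonsingular (Q := Q) hQ
    have h5 : ((g₀ ^ f) ^ j).1 x = d.1.val *ᵥ (c • t.1 x) := by
      rw [← hct, SemiEl.mul_apply]
      have h7 := SemiEl.mul_apply (toSemi Q d) (toSemi Q d)⁻¹ (((g₀ ^ f) ^ j).1 x)
      rw [mul_inv_cancel] at h7
      exact h7
    have h6 := congrArg Q h5
    rw [hisopow, mult_spec hQ, hd2, QuadraticMap.map_smul, eGroup_le_iso t.2 x, smul_eq_mul] at h6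
    have h7 : (1 - ν * (c * c)) * Q x = 0 := by linear_combination h6
    have h8' : ν * (c * c) = 1 := (sub_eq_zero.1 ((mul_eq_zero.1 h7).resolve_right hx)).symm
    apply hν
    refine ⟨c⁻¹, ?_⟩
    field_simp
    linear_combination h8'
  -- commutativity
  have hgen : ∀ x : Cfsg.Out (Gbar Q), ∃ (k : ℕ) (h : Hs ⇑Q), x = outHom Q (toSemi Q h) * ξ ^ k := by
    intro x
    obtain ⟨g, rfl⟩ := hsurj x
    haveI : Finite (F ≃+* F) := by
      apply Nat.finite_of_card_ne_zero
      rw [Cfsg.Agent.Lib.KS71.PSLAutGroup.card_ringEquiv hF hf]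
      omega
    have hpow : thetaHom Q g ∈ Submonoid.powers (frobE (F := F) p 1) := by
      have hc1 : Nat.card (F ≃+* F) = orderOf (frobE (F := F) p 1) := by
        rw [hord1]
        exact Cfsg.Agent.Lib.KS71.PSLAutGroup.card_ringEquiv hF hf
      have h3 : Subgroup.zpowers (frobE (F := F) p 1) = ⊤ := by
        apply Subgroup.eq_top_of_card_eq
        rw [Nat.card_zpowers, hc1]
      have h4 : thetaHom Q g ∈ Subgroup.zpowers (frobE (F := F) p 1) := by
        rw [h3]
        exact Subgroup.mem_top _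
      exact (mem_powers_iff_mem_zpowers).2 h4
    obtain ⟨k, hk⟩ := hpow
    refine ⟨k, ?_⟩
    have h5 : g * (g₀ ^ k)⁻¹ ∈ (thetaHom Q).ker := by
      rw [MonoidHom.mem_ker, map_mul, map_inv, map_pow, hg₀]
      simp only at hk
      rw [hk]
      exact mul_inv_cancel _
    obtain ⟨h, hh⟩ := exists_toSemi_of_ker hQ p h5
    refine ⟨h, ?_⟩
    rw [hh, hξ, map_mul, map_inv, map_pow]
    group
  have hcomm0 : ∀ (x : Cfsg.Out (Gbar Q)) (h : Hs ⇑Q), x * outHom Q (toSemi Q h) = outHom Q (toSemi Q h) * x := by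
    intro x h
    obtain ⟨g, rfl⟩ := hsurj x
    exact comm_outHom hQ p h2 hI hn5 hcard g h
  have hcomm : ∀ x y : Cfsg.Out (Gbar Q), x * y = y * x := by
    intro x y
    obtain ⟨a, h₁, rfl⟩ := hgen x
    obtain ⟨b, h₂, rfl⟩ := hgen y
    have h3 := hcomm0 (ξ ^ a) h₂
    have h4 := hcomm0 (ξ ^ b) h₁
    have h5 := hcomm0 (outHom Q (toSemi Q h₁)) h₂
    calc outHom Q (toSemi Q h₁) * ξ ^ a * (outHom Q (toSemi Q h₂) * ξ ^ b)
        = outHom Q (toSemi Q h₁) * (ξ ^ a * outHom Q (toSemi Q h₂)) * ξ ^ b := by group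
      _ = outHom Q (toSemi Q h₁) * (outHom Q (toSemi Q h₂) * ξ ^ a) * ξ ^ b := by rw [h3]
      _ = (outHom Q (toSemi Q h₁) * outHom Q (toSemi Q h₂)) * (ξ ^ a * ξ ^ b) := by group
      _ = (outHom Q (toSemi Q h₂) * outHom Q (toSemi Q h₁)) * (ξ ^ b * ξ ^ a) := by
          rw [h5, ← pow_add, ← pow_add, add_comm]
      _ = outHom Q (toSemi Q h₂) * (outHom Q (toSemi Q h₁) * ξ ^ b) * ξ ^ a := by group
      _ = outHom Q (toSemi Q h₂) * (ξ ^ b * outHom Q (toSemi Q h₁)) * ξ ^ a := by rw [h4]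
      _ = _ := by group
  obtain ⟨e2⟩ := abelian_prod hcomm hf hcard' hord hδ2 hne2
  exact ⟨e.trans e2⟩

end main

section statement

variable {F : Type u} [Field F] [Fintype F]

/-- The outer automorphism group of `PΩ⁻_{2m}(q)`, `q` odd. -/
theorem out_minus_odd {p f m : ℕ} [hp : Fact p.Prime] (hf : 1 ≤ f) (hF : Fintype.card F = p ^ f) (hp2 : p ≠ 2) (hm : 4 ≤ m) (a b : F)
    (hab : ∀ z₁ z₂ : F, z₁ ^ 2 + a * z₁ * z₂ + b * z₂ ^ 2 = 0 → z₁ = 0 ∧ z₂ = 0) :
    if p ^ f % 4 = 3 ∧ Odd m then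
      Nonempty (Cfsg.Out (Cfsg.POmega F (Cfsg.quadFormMinus (m - 1) F a b)) ≃* DihedralGroup 4 × Multiplicative (ZMod f))
    else
      Nonempty (Cfsg.Out (Cfsg.POmega F (Cfsg.quadFormMinus (m - 1) F a b)) ≃* Multiplicative (ZMod 2 × ZMod (2 * f))) := by
  obtain ⟨k, rfl⟩ : ∃ k, m = k + 1 := ⟨m - 1, by omega⟩
  rw [Nat.add_sub_cancel]
  haveI hcF : CharP F p := charP_of_card hF hf
  have hoddp : Odd p := hp.out.odd_of_ne_two hp2
  have hodd : Odd (Fintype.card F) := by
    rw [hF]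
    exact hoddp.pow
  have h2 : (2 : F) ≠ 0 := OmegaPGO3.two_ne hodd
  have hQ := minusForm_nondeg (F := F) k hab
  have hc1 := OmegaPGO3.minus_card k
  have hn : 7 ≤ Fintype.card ((Fin k ⊕ Fin k) ⊕ Fin 2) := by omega
  have hfr : 7 ≤ finrank F ((Fin k ⊕ Fin k) ⊕ Fin 2 → F) := by rw [finrank_eq]; exact hn
  haveI : Nontrivial ((Fin k ⊕ Fin k) ⊕ Fin 2 → F) := Module.nontrivial_of_finrank_pos (R := F) (by omega)
  have h8 : NoSolid (minusForm k F a b) := fun W hW hdim => (no_half_minus hab W hW hdim).elim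
  have hS := OmegaPGO3.neg_minus_iff k hodd hab
  rw [hF, OmegaPGO3.minus_arith hoddp.pow] at hS
  by_cases hcase : p ^ f % 4 = 3 ∧ Odd (k + 1)
  · rw [if_pos hcase]
    have hek : Even k := by
      have := hcase.2
      rwa [Nat.odd_add_one, Nat.not_odd_iff_even] at this
    have hoddf : Odd f := by
      by_contra hev
      rw [Nat.not_odd_iff_even] at hev
      obtain ⟨r, rfl⟩ := hev
      have h3 := hcase.1
      rw [← two_mul, pow_mul] at h3
      have h4 : Odd p := hoddp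
      have h5 : p ^ 2 % 4 = 1 := by
        obtain ⟨t, rfl⟩ := h4
        have : (2 * t + 1) ^ 2 = 4 * (t * t + t) + 1 := by ring
        omega
      rw [Nat.pow_mod, h5] at h3
      simp at h3
    have hd8 := pgo_mod_inn_neg (Q := minusForm k F a b) hQ p h2 (m := k + 1) hn hc1 (semi_minus_mult hab)
      (by rw [coe_minusForm]; exact hS.2 ⟨hek, hcase.1⟩)
    have key := out_d8 hQ p hn h8 hF hf hoddf (semi_minus hab) hd8
    rw [coe_minusForm] at key
    exact key
  · rw [if_neg hcase]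
    have hnotneg : ¬ ∃ g : Cfsg.isometryGroup F ⇑(minusForm k F a b), g ∈ Cfsg.Omega F ⇑(minusForm k F a b) ∧
        ((g : GL ((Fin k ⊕ Fin k) ⊕ Fin 2) F) : Matrix ((Fin k ⊕ Fin k) ⊕ Fin 2) ((Fin k ⊕ Fin k) ⊕ Fin 2) F) = -1 := by
      rw [coe_minusForm]
      intro h
      obtain ⟨h3, h4⟩ := hS.1 h
      apply hcase
      refine ⟨h4, ?_⟩
      rw [Nat.odd_add_one, Nat.not_odd_iff_even]
      exact h3
    have hrel := relIndex_inn_pso_not_neg (Q := minusForm k F a b) hQ p h2 (m := k + 1) hn hc1 hnotneg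
    have hI : Cfsg.psoAut F ⇑(minusForm k F a b) ≤ Cfsg.Inn (Cfsg.POmega F ⇑(minusForm k F a b)) :=
      Subgroup.relIndex_eq_one.1 hrel
    have hX : Nat.card (Cfsg.Out (Cfsg.POmega F ⇑(minusForm k F a b))) = 4 * f := by
      have h1 := card_out_POmega (minusForm k F a b) hQ hn
      have h3 := card_aut_minus (F := F) hf hF (k + 1) (by omega) a b hab
      rw [Nat.add_sub_cancel, if_neg hp2] at h3
      have hE : Even ((k + 1) * (p ^ f - 1) / 2) := by
        rw [← pow_mod_four_iff hoddp.pow]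
        by_contra hne1
        have h5 : (p ^ f) ^ (k + 1) % 4 = 3 := by
          rw [pow_mod_four_iff' hoddp.pow, ← pow_mod_four_iff hoddp.pow]
          exact hne1
        exact hnotneg (by rw [coe_minusForm]; exact hS.2 ((OmegaPGO3.minus_arith hoddp.pow).1 h5))
      rw [if_pos hE] at h3
      change Nat.card (MulAut (Cfsg.POmega F ⇑(minusForm k F a b))) = 4 * f * Nat.card (Cfsg.POmega F ⇑(minusForm k F a b)) at h3
      rw [h3] at h1
      exact Nat.eq_of_mul_eq_mul_right Nat.card_pos h1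
    have hv : minusForm k F a b (wVec k a) ≠ 0 := by
      rw [Q_wVec]
      exact Cfsg.Agent.Lib.Orth.Forms.disc_ne_zero_of_anisotropic hab
    have key := out_abelian hQ p hn h8 hF hf h2 hc1 (semi_minus_mult hab) hI hX (g0 p k hab)
      (thetaHom_eq _ (exists_semi_g p hab 1).choose_spec.2) hv
      (fun x => by rw [g0_pow_apply, gFun_eq_refl p hF hab])
    rw [coe_minusForm] at key
    exact key

end statement

end Cfsg.Agent.Lib.Classical.OmegaOutOdd
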