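/-
The action of semisimilarities on `PΩ`, and Galois descent for quadratic forms over finite fields.
-/
import Mathlib
import Cfsg.Agent.Lib.Classical.OmegaOutOdd
import Cfsg.Agent.Lib.KS71.Speiser
import Cfsg.Agent.Lib.KS71.ClassSplit
import Cfsg.Agent.Lib.Orth.HypBasis
import Cfsg.Agent.S2616

set_option autoImplicit false
set_option linter.unusedSimpArgs false
set_option linter.unusedSectionVars false
set_option linter.style.haveILetI false
set_option linter.unusedVariables false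

namespace Cfsg.Agent.Lib.Classical.OmegaDesc

open Module MulAction QuadraticMap Matrix Cfsg.Agent.Lib.Witt.Quadratic Cfsg.Agent.Lib.Orth.Refl
open Cfsg.Agent.Lib.Orth.Gen Cfsg.Agent.Lib.OrthRefl.Eichler Cfsg.Agent.Lib.Classical.QuadEichler
open Cfsg.Agent.Lib.Classical.QuadEichSimple Cfsg.Agent.Lib.Classical.OmegaHP Cfsg.Agent.Lib.Classical.OmegaLocal
open Cfsg.Agent.Lib.Classical.OmegaRoot Cfsg.Agent.Lib.Classical.OmegaSemi Cfsg.Agent.Lib.Classical.OmegaConj
open Cfsg.Agent.Lib.Classical.OmegaBar Cfsg.Agent.Lib.Classical.OmegaAut Cfsg.Agent.Lib.Classical.OmegaCount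
open Cfsg.Agent.Lib.Orth.Forms Cfsg.Agent.Lib.Classical.BinaryForms Cfsg.Agent.Lib.Classical.QuadEichBridge
open Cfsg.Agent.Lib.Classical.OmegaForms Cfsg.Agent.Lib.Classical.OmegaOut Cfsg.Agent.Lib.Orth.Bridge
open Cfsg.Agent.Lib.Classical.MatrixBridge Cfsg.Agent.Lib.Classical.SympSimple
open Cfsg.Agent.Lib.Classical.OmegaPGO Cfsg.Agent.Lib.Classical.OmegaPGO2 Cfsg.Agent.Lib.Classical.OmegaFrob
open Cfsg.Agent.Lib.Classical.OmegaOutOdd Cfsg.Agent.Lib.KS71.Speiser
open scoped commutatorElement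

universe u

section conjS

variable {F : Type u} [Field F] [Fintype F] {ι : Type} [Fintype ι] [DecidableEq ι]
variable {Q : QuadraticForm F (ι → F)}
variable (hQ : (polarBilin Q).Nondegenerate) (hn : 5 ≤ Fintype.card ι)

/-- The action of semisimilarities on `PΩ`. -/
noncomputable def conjS : SemiEl Q →* MulAut (Cfsg.POmega F ⇑Q) :=
  (MulAut.congr (pOmegaEquiv Q hQ hn)).symm.toMonoidHom.comp (phi Q)

theorem pOmegaEquiv_conjS (T : SemiEl Q) (x : Cfsg.POmega F ⇑Q) :
    pOmegaEquiv Q hQ hn (conjS hQ hn T x) = phi Q T (pOmegaEquiv Q hQ hn x) := by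
  show pOmegaEquiv Q hQ hn ((pOmegaEquiv Q hQ hn).symm (phi Q T (pOmegaEquiv Q hQ hn x))) = _
  exact MulEquiv.apply_symm_apply _ _

/-- Conjugation of classes. -/
theorem conjS_mk (T : SemiEl Q) (s s' : Cfsg.Omega F ⇑Q)
    (h : ∀ x, ((s'.1 : GL ι F) : Matrix ι ι F) *ᵥ (T.1 x) = T.1 (((s.1 : GL ι F) : Matrix ι ι F) *ᵥ x)) :
    conjS hQ hn T (QuotientGroup.mk s) = QuotientGroup.mk s' := by
  apply (pOmegaEquiv Q hQ hn).injective
  rw [pOmegaEquiv_conjS]
  obtain ⟨θ, l, H⟩ := T.2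
  rw [phi_apply T H]
  show pi Q (conjG H (omegaEquiv Q hQ hn s)) = pi Q (omegaEquiv Q hQ hn s')
  congr 1
  apply Subtype.ext
  ext1 y
  rw [conjG_apply, omegaEquiv_apply, omegaEquiv_apply]
  have := h (T.1.symm y)
  rw [T.1.apply_symm_apply] at this
  exact this.symm

include hQ hn in
theorem exists_conj_mem (T : SemiEl Q) (s : Cfsg.Omega F ⇑Q) : ∃ s' : Cfsg.Omega F ⇑Q,
    ∀ x, ((s'.1 : GL ι F) : Matrix ι ι F) *ᵥ (T.1 x) = T.1 (((s.1 : GL ι F) : Matrix ι ι F) *ᵥ x) := by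
  obtain ⟨θ, l, H⟩ := T.2
  refine ⟨(omegaEquiv Q hQ hn).symm (conjG H (omegaEquiv Q hQ hn s)), fun x => ?_⟩
  rw [← omegaEquiv_apply Q hQ hn, MulEquiv.apply_symm_apply, conjG_apply, T.1.symm_apply_apply, omegaEquiv_apply]

theorem conjS_toSemi (g : Hs ⇑Q) : conjS hQ hn (toSemi Q g) = conjHom ⇑Q g := by
  ext x
  apply (pOmegaEquiv Q hQ hn).injective
  rw [pOmegaEquiv_conjS, pOmegaEquiv_conjHom]

include hQ hn in
theorem conjS_eq_one_iff (p : ℕ) [hp : Fact p.Prime] [hc : CharP F p] {T : SemiEl Q} :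
    conjS hQ hn T = 1 ↔ ∃ c : F, c ≠ 0 ∧ ∀ x, T.1 x = c • x := by
  have hn' : 5 ≤ finrank F (ι → F) := by rw [finrank_eq]; exact hn
  rw [← mem_ker_phi hQ p hn', MonoidHom.mem_ker]
  constructor
  · intro h
    ext x
    obtain ⟨x, rfl⟩ := (pOmegaEquiv Q hQ hn).surjective x
    rw [← pOmegaEquiv_conjS, h]
    rfl
  · intro h
    ext x
    apply (pOmegaEquiv Q hQ hn).injective
    rw [pOmegaEquiv_conjS, h]
    rfl

include hQ hn in
theorem conjS_surjective (p : ℕ) [hp : Fact p.Prime] [hc : CharP F p] (hn7 : 7 ≤ Fintype.card ι) (h8 : NoSolid Q) :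
    Function.Surjective (conjS hQ hn) := by
  have hn' : 7 ≤ finrank F (ι → F) := by rw [finrank_eq]; exact hn7
  intro β
  obtain ⟨g, θ, l, H, hH⟩ := exists_semi hQ p hn' h8 (MulAut.congr (pOmegaEquiv Q hQ hn) β)
  refine ⟨⟨g, θ, l, H⟩, ?_⟩
  show (MulAut.congr (pOmegaEquiv Q hQ hn)).symm (phi Q ⟨g, θ, l, H⟩) = β
  rw [phi_apply ⟨g, θ, l, H⟩ H, hH]
  exact (MulAut.congr _).symm_apply_apply β

/-- The semisimilarity of a pair. -/
theorem semiOfCoord (σ : F ≃+* F) (hσ : ∀ x : ι → F, Q (fun i => σ (x i)) = σ (Q x)) : Semi Q (coordEquiv σ) σ 1 :=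
  ⟨fun c x => by
    ext i
    simp, fun x => by
    rw [one_mul]
    exact hσ x, one_ne_zero⟩

/-- The coordinatewise field automorphism as a semisimilarity. -/
def coordS (σ : F ≃+* F) (hσ : ∀ x : ι → F, Q (fun i => σ (x i)) = σ (Q x)) : SemiEl Q :=
  ⟨coordEquiv σ, σ, 1, semiOfCoord σ hσ⟩

@[simp] theorem coordS_apply (σ : F ≃+* F) (hσ : ∀ x : ι → F, Q (fun i => σ (x i)) = σ (Q x)) (x : ι → F) :
    (coordS σ hσ).1 x = fun i => σ (x i) := rfl

theorem map_mulVec_coord (σ : F ≃+* F) (M : Matrix ι ι F) (x : ι → F) :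
    (M.map σ) *ᵥ (fun i => σ (x i)) = fun i => σ ((M *ᵥ x) i) := by
  ext i
  simp [Matrix.mulVec, dotProduct, map_sum]

/-- The standard field automorphism is the conjugation by the coordinatewise automorphism. -/
theorem eq_conjS_coord (σ : F ≃+* F) (hσ : ∀ x : ι → F, Q (fun i => σ (x i)) = σ (Q x)) {φ : MulAut (Cfsg.POmega F ⇑Q)}
    (h : Cfsg.IsFieldAutPOmegaOf (⇑Q) σ φ) : φ = conjS hQ hn (coordS σ hσ) := by
  ext x
  obtain ⟨s, rfl⟩ := QuotientGroup.mk'_surjective _ x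
  obtain ⟨s', hs'⟩ := exists_conj_mem hQ hn (coordS σ hσ) s
  have hmat : ((s'.1 : GL ι F) : Matrix ι ι F) = ((s.1 : GL ι F) : Matrix ι ι F).map σ := by
    apply Cfsg.Agent.Lib.Orth.Words.mat_eq_of_mulVec
    intro y
    obtain ⟨z, rfl⟩ := (coordEquiv (ι := ι) σ).surjective y
    have h1 := hs' z
    rw [coordS_apply, coordS_apply] at h1
    have e : (coordEquiv (ι := ι) σ z) = fun i => σ (z i) := rfl
    rw [e, map_mulVec_coord, h1]
  show φ (QuotientGroup.mk s) = conjS hQ hn (coordS σ hσ) (QuotientGroup.mk s)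
  rw [conjS_mk hQ hn _ s s' hs']
  exact h s s' hmat

/-- The conjugation by the coordinatewise automorphism is the standard field automorphism. -/
theorem isField_conjS_coord (σ : F ≃+* F) (hσ : ∀ x : ι → F, Q (fun i => σ (x i)) = σ (Q x)) :
    Cfsg.IsFieldAutPOmegaOf (⇑Q) σ (conjS hQ hn (coordS σ hσ)) := by
  intro s s' hs
  apply conjS_mk hQ hn
  intro x
  rw [coordS_apply, coordS_apply, hs, map_mulVec_coord]

end conjS

section descent

variable {F : Type u} [Field F] [Fintype F] {ι : Type} [Fintype ι] [DecidableEq ι]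
variable {Q : QuadraticForm F (ι → F)}

/-- The scalars as semisimilarities. -/
def scS' (c : F) (hc : c ≠ 0) : SemiEl Q := ⟨scalarEquiv c hc, _, _, scalar_semi c hc⟩

@[simp] theorem scS'_apply (c : F) (hc : c ≠ 0) (x : ι → F) : (scS' (Q := Q) c hc).1 x = c • x := rfl

theorem conjS_scS' (hQ : (polarBilin Q).Nondegenerate) (hn : 5 ≤ Fintype.card ι) (p : ℕ) [hp : Fact p.Prime] [hc : CharP F p]
    (c : F) (hc0 : c ≠ 0) : conjS hQ hn (scS' c hc0) = 1 :=
  (conjS_eq_one_iff hQ hn p).2 ⟨c, hc0, fun _ => rfl⟩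

theorem pow_apply_iterate (T : SemiEl Q) (k : ℕ) (x : ι → F) : (T ^ k).1 x = (T.1 : (ι → F) → (ι → F))^[k] x := by
  induction k with
  | zero => rfl
  | succ k ih =>
    rw [pow_succ', SemiEl.mul_apply, ih, Function.iterate_succ_apply']

theorem nrm_succ (σ : F ≃+* F) (k : ℕ) (a : F) : nrm σ (k + 1) a = a * σ (nrm σ k a) := by
  simp only [nrm]
  rw [Finset.prod_range_succ', map_prod, pow_zero, mul_comm]
  congr 1
  refine Finset.prod_congr rfl fun i _ => ?_
  rw [pow_succ']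
  rfl

/-- Powers of a scalar multiple. -/
theorem pow_scS'_mul {σ : F ≃+* F} {l : F} {T : SemiEl Q} (H : Semi Q T.1 σ l) (a : F) (ha : a ≠ 0) (k : ℕ) (x : ι → F) :
    ((scS' a ha * T) ^ k).1 x = nrm σ k a • (T ^ k).1 x := by
  induction k with
  | zero => simp [nrm]
  | succ k ih =>
    rw [pow_succ', SemiEl.mul_apply, ih, SemiEl.mul_apply, scS'_apply, H.smul, nrm_succ, pow_succ', SemiEl.mul_apply, smul_smul]

/-- The multiplier of a power. -/
theorem Q_pow {σ : F ≃+* F} {l : F} {T : SemiEl Q} (H : Semi Q T.1 σ l) (k : ℕ) (x : ι → F) :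
    Q ((T ^ k).1 x) = nrm σ k l * (σ ^ k) (Q x) := by
  induction k with
  | zero => simp [nrm]
  | succ k ih =>
    rw [pow_succ', SemiEl.mul_apply, H.Q_eq, ih, map_mul, nrm_succ, pow_succ', mul_assoc]
    rfl

/-- A semisimilarity of order dividing `r` has a frame of fixed vectors. -/
theorem exists_frame {σ : F ≃+* F} {l : F} {T : SemiEl Q} (H : Semi Q T.1 σ l) {r : ℕ} (hr : orderOf σ = r) (hr0 : 0 < r)
    (hT : T ^ r = 1) : ∃ k : (ι → F) ≃ₗ[F] (ι → F), ∀ x, T.1 (k x) = k (fun i => σ (x i)) := by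
  classical
  let τ : (ι → F) → (ι → F) := T.1
  have hspan := span_fixed σ τ (fun u v => map_add T.1 u v) H.smul hr hr0 (fun v => by
    rw [← pow_apply_iterate, hT]
    rfl)
  obtain ⟨b, hb, hsp, hli⟩ := exists_linearIndependent F {v | τ v = v}
  rw [hspan] at hsp
  let B := Module.Basis.mk hli (by
    rw [Subtype.range_coe_subtype]
    exact hsp.ge)
  haveI : Finite b := Module.Finite.finite_basis B
  letI : Fintype b := Fintype.ofFinite b
  have hcard : Fintype.card b = Fintype.card ι := by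
    have := Module.finrank_eq_card_basis B
    rw [← this]
    simp
  let e : b ≃ ι := Fintype.equivOfCardEq hcard
  let B' := B.reindex e
  have hB' : ∀ i, T.1 (B' i) = B' i := by
    intro i
    have : B' i = ((e.symm i : b) : ι → F) := by
      simp [B', B]
    rw [this]
    exact hb (e.symm i).2
  refine ⟨B'.equivFun.symm, fun x => ?_⟩
  rw [Module.Basis.equivFun_symm_apply, Module.Basis.equivFun_symm_apply, map_sum]
  refine Finset.sum_congr rfl fun i _ => ?_
  rw [H.smul, hB']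

/-- The fixed field of a field automorphism. -/
abbrev Fx (σ : F ≃+* F) : Subfield F := (σ : F →+* F).eqLocusField (RingHom.id F)

theorem mem_Fx {σ : F ≃+* F} {x : F} : x ∈ Fx σ ↔ σ x = x := Iff.rfl

/-- Inclusion of coordinates. -/
def incl (σ : F ≃+* F) (x : ι → Fx σ) : ι → F := fun i => (x i : F)

@[simp] theorem incl_apply (σ : F ≃+* F) (x : ι → Fx σ) (i : ι) : incl σ x i = x i := rfl

theorem incl_add (σ : F ≃+* F) (x y : ι → Fx σ) : incl σ (x + y) = incl σ x + incl σ y := rfl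

theorem incl_smul (σ : F ≃+* F) (a : Fx σ) (x : ι → Fx σ) : incl σ (a • x) = (a : F) • incl σ x := rfl

theorem incl_single (σ : F ≃+* F) (i : ι) (c : Fx σ) : incl σ (Pi.single i c) = Pi.single i (c : F) := by
  ext j
  by_cases h : j = i
  · subst h
    simp
  · simp [h]

theorem coord_incl (σ : F ≃+* F) (x : ι → Fx σ) : (fun i => σ (incl σ x i)) = incl σ x :=
  funext fun i => (x i).2

/-- The descended form. -/
noncomputable def descend {σ : F ≃+* F} (R : QuadraticForm F (ι → F)) (hR : ∀ x : ι → F, R (fun i => σ (x i)) = σ (R x)) :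
    QuadraticForm (Fx σ) (ι → Fx σ) :=
  QuadraticMap.ofPolar (fun x => (⟨R (incl σ x), by
      rw [mem_Fx, ← hR, coord_incl]⟩ : Fx σ))
    (fun a x => by
      apply Subtype.ext
      show R (incl σ (a • x)) = ((a : F) * a) * R (incl σ x)
      rw [incl_smul, QuadraticMap.map_smul]
      rfl)
    (fun x x' y => by
      apply Subtype.ext
      show R (incl σ (x + x' + y)) - R (incl σ (x + x')) - R (incl σ y) =
        (R (incl σ (x + y)) - R (incl σ x) - R (incl σ y)) + (R (incl σ (x' + y)) - R (incl σ x') - R (incl σ y))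
      simp only [incl_add]
      have := polar_add_left (Q := R) (incl σ x) (incl σ x') (incl σ y)
      simp only [polar] at this
      linear_combination this)
    (fun a x y => by
      apply Subtype.ext
      show R (incl σ (a • x + y)) - R (incl σ (a • x)) - R (incl σ y) =
        (a : F) * (R (incl σ (x + y)) - R (incl σ x) - R (incl σ y))
      simp only [incl_add, incl_smul]
      have := polar_smul_left (Q := R) (a : F) (incl σ x) (incl σ y)
      simp only [polar, smul_eq_mul] at this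
      exact this)

theorem descend_coe {σ : F ≃+* F} (R : QuadraticForm F (ι → F)) (hR : ∀ x : ι → F, R (fun i => σ (x i)) = σ (R x))
    (x : ι → Fx σ) : ((descend R hR x : Fx σ) : F) = R (incl σ x) := rfl

theorem polar_descend_coe {σ : F ≃+* F} (R : QuadraticForm F (ι → F)) (hR : ∀ x : ι → F, R (fun i => σ (x i)) = σ (R x))
    (x y : ι → Fx σ) : ((polar (descend R hR) x y : Fx σ) : F) = polar R (incl σ x) (incl σ y) := rfl

/-- A form vanishing on the basis is zero. -/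
theorem form_eq_zero {K : Type*} [Field K] (D : QuadraticForm K (ι → K)) (h1 : ∀ i, D (Pi.single i 1) = 0)
    (h2 : ∀ i j, polar D (Pi.single i 1) (Pi.single j 1) = 0) (x : ι → K) : D x = 0 := by
  classical
  have hp : ∀ u v, polar D u v = 0 := by
    intro u v
    rw [polar_eq_gram]
    have : (Matrix.of fun i j => polar ⇑D (Pi.single i 1) (Pi.single j 1) : Matrix ι ι K) = 0 := by
      ext i j
      exact h2 i j
    rw [this]
    simp
  have hadd : ∀ u v, D (u + v) = D u + D v := by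
    intro u v
    have := hp u v
    rw [polar] at this
    linear_combination this
  have h3 : ∀ s : Finset ι, D (∑ i ∈ s, x i • Pi.single i 1) = 0 := by
    intro s
    induction s using Finset.induction_on with
    | empty => simp
    | insert a s ha ih =>
      rw [Finset.sum_insert ha, hadd, ih, QuadraticMap.map_smul, h1]
      simp
  have h4 := h3 Finset.univ
  have h5 : ∑ i, x i • (Pi.single i 1 : ι → K) = x := by
    ext j
    simp [Finset.sum_apply, Pi.single_apply]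
  rwa [h5] at h4

/-- Two forms over `F` which agree on the fixed vectors are equal. -/
theorem forms_eq_of_incl {σ : F ≃+* F} (A B : QuadraticForm F (ι → F)) (h : ∀ x : ι → Fx σ, A (incl σ x) = B (incl σ x))
    (x : ι → F) : A x = B x := by
  have h1 : ∀ i, (A - B) (Pi.single i 1) = 0 := by
    intro i
    have := h (Pi.single i 1)
    rw [incl_single] at this
    show A _ - B _ = 0
    rw [OneMemClass.coe_one] at this
    rw [this, sub_self]
  have h2 : ∀ i j, polar (A - B) (Pi.single i 1) (Pi.single j 1) = 0 := by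
    intro i j
    have h3 := h (Pi.single i 1 + Pi.single j 1)
    rw [incl_add, incl_single, incl_single, OneMemClass.coe_one] at h3
    have h4 := h1 i
    have h5 := h1 j
    show (A - B) _ - (A - B) _ - (A - B) _ = 0
    rw [h4, h5]
    show A _ - B _ - 0 - 0 = 0
    rw [h3]
    simp
  have := form_eq_zero (A - B) h1 h2 x
  show A x = B x
  exact sub_eq_zero.1 this

/-- The descended form is nondegenerate. -/
theorem descend_nondeg {σ : F ≃+* F} (R : QuadraticForm F (ι → F)) (hR : ∀ x : ι → F, R (fun i => σ (x i)) = σ (R x))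
    (hnd : (polarBilin R).Nondegenerate) : (polarBilin (descend R hR)).Nondegenerate := by
  have hkey : ∀ x : ι → Fx σ, (∀ y, polar (descend R hR) x y = 0) → x = 0 := by
    intro x hx
    have h1 : incl σ x = 0 := by
      apply hnd.1
      intro u
      show polar R (incl σ x) u = 0
      rw [polar_eq_gram]
      have h2 : (Matrix.of fun i j => polar ⇑R (Pi.single i 1) (Pi.single j 1)) ᵀ *ᵥ (incl σ x) = 0 := by
        ext i
        have h3 := hx (Pi.single i 1)
        have h4 := congrArg (Subtype.val) h3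
        rw [polar_descend_coe, incl_single, OneMemClass.coe_one] at h4
        rw [polar_eq_gram] at h4
        rw [Matrix.mulVec_single_one, dotProduct_comm] at h4
        exact h4
      rw [Matrix.dotProduct_mulVec, ← Matrix.mulVec_transpose, h2]
      simp
    funext i
    exact Subtype.ext (congrFun h1 i)
  refine ⟨fun x hx => hkey x hx, fun y hy => hkey y fun z => ?_⟩
  rw [polar_comm]
  exact hy z

end descent

section similar

variable {F : Type u} [Field F] [Fintype F] {ι : Type} [Fintype ι] [DecidableEq ι]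
variable {Q : QuadraticForm F (ι → F)}

/-- Similarity of forms. -/
def SimilarF {K : Type*} [Field K] (A B : QuadraticForm K (ι → K)) : Prop :=
  ∃ (P : (ι → K) ≃ₗ[K] (ι → K)) (c : K), c ≠ 0 ∧ ∀ x, A (P x) = c * B x

/-- The twisted form. -/
noncomputable def twistForm (Q : QuadraticForm F (ι → F)) (k : (ι → F) ≃ₗ[F] (ι → F)) (b : F) : QuadraticForm F (ι → F) :=
  b • Q.comp (k : (ι → F) →ₗ[F] (ι → F))

@[simp] theorem twistForm_apply (k : (ι → F) ≃ₗ[F] (ι → F)) (b : F) (x : ι → F) : twistForm Q k b x = b * Q (k x) := rfl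

theorem twistForm_nondeg (hQ : (polarBilin Q).Nondegenerate) (k : (ι → F) ≃ₗ[F] (ι → F)) {b : F} (hb : b ≠ 0) :
    (polarBilin (twistForm Q k b)).Nondegenerate := by
  have hp : ∀ x y, polar (twistForm Q k b) x y = b * polar Q (k x) (k y) := by
    intro x y
    simp only [polar, twistForm_apply, map_add]
    ring
  have hkey : ∀ x, (∀ y, polar (twistForm Q k b) x y = 0) → x = 0 := by
    intro x hx
    have h1 : k x = 0 := by
      apply hQ.1
      intro u
      show polar Q (k x) u = 0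
      have h2 := hx (k.symm u)
      rw [hp, k.apply_symm_apply] at h2
      exact (mul_eq_zero.1 h2).resolve_left hb
    simpa using h1
  refine ⟨fun x hx => hkey x hx, fun y hy => hkey y fun z => ?_⟩
  rw [polar_comm]
  exact hy z

/-- A descent datum for a semisimilarity. -/
structure IsDesc (T : SemiEl Q) (σ : F ≃+* F) (k : (ι → F) ≃ₗ[F] (ι → F)) (b : F) : Prop where
  b_ne : b ≠ 0
  frame : ∀ x, T.1 (k x) = k (fun i => σ (x i))
  stable : ∀ x : ι → F, twistForm Q k b (fun i => σ (x i)) = σ (twistForm Q k b x)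

/-- Descent data exist. -/
theorem exists_desc (hQ : (polarBilin Q).Nondegenerate) [Nontrivial (ι → F)] {σ : F ≃+* F} {l : F} {T : SemiEl Q}
    (H : Semi Q T.1 σ l) {r : ℕ} (hr : orderOf σ = r) (hr0 : 0 < r) (hT : T ^ r = 1) :
    ∃ k b, IsDesc T σ k b := by
  obtain ⟨k, hk⟩ := exists_frame H hr hr0 hT
  have hσr : σ ^ r = 1 := by rw [← hr]; exact pow_orderOf_eq_one σ
  have hnrm : nrm σ r l = 1 := by
    obtain ⟨x, hx⟩ := Cfsg.Agent.Lib.Orth.Closure.exists_nonsingular (Q := Q) hQ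
    have h1 := Q_pow H r x
    rw [hT, hσr] at h1
    have h2 : Q x = nrm σ r l * Q x := h1
    have h3 : (nrm σ r l - 1) * Q x = 0 := by linear_combination -h2
    exact sub_eq_zero.1 ((mul_eq_zero.1 h3).resolve_right hx)
  obtain ⟨c, hc0, hc⟩ := hilbert90 σ hr hr0 l hnrm
  have hσc : σ c ≠ 0 := fun h => hc0 (σ.map_eq_zero_iff.1 h)
  refine ⟨k, c⁻¹, ⟨inv_ne_zero hc0, hk, fun x => ?_⟩⟩
  rw [twistForm_apply, twistForm_apply, ← hk, H.Q_eq, map_mul, map_inv₀]
  have hl : l = c / σ c := by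
    field_simp
    exact hc
  rw [hl]
  field_simp

/-- Matrices over the fixed field act on the fixed coordinates. -/
noncomputable def inclMat (σ : F ≃+* F) (M : Matrix ι ι (Fx σ)) : Matrix ι ι F := M.map (Fx σ).subtype

theorem inclMat_mulVec (σ : F ≃+* F) (M : Matrix ι ι (Fx σ)) (x : ι → Fx σ) :
    inclMat σ M *ᵥ incl σ x = incl σ (M *ᵥ x) := by
  ext i
  simp [inclMat, Matrix.mulVec, dotProduct, incl]

theorem inclMat_map (σ : F ≃+* F) (M : Matrix ι ι (Fx σ)) : (inclMat σ M).map σ = inclMat σ M := by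
  ext i j
  exact (M i j).2

/-- The main conjugacy criterion. -/
theorem conj_of_similar (hQ : (polarBilin Q).Nondegenerate) [Nontrivial (ι → F)] {σ : F ≃+* F} {T T₀ : SemiEl Q}
    {k k₀ : (ι → F) ≃ₗ[F] (ι → F)} {b b₀ : F} (D : IsDesc T σ k b) (D₀ : IsDesc T₀ σ k₀ b₀)
    (hsim : SimilarF (descend (twistForm Q k b) D.stable) (descend (twistForm Q k₀ b₀) D₀.stable)) :
    ∃ h : Hs ⇑Q, T * toSemi Q h = toSemi Q h * T₀ := by
  classical
  obtain ⟨P₀, c₀, hc₀, hP₀⟩ := hsim
  set M₀ := LinearMap.toMatrix' (P₀ : (ι → Fx σ) →ₗ[Fx σ] (ι → Fx σ)) with hM₀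
  set M₁ := LinearMap.toMatrix' (P₀.symm : (ι → Fx σ) →ₗ[Fx σ] (ι → Fx σ)) with hM₁
  have hM₀x : ∀ x, M₀ *ᵥ x = P₀ x := fun x => by
    rw [hM₀, LinearMap.toMatrix'_mulVec]
    rfl
  have h01 : M₀ * M₁ = 1 := by
    rw [hM₀, hM₁, ← LinearMap.toMatrix'_comp]
    have : (P₀ : (ι → Fx σ) →ₗ[Fx σ] (ι → Fx σ)) ∘ₗ (P₀.symm : (ι → Fx σ) →ₗ[Fx σ] (ι → Fx σ)) = LinearMap.id := by
      ext1 i
      ext
      simp
    rw [this, LinearMap.toMatrix'_id]
  have h10 : M₁ * M₀ = 1 := by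
    rw [hM₀, hM₁, ← LinearMap.toMatrix'_comp]
    have : (P₀.symm : (ι → Fx σ) →ₗ[Fx σ] (ι → Fx σ)) ∘ₗ (P₀ : (ι → Fx σ) →ₗ[Fx σ] (ι → Fx σ)) = LinearMap.id := by
      ext1 i
      ext
      simp
    rw [this, LinearMap.toMatrix'_id]
  set M := inclMat σ M₀ with hM
  set M' := inclMat σ M₁ with hM'
  have hinc01 : M * M' = 1 := by
    rw [hM, hM', inclMat, inclMat, ← Matrix.map_mul, h01, Matrix.map_one _ (map_zero _) (map_one _)]
  have hinc10 : M' * M = 1 := by
    rw [hM, hM', inclMat, inclMat, ← Matrix.map_mul, h10, Matrix.map_one _ (map_zero _) (map_one _)]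
  let L : (ι → F) ≃ₗ[F] (ι → F) := LinearEquiv.ofLinearMap (Matrix.toLin' M) (Matrix.toLin' M')
    (by rw [← Matrix.toLin'_mul, hinc01, Matrix.toLin'_one]) (by rw [← Matrix.toLin'_mul, hinc10, Matrix.toLin'_one])
  have hL : ∀ x, L x = M *ᵥ x := fun x => rfl
  have hLσ : ∀ x, L (fun i => σ (x i)) = fun i => σ (L x i) := by
    intro x
    rw [hL, hL]
    have := map_mulVec_coord σ M x
    rw [hM, inclMat_map] at this
    exact this
  set c : F := (c₀ : F) with hc
  have hc0 : c ≠ 0 := fun h => hc₀ (Subtype.ext h)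
  have hform : ∀ x, twistForm Q k b (L x) = c * twistForm Q k₀ b₀ x := by
    intro x
    let A : QuadraticForm F (ι → F) := (twistForm Q k b).comp (L : (ι → F) →ₗ[F] (ι → F))
    let B : QuadraticForm F (ι → F) := c • twistForm Q k₀ b₀
    exact forms_eq_of_incl (σ := σ) A B (fun y => by
      show twistForm Q k b (L (incl σ y)) = c * twistForm Q k₀ b₀ (incl σ y)
      rw [hL, hM, inclMat_mulVec, hM₀x]
      have h1 := congrArg Subtype.val (hP₀ y)
      exact h1) x
  let h₁ : (ι → F) ≃ₗ[F] (ι → F) := k₀.symm.trans (L.trans k)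
  have hh₁ : ∀ y, h₁ y = k (L (k₀.symm y)) := fun y => rfl
  have hb : b ≠ 0 := D.b_ne
  have hb₀ : b₀ ≠ 0 := D₀.b_ne
  have hsemi : Semi Q h₁.toAddEquiv (RingEquiv.refl F) (c * b₀ / b) := by
    refine ⟨fun a y => map_smul h₁ a y, fun y => ?_, div_ne_zero (mul_ne_zero hc0 hb₀) hb⟩
    have h2 := hform (k₀.symm y)
    rw [twistForm_apply, twistForm_apply, k₀.apply_symm_apply] at h2
    show Q (h₁ y) = _ * Q y
    rw [hh₁]
    field_simp
    linear_combination h2
  obtain ⟨ĥ, hĥ, -⟩ := exists_Hs_of_semi hQ hsemi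
  refine ⟨ĥ, ?_⟩
  apply Subtype.ext
  ext1 y
  rw [SemiEl.mul_apply, SemiEl.mul_apply, toSemi_apply, toSemi_apply, hĥ, hĥ]
  show T.1 (h₁ y) = h₁ (T₀.1 y)
  rw [hh₁, hh₁, D.frame, ← hLσ]
  congr 2
  have h3 := D₀.frame (k₀.symm y)
  rw [k₀.apply_symm_apply] at h3
  rw [h3, k₀.symm_apply_apply]

/-- A semisimilarity whose conjugation has order dividing `r` has a scalar multiple of order dividing `r`. -/
theorem exists_scale (hQ : (polarBilin Q).Nondegenerate) (hn : 5 ≤ Fintype.card ι) (p : ℕ) [hp : Fact p.Prime] [hc : CharP F p]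
    [Nontrivial (ι → F)] {σ : F ≃+* F} {l : F} {T : SemiEl Q} (H : Semi Q T.1 σ l) {r : ℕ} (hr : orderOf σ = r)
    (hT : (conjS hQ hn T) ^ r = 1) : ∃ (a : F) (ha : a ≠ 0), (scS' a ha * T) ^ r = 1 := by
  rw [← map_pow, conjS_eq_one_iff hQ hn p] at hT
  obtain ⟨c, hc0, hc⟩ := hT
  have hfix : σ c = c := by
    obtain ⟨v, hv⟩ := exists_ne (0 : ι → F)
    have hv' : T.1 v ≠ 0 := fun h => hv (T.1.map_eq_zero_iff.1 h)
    have h1 : T.1 ((T ^ r).1 v) = (T ^ r).1 (T.1 v) := by
      rw [← SemiEl.mul_apply, ← SemiEl.mul_apply, ← pow_succ', ← pow_succ]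
    rw [hc, hc, H.smul] at h1
    exact smul_left_injective F hv' h1
  obtain ⟨a, ha0, ha⟩ := nrm_surj σ hr c⁻¹ (inv_ne_zero hc0) (by rw [map_inv₀, hfix])
  refine ⟨a, ha0, ?_⟩
  apply Subtype.ext
  ext1 x
  rw [pow_scS'_mul H, ha, hc, smul_smul, inv_mul_cancel₀ hc0, one_smul]
  rfl

end similar

section classify

open Cfsg.Agent.Lib.Orth.Std Cfsg.Agent.Lib.Orth.HypBasis Cfsg.Agent.Lib.QuadFn.MaxSingular

variable {K : Type*} [Field K] [Finite K] {V : Type*} [AddCommGroup V] [Module K V] [FiniteDimensional K V]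
variable {Q : QuadraticForm K V}

/-- The orthogonal sum in a hyperbolic family. -/
theorem polar_hyp_sum {m : ℕ} {e f : Fin m → V} (x y : Fin m → K) {w : V} (he : ∀ i, polar Q (e i) w = 0)
    (hf : ∀ i, polar Q (f i) w = 0) : polar Q (∑ i, (x i • e i + y i • f i)) w = 0 := by
  rw [polar_comm, polar_sum_right]
  refine Finset.sum_eq_zero fun i _ => ?_
  rw [polar_add_right, polar_smul_right, polar_smul_right, polar_comm, he, polar_comm, hf]
  simp

/-- The standard model in odd dimension. -/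
theorem exists_equiv_odd (hQ : (polarBilin Q).Nondegenerate) {m : ℕ} (hV : finrank K V = 2 * m + 1) :
    ∃ (Θ : (Unit ⊕ (Fin m ⊕ Fin m) → K) ≃ₗ[K] V) (c : K), c ≠ 0 ∧ ∀ y, Q (Θ y) = c * Cfsg.quadFormOdd m K y := by
  classical
  obtain ⟨b, h0, h1, h2, h3, h4⟩ := exists_basis_odd hQ hV
  set c := Q (b (Sum.inl ())) with hc
  let w : Unit ⊕ (Fin m ⊕ Fin m) → Kˣ := Sum.elim (fun _ => 1) (Sum.elim (fun _ => Units.mk0 c h0) (fun _ => 1))
  let b' := b.unitsSMul w
  refine ⟨b'.equivFun.symm, c, h0, fun y => ?_⟩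
  have hf : HypFam Q (fun i => b (Sum.inr (Sum.inl i))) (fun i => b (Sum.inr (Sum.inr i))) :=
    ⟨fun i => (h2 i).1, fun i => (h2 i).2, h3, fun i j => (h4 i j).1, fun i j => (h4 i j).2⟩
  have hexp : b'.equivFun.symm y = y (Sum.inl ()) • b (Sum.inl ()) +
      ∑ i, ((c * y (Sum.inr (Sum.inl i))) • b (Sum.inr (Sum.inl i)) + y (Sum.inr (Sum.inr i)) • b (Sum.inr (Sum.inr i))) := by
    rw [Module.Basis.equivFun_symm_apply, Fintype.sum_sum_type, Fintype.sum_sum_type, Finset.sum_add_distrib]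
    simp only [b', Module.Basis.unitsSMul_apply, w, Sum.elim_inl, Sum.elim_inr, Fintype.sum_unique]
    simp [Units.smul_def, smul_smul, one_smul, mul_comm]
  rw [hexp, map_add_eq, QuadraticMap.map_smul, Q_sum hf, polar_comm, polar_hyp_sum]
  · simp only [Cfsg.quadFormOdd, smul_eq_mul, add_zero, mul_add, Finset.mul_sum, mul_assoc]
    ring
  · intro i
    rw [polar_smul_right, polar_comm, (h1 i).1]
    simp
  · intro i
    rw [polar_smul_right, polar_comm, (h1 i).2]
    simp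

/-- Hyperbolic families give totally singular subspaces. -/
theorem lagr_of_hypFam {m : ℕ} {e f : Fin m → V} (hf : HypFam Q e f) :
    ∃ U : Submodule K V, TS (⇑Q) U ∧ finrank K U = m := by
  classical
  have hli : LinearIndependent K e := (li_fam hf).comp Sum.inl Sum.inl_injective
  refine ⟨Submodule.span K (Set.range e), ?_, ?_⟩
  · intro x hx
    obtain ⟨c, rfl⟩ := (Submodule.mem_span_range_iff_exists_fun K).1 hx
    have := Q_sum hf c 0 Finset.univ
    simpa using this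
  · rw [finrank_span_eq_card hli]
    simp

end classify

section types

open Cfsg.Agent.Lib.Orth.Std Cfsg.Agent.Lib.Orth.HypBasis Cfsg.Agent.Lib.QuadFn.MaxSingular

variable {K : Type*} [Field K] [Finite K] {ι : Type} [Fintype ι] [DecidableEq ι]

theorem finrank_coord : finrank K (ι → K) = Fintype.card ι := Module.finrank_fintype_fun_eq_card K

/-- Any two forms in odd dimension are similar. -/
theorem similarF_odd {A B : QuadraticForm K (ι → K)} (hA : (polarBilin A).Nondegenerate) (hB : (polarBilin B).Nondegenerate)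
    {m : ℕ} (hc : Fintype.card ι = 2 * m + 1) : SimilarF A B := by
  obtain ⟨Θ, c, hc0, h⟩ := exists_equiv_odd hA (m := m) (by rw [finrank_coord, hc])
  obtain ⟨Θ', c', hc0', h'⟩ := exists_equiv_odd hB (m := m) (by rw [finrank_coord, hc])
  refine ⟨Θ'.symm.trans Θ, c / c', div_ne_zero hc0 hc0', fun x => ?_⟩
  have h1 := h' (Θ'.symm x)
  rw [Θ'.apply_symm_apply] at h1
  rw [LinearEquiv.trans_apply, h, h1]
  field_simp

/-- Forms with a Lagrangian are similar. -/
theorem similarF_lagr {A B : QuadraticForm K (ι → K)} (hA : (polarBilin A).Nondegenerate) (hB : (polarBilin B).Nondegenerate)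
    {m : ℕ} (hc : Fintype.card ι = 2 * m) {U W : Submodule K (ι → K)} (hU : TS (⇑A) U) (hUm : finrank K U = m)
    (hW : TS (⇑B) W) (hWm : finrank K W = m) : SimilarF A B := by
  obtain ⟨Θ, h⟩ := exists_equiv_plus_of_ts hA (m := m) (by rw [finrank_coord, hc]) hU hUm
  obtain ⟨Θ', h'⟩ := exists_equiv_plus_of_ts hB (m := m) (by rw [finrank_coord, hc]) hW hWm
  refine ⟨Θ'.symm.trans Θ, 1, one_ne_zero, fun x => ?_⟩
  have h1 := h' (Θ'.symm x)
  rw [Θ'.apply_symm_apply] at h1
  rw [LinearEquiv.trans_apply, h, h1, one_mul]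

/-- The standard basis theorem in the form used here. -/
theorem std_basis_even {V : Type*} [AddCommGroup V] [Module K V] [FiniteDimensional K V] {Q : QuadraticForm K V}
    (hQ : (polarBilin Q).Nondegenerate) {k : ℕ} (hV : finrank K V = 2 * (k + 1)) :
    (∃ b : Module.Basis (Fin (k + 1) ⊕ Fin (k + 1)) K V, (∀ i, Q (b (Sum.inl i)) = 0 ∧ Q (b (Sum.inr i)) = 0) ∧ (∀ i j, QuadraticMap.polar ⇑Q (b (Sum.inl i)) (b (Sum.inr j)) = if i = j then 1 else 0) ∧ (∀ i j, QuadraticMap.polar ⇑Q (b (Sum.inl i)) (b (Sum.inl j)) = 0 ∧ QuadraticMap.polar ⇑Q (b (Sum.inr i)) (b (Sum.inr j)) = 0)) ∨ (∃ (b : Module.Basis ((Fin k ⊕ Fin k) ⊕ Fin 2) K V) (ζ : K), (∀ t : K, t ^ 2 + t + ζ ≠ 0) ∧ (∀ i, Q (b (Sum.inl (Sum.inl i))) = 0 ∧ Q (b (Sum.inl (Sum.inr i))) = 0) ∧ (∀ i j, QuadraticMap.polar ⇑Q (b (Sum.inl (Sum.inl i))) (b (Sum.inl (Sum.inr j))) = if i = j then 1 else 0) ∧ (∀ i j, QuadraticMap.polar ⇑Q (b (Sum.inl (Sum.inl i))) (b (Sum.inl (Sum.inl j))) = 0 ∧ QuadraticMap.polar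 ⇑Q (b (Sum.inl (Sum.inr i))) (b (Sum.inl (Sum.inr j))) = 0) ∧ (∀ i (k : Fin 2), QuadraticMap.polar ⇑Q (b (Sum.inl (Sum.inl i))) (b (Sum.inr k)) = 0 ∧ QuadraticMap.polar ⇑Q (b (Sum.inl (Sum.inr i))) (b (Sum.inr k)) = 0) ∧ Q (b (Sum.inr 0)) = 1 ∧ QuadraticMap.polar ⇑Q (b (Sum.inr 0)) (b (Sum.inr 1)) = 1 ∧ Q (b (Sum.inr 1)) = ζ) :=
  Cfsg.Agent.S2616.result (m := k + 1) (by omega) hV Q hQ

/-- The elliptic standard model. -/
theorem exists_equiv_minus {V : Type*} [AddCommGroup V] [Module K V] [FiniteDimensional K V] {Q : QuadraticForm K V}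
    (hQ : (polarBilin Q).Nondegenerate) {k : ℕ} (hV : finrank K V = 2 * (k + 1))
    (hL : ¬ ∃ U : Submodule K V, TS (⇑Q) U ∧ finrank K U = k + 1) :
    ∃ (a₀ b₀ : K), (∀ z₁ z₂ : K, z₁ ^ 2 + a₀ * z₁ * z₂ + b₀ * z₂ ^ 2 = 0 → z₁ = 0 ∧ z₂ = 0) ∧
      ∀ (a b : K), (∀ z₁ z₂ : K, z₁ ^ 2 + a * z₁ * z₂ + b * z₂ ^ 2 = 0 → z₁ = 0 ∧ z₂ = 0) →
      ∃ Θ : ((Fin k ⊕ Fin k) ⊕ Fin 2 → K) ≃ₗ[K] V, ∀ y, Q (Θ y) = Cfsg.quadFormMinus k K a b y := by
  classical
  haveI := Fintype.ofFinite K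
  rcases std_basis_even hQ hV with ⟨b, h1, h2, h3⟩ | ⟨b, ζ, hζ, h1, h2, h3, h4, h5, h6, h7⟩
  · exfalso
    apply hL
    exact lagr_of_hypFam (e := fun i => b (Sum.inl i)) (f := fun i => b (Sum.inr i))
      ⟨fun i => (h1 i).1, fun i => (h1 i).2, h2, fun i j => (h3 i j).1, fun i j => (h3 i j).2⟩
  have hani : ∀ z₁ z₂ : K, z₁ ^ 2 + 1 * z₁ * z₂ + ζ * z₂ ^ 2 = 0 → z₁ = 0 ∧ z₂ = 0 := by
    intro z₁ z₂ h
    by_cases hz : z₂ = 0
    · subst hz
      simpa using h
    · exfalso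
      apply hζ (z₁ / z₂)
      field_simp
      linear_combination h
  refine ⟨1, ζ, hani, fun a b' hab => ?_⟩
  obtain ⟨c, d, hcd1, hcd2⟩ := exists_isom_binary hani hab
  have hd0 : d ≠ 0 := by
    rintro rfl
    have := hab c (-1) (by
      rw [← hcd1, ← hcd2]
      ring)
    have h8 := this.2
    simp at h8
  let A : ((Fin k ⊕ Fin k) ⊕ Fin 2 → K) →ₗ[K] ((Fin k ⊕ Fin k) ⊕ Fin 2 → K) :=
    { toFun := fun y => Sum.elim (fun i => y (Sum.inl i)) ![y (Sum.inr 0) + c * y (Sum.inr 1), d * y (Sum.inr 1)]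
      map_add' := fun u v => by
        ext (i | i)
        · rfl
        · fin_cases i
          · simp
            ring
          · simp
            ring
      map_smul' := fun t v => by
        ext (i | i)
        · rfl
        · fin_cases i
          · simp
            ring
          · simp
            ring }
  have hA : ∀ y, A y = Sum.elim (fun i => y (Sum.inl i)) ![y (Sum.inr 0) + c * y (Sum.inr 1), d * y (Sum.inr 1)] := fun y => rfl
  have hAinj : Function.Injective A := by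
    rw [injective_iff_map_eq_zero]
    intro y hy
    have h8 : ∀ i, y (Sum.inl i) = 0 := fun i => by
      have := congrFun hy (Sum.inl i)
      rw [hA] at this
      exact this
    have h9 : y (Sum.inr 1) = 0 := by
      have := congrFun hy (Sum.inr 1)
      rw [hA] at this
      simp at this
      exact this.resolve_left hd0
    have h10 : y (Sum.inr 0) = 0 := by
      have := congrFun hy (Sum.inr 0)
      rw [hA] at this
      simp [h9] at this
      exact this
    ext (i | i)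
    · exact h8 i
    · fin_cases i
      · exact h10
      · exact h9
  refine ⟨(LinearEquiv.ofInjectiveEndo A hAinj).trans b.equivFun.symm, fun y => ?_⟩
  set e : Fin k → V := fun i => b (Sum.inl (Sum.inl i)) with he
  set f : Fin k → V := fun i => b (Sum.inl (Sum.inr i)) with hf
  have hfam : HypFam Q e f := ⟨fun i => (h1 i).1, fun i => (h1 i).2, h2, fun i j => (h3 i j).1, fun i j => (h3 i j).2⟩
  set x := b (Sum.inr 0) with hx
  set z := b (Sum.inr 1) with hz
  have hexp : ((LinearEquiv.ofInjectiveEndo A hAinj).trans b.equivFun.symm) y =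
      ∑ i, (y (Sum.inl (Sum.inl i)) • e i + y (Sum.inl (Sum.inr i)) • f i) +
        ((y (Sum.inr 0) + c * y (Sum.inr 1)) • x + (d * y (Sum.inr 1)) • z) := by
    show b.equivFun.symm (A y) = _
    rw [Module.Basis.equivFun_symm_apply, Fintype.sum_sum_type, Fintype.sum_sum_type, Finset.sum_add_distrib]
    simp [hA]
    rfl
  rw [hexp, map_add_eq, Q_sum hfam, polar_hyp_sum, map_add_eq, QuadraticMap.map_smul, QuadraticMap.map_smul, polar_smul_left,
    polar_smul_right, h5, h6, h7]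
  · simp only [Cfsg.quadFormMinus, smul_eq_mul]
    rw [← hcd1, ← hcd2]
    ring
  · intro i
    rw [polar_add_right, polar_smul_right, polar_smul_right, (h4 i 0).1, (h4 i 1).1]
    simp
  · intro i
    rw [polar_add_right, polar_smul_right, polar_smul_right, (h4 i 0).2, (h4 i 1).2]
    simp

/-- Elliptic forms are similar. -/
theorem similarF_elliptic {A B : QuadraticForm K (ι → K)} (hA : (polarBilin A).Nondegenerate) (hB : (polarBilin B).Nondegenerate)
    {k : ℕ} (hc : Fintype.card ι = 2 * (k + 1))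
    (hLA : ¬ ∃ U : Submodule K (ι → K), TS (⇑A) U ∧ finrank K U = k + 1)
    (hLB : ¬ ∃ U : Submodule K (ι → K), TS (⇑B) U ∧ finrank K U = k + 1) : SimilarF A B := by
  obtain ⟨a₀, b₀, hab₀, h⟩ := exists_equiv_minus hA (k := k) (by rw [finrank_coord, hc]) hLA
  obtain ⟨Θ, hΘ⟩ := h a₀ b₀ hab₀
  obtain ⟨-, -, -, h'⟩ := exists_equiv_minus hB (k := k) (by rw [finrank_coord, hc]) hLB
  obtain ⟨Θ', hΘ'⟩ := h' a₀ b₀ hab₀
  refine ⟨Θ'.symm.trans Θ, 1, one_ne_zero, fun x => ?_⟩
  have h1 := hΘ' (Θ'.symm x)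
  rw [Θ'.apply_symm_apply] at h1
  rw [LinearEquiv.trans_apply, hΘ, h1, one_mul]

end types

section core

variable {F : Type u} [Field F] [Fintype F] {ι : Type} [Fintype ι] [DecidableEq ι]
variable {Q : QuadraticForm F (ι → F)}

theorem semi_scS'_mul {σ : F ≃+* F} {l : F} {T : SemiEl Q} (H : Semi Q T.1 σ l) (a : F) (ha : a ≠ 0) :
    Semi Q (scS' a ha * T).1 σ (a * a * l) := by
  refine ⟨fun c x => ?_, fun x => ?_, mul_ne_zero (mul_ne_zero ha ha) H.ne⟩
  · show a • T.1 (c • x) = σ c • a • T.1 x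
    rw [H.smul, smul_comm]
  · show Q (a • T.1 x) = _
    rw [QuadraticMap.map_smul, H.Q_eq, smul_eq_mul]
    ring

/-- Conjugation of a similarity by a semisimilarity. -/
theorem conj_conjHom (hQ : (polarBilin Q).Nondegenerate) (hn : 5 ≤ Fintype.card ι) [Nontrivial (ι → F)] (A : SemiEl Q) (g : Hs ⇑Q) :
    ∃ g' : Hs ⇑Q, toSemi Q g' = A * toSemi Q g * A⁻¹ ∧
      conjS hQ hn A * conjHom ⇑Q g * (conjS hQ hn A)⁻¹ = conjHom ⇑Q g' := by
  obtain ⟨σ, l, H⟩ := A.2
  obtain ⟨M, hM1, -, -⟩ := conj_Hs hQ H g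
  have hM : toSemi Q M = A * toSemi Q g * A⁻¹ := by
    apply Subtype.ext
    ext x i
    exact congrFun (hM1 x) i
  refine ⟨M, hM, ?_⟩
  rw [← conjS_toSemi hQ hn, ← conjS_toSemi hQ hn, hM, map_mul, map_mul, map_inv]

/-- Orders of coordinatewise automorphisms. -/
theorem coordS_pow (σ : F ≃+* F) (hσ : ∀ x : ι → F, Q (fun i => σ (x i)) = σ (Q x)) (k : ℕ) (x : ι → F) :
    ((coordS σ hσ) ^ k).1 x = fun i => (σ ^ k) (x i) := by
  induction k with
  | zero => rfl
  | succ k ih =>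
    rw [pow_succ', SemiEl.mul_apply, ih]
    ext i
    rw [coordS_apply, pow_succ']
    rfl

theorem orderOf_conjS_coord (hQ : (polarBilin Q).Nondegenerate) (hn : 5 ≤ Fintype.card ι) (p : ℕ) [hp : Fact p.Prime] [hc : CharP F p]
    (σ : F ≃+* F) (hσ : ∀ x : ι → F, Q (fun i => σ (x i)) = σ (Q x)) :
    orderOf (conjS hQ hn (coordS σ hσ)) = orderOf σ := by
  apply orderOf_eq_orderOf_iff.2
  intro k
  rw [← map_pow, conjS_eq_one_iff hQ hn p]
  haveI : Nonempty ι := by
    apply Fintype.card_pos_iff.1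
    omega
  constructor
  · rintro ⟨c, hc0, hc'⟩
    have h1 := hc' (fun _ => 1)
    rw [coordS_pow] at h1
    have hc1 : c = 1 := by
      have h2 := congrFun h1 (Classical.arbitrary ι)
      simpa using h2.symm
    subst hc1
    ext y
    have h3 := hc' (fun _ => y)
    rw [coordS_pow] at h3
    have h2 := congrFun h3 (Classical.arbitrary ι)
    simpa using h2
  · intro h
    refine ⟨1, one_ne_zero, fun x => ?_⟩
    rw [coordS_pow, h]
    simp

theorem coordS_pow_order {σ : F ≃+* F} (hσ : ∀ x : ι → F, Q (fun i => σ (x i)) = σ (Q x)) {r : ℕ} (hr : orderOf σ = r) :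
    (coordS σ hσ) ^ r = 1 := by
  have hσr : σ ^ r = 1 := by rw [← hr]; exact pow_orderOf_eq_one σ
  apply Subtype.ext
  ext1 x
  rw [coordS_pow, hσr]
  rfl

/-- The abstract transport of conjugacy. -/
theorem transport {X : Type*} [Group X] (G : Subgroup X) (hG : ∀ α : X, ∀ h ∈ G, α * h * α⁻¹ ∈ G) (x δ α : X) {r : ℕ}
    (hδ : δ ∈ G) (hcore : ∀ g ∈ G, (g * (α * x * α⁻¹)) ^ r = 1 → ∃ k ∈ G, g * (α * x * α⁻¹) = k * (α * x * α⁻¹) * k⁻¹)
    (hord : (δ * x) ^ r = 1) : Cfsg.IsConjUnder G x (δ * x) := by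
  have h1 := hG α δ hδ
  have h2 : (α * δ * α⁻¹) * (α * x * α⁻¹) = α * (δ * x) * α⁻¹ := by group
  obtain ⟨k, hk, hk2⟩ := hcore _ h1 (by
    rw [h2, conj_pow, hord]
    group)
  have h3 := hG α⁻¹ k hk
  refine ⟨_, h3, ?_⟩
  rw [h2] at hk2
  have h4 : δ * x = α⁻¹ * (α * (δ * x) * α⁻¹) * α := by group
  rw [h4, hk2]
  group

variable (hQ : (polarBilin Q).Nondegenerate) (hn : 5 ≤ Fintype.card ι) (p : ℕ) [hp : Fact p.Prime] [hc : CharP F p]
variable [Nontrivial (ι → F)]
include hQ p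

/-- The general conjugacy statement in terms of descended forms. -/
theorem conj_core {σ : F ≃+* F} {l l₀ : F} {T T₀ : SemiEl Q} (H : Semi Q T.1 σ l) (H₀ : Semi Q T₀.1 σ l₀) {r : ℕ}
    (hr : orderOf σ = r) (hT : (conjS hQ hn T) ^ r = 1) (hT₀ : T₀ ^ r = 1)
    (hsim : ∀ (T' : SemiEl Q) (l' : F) (k k₀ : (ι → F) ≃ₗ[F] (ι → F)) (b b₀ : F) (D : IsDesc T' σ k b) (D₀ : IsDesc T₀ σ k₀ b₀),
      Semi Q T'.1 σ l' → T' ^ r = 1 → (∃ (a : F) (ha : a ≠ 0), T' = scS' a ha * T) →
      SimilarF (descend (twistForm Q k b) D.stable) (descend (twistForm Q k₀ b₀) D₀.stable)) :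
    ∃ h : Hs ⇑Q, conjS hQ hn T = conjHom ⇑Q h * conjS hQ hn T₀ * (conjHom ⇑Q h)⁻¹ := by
  haveI : Finite (F ≃+* F) := Finite.of_injective (fun e : F ≃+* F => (e : F → F)) DFunLike.coe_injective
  have hr0 : 0 < r := by
    rw [← hr]
    exact orderOf_pos σ
  obtain ⟨a, ha, hT'⟩ := exists_scale hQ hn p H hr hT
  set T' := scS' a ha * T with hT'def
  have H' := semi_scS'_mul H a ha
  obtain ⟨k, b, D⟩ := exists_desc hQ H' hr hr0 hT'
  obtain ⟨k₀, b₀, D₀⟩ := exists_desc hQ H₀ hr hr0 hT₀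
  obtain ⟨h, hh⟩ := conj_of_similar hQ D D₀ (hsim T' _ k k₀ b b₀ D D₀ H' hT' ⟨a, ha, rfl⟩)
  refine ⟨h, ?_⟩
  have h1 : conjS hQ hn T' = conjS hQ hn T := by
    rw [hT'def, map_mul, conjS_scS' hQ hn p, one_mul]
  have h2 : conjS hQ hn T' * conjS hQ hn (toSemi Q h) = conjS hQ hn (toSemi Q h) * conjS hQ hn T₀ := by
    rw [← map_mul, ← map_mul, hh]
  rw [h1, conjS_toSemi] at h2
  exact (mul_inv_eq_iff_eq_mul.2 h2.symm).symm

end core

end Cfsg.Agent.Lib.Classical.OmegaDesc
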