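import Mathlib
import Cfsg.Agent.Lib.Classical.PSL211

/-!
# Kernel checks for the two classes of `A₅` in `PSL₂(11)`
-/

set_option autoImplicit false
set_option maxRecDepth 100000

namespace Cfsg.Agent.Lib.Classical.PSL211Cert

open Cfsg.Agent.Lib.Classical.PSL211

/-- The conjugate by `diag(2, 1)` in coordinates. -/
def dT (t : T) : T := (t.1, 2 * t.2.1, 6 * t.2.2.1, t.2.2.2)

/-- The conjugate by `diag(2, 1)⁻¹` in coordinates. -/
def dTi (t : T) : T := (t.1, 6 * t.2.1, 2 * t.2.2.1, t.2.2.2)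

/-- The determinant in coordinates. -/
def detT (t : T) : ZMod 11 := t.1 * t.2.2.2 - t.2.1 * t.2.2.1

/-- Membership in one of the lists. -/
def inX (e : Bool) (t : T) : Prop := (if e then dTi t else t) ∈ L

instance (e : Bool) : DecidablePred (inX e) := fun t => by
  unfold inX
  infer_instance

/-- The conjugate in coordinates. -/
def tconj (s t : T) : T := tmul (tmul s t) (tinv s)

/-- Being `±1`, in coordinates. -/
def isPM (t : T) : Prop := t = (1, 0, 0, 1) ∨ t = (10, 0, 0, 10)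

instance : DecidablePred isPM := fun t => by
  unfold isPM
  infer_instance

/-- Square, cube and fifth power in coordinates. -/
def tsq (t : T) : T := tmul t t

def tcu (t : T) : T := tmul (tmul t t) t

def tfi (t : T) : T := tmul (tmul (tmul t t) (tmul t t)) t

/-- Conjugators for the involutions. -/
def Cl : List T := [(0,1,10,0),(0,3,7,0),(0,5,2,0),(0,2,5,0),(0,4,8,0),(0,4,8,4),(0,1,10,10),(0,2,5,2),(0,3,7,3),(0,5,2,5),(0,5,2,6),(0,3,7,8),(0,2,5,9),(0,1,10,1),(0,4,8,7),(0,3,7,5),(0,2,5,4),(0,4,8,3),(0,5,2,1),(0,1,10,9),(0,1,10,2),(0,5,2,10),(0,4,8,8),(0,2,5,7),(0,3,7,6),(0,1,10,3),(0,3,7,2),(0,5,2,4),(0,2,5,6),(0,4,8,1),(0,4,8,10),(0,2,5,5),(0,5,2,7),(0,3,7,9),(0,1,10,8),(0,3,7,1),(0,2,5,3),(0,4,8,5),(0,5,2,9),(0,1,10,4),(0,1,10,7),(0,5,2,2),(0,4,8,6),(0,2,5,8),(0,3,7,10),(0,5,2,8),(0,4,8,9),(0,3,7,7),(0,1,10,6),(0,2,5,1),(0,2,5,10),(0,1,10,5),(0,3,7,4),(0,4,8,2),(0,5,2,3)]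

theorem Cl_det : ∀ s ∈ Cl, detT s = 1 := by decide +kernel

/-- Negative of the chosen involution. -/
def nu₀ : T := (0, 10, 1, 0)

theorem tinv_tx₀ : tinv tx₀ = nu₀ := by decide +kernel

theorem chk1 : ∀ a b c d : ZMod 11, detT (a, b, c, d) = 1 → isPM (tsq (a, b, c, d)) →
    ¬ isPM (a, b, c, d) → ∃ s ∈ Cl, tconj s (a, b, c, d) = tx₀ ∨ tconj s (a, b, c, d) = nu₀ := by
  decide +kernel

/-- Elements conjugating the subgroups into a position containing the chosen involution. -/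
def P₀ : List (T × Bool) := [(((10,0,1,10)),true),(((8,0,0,7)),true),(((6,0,4,2)),false),(((6,0,4,2)),true),(((7,1,2,2)),true),(((6,1,1,4)),false),(((9,2,6,10)),false)]

theorem P₀_det : ∀ p ∈ P₀, detT p.1 = 1 := by decide +kernel

theorem P₀_u : ∀ p ∈ P₀, inX p.2 (tconj (tinv p.1) tx₀) := by decide +kernel

theorem chk2 : ∀ a b c d : ZMod 11, detT (a, b, c, d) = 1 → isPM (tcu (a, b, c, d)) →
    ¬ isPM (a, b, c, d) → isPM (tfi (tmul tx₀ (a, b, c, d))) → ¬ isPM (tmul tx₀ (a, b, c, d)) →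
    ∃ p ∈ P₀, inX p.2 (tconj (tinv p.1) (a, b, c, d)) := by
  decide +kernel

theorem chk0 : ∀ i : Fin 10,
    ¬ (dTi (tconj (tmul (evT (R.get (i.cast R_length.symm))) tx₀) tg₁) ∈ L ∧
      dTi (tconj (tmul (evT (R.get (i.cast R_length.symm))) tx₀) tg₂) ∈ L) := by
  decide +kernel

theorem chk0' : ¬ (dTi tg₁ ∈ L ∧ dTi tg₂ ∈ L) := by decide +kernel

end Cfsg.Agent.Lib.Classical.PSL211Cert
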