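import Mathlib
import Cfsg.Agent.Lib.Classical.PSL211
import Cfsg.Agent.Lib.Classical.PSL211Cert
import Cfsg.Agent.Lib.Classical.FieldTransfer
import Cfsg.Agent.S2542
import Cfsg.Agent.Lib.QuadAct.SL2p

/-!
# The two classes of `A₅` in `PSL₂(11)`

The subgroup `H'` of `PSL₂(11)` from `PSL211` and its image `K'` under conjugation by `diag(2, 1)`
are non-conjugate; every subgroup isomorphic to `A₅` is conjugate to one of them, by checking
all images of the standard generators `(0 1)(2 3)` and `(0 2 4)` of `A₅`.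
-/

set_option autoImplicit false
set_option maxRecDepth 100000
set_option linter.style.haveILetI false

namespace Cfsg.Agent.Lib.Classical.PSL211Two

open Cfsg.Agent.Lib.Classical.PSL211 Cfsg.Agent.Lib.Classical.PSL211Cert Cfsg.Agent.Lib.Classical.FieldTransfer
open scoped Pointwise

abbrev A₅ := alternatingGroup (Fin 5)

theorem detT_ent (m : S₂) : detT (ent m) = 1 := by
  have := m.2
  rw [Matrix.det_fin_two] at this
  exact this

/-- An element from coordinates. -/
def ofT (t : T) (h : detT t = 1) : S₂ :=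
  ⟨!![t.1, t.2.1; t.2.2.1, t.2.2.2], by rw [Matrix.det_fin_two_of]; exact h⟩

theorem ent_ofT (t : T) (h : detT t = 1) : ent (ofT t h) = t := rfl

theorem h12 : (12 : ZMod 11) = 1 := by decide +kernel

theorem dTi_dT (t : T) : dTi (dT t) = t := by
  obtain ⟨a, b, c, d⟩ := t
  simp only [dTi, dT, Prod.mk.injEq, true_and, and_true]
  constructor
  · linear_combination b * h12
  · linear_combination c * h12

theorem dT_dTi (t : T) : dT (dTi t) = t := by
  obtain ⟨a, b, c, d⟩ := t
  simp only [dTi, dT, Prod.mk.injEq, true_and, and_true]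
  constructor
  · linear_combination b * h12
  · linear_combination c * h12

theorem detT_dT (t : T) : detT (dT t) = detT t := by
  obtain ⟨a, b, c, d⟩ := t
  simp only [dT, detT]
  linear_combination (-b * c) * h12

theorem detT_dTi (t : T) : detT (dTi t) = detT t := by
  obtain ⟨a, b, c, d⟩ := t
  simp only [dTi, detT]
  linear_combination (-b * c) * h12

theorem dT_tmul (s t : T) : dT (tmul s t) = tmul (dT s) (dT t) := by
  obtain ⟨a, b, c, d⟩ := s
  obtain ⟨e, f, g, h⟩ := t
  simp only [dT, tmul, Prod.mk.injEq]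
  refine ⟨?_, ?_, ?_, ?_⟩
  · linear_combination (-b * g) * h12
  · ring
  · ring
  · linear_combination (-c * f) * h12

/-- Conjugation by `diag(2, 1)` on `SL₂(11)`. -/
def dS : S₂ ≃* S₂ where
  toFun m := ofT (dT (ent m)) (by rw [detT_dT, detT_ent])
  invFun m := ofT (dTi (ent m)) (by rw [detT_dTi, detT_ent])
  left_inv m := ent_injective (by rw [ent_ofT, ent_ofT, dTi_dT])
  right_inv m := ent_injective (by rw [ent_ofT, ent_ofT, dT_dTi])
  map_mul' m n := ent_injective (by
    rw [ent_ofT, ent_mul, dT_tmul, ent_mul, ent_ofT, ent_ofT])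

theorem ent_dS_symm (m : S₂) : ent (dS.symm m) = dTi (ent m) := rfl

/-- The induced automorphism of `PSL₂(11)`. -/
noncomputable def α : G' ≃* G' := centralQuotientCongr dS

theorem α_symm_π (m : S₂) : α.symm (π m) = π (dS.symm m) := rfl

/-- The second subgroup. -/
noncomputable def K' : Subgroup G' := H'.map α.toMonoidHom

theorem mem_H'_iff' (m : S₂) : π m ∈ H' ↔ ent m ∈ L := by
  rw [mem_H'_iff, mem_Ht_iff]

theorem mem_K'_iff (m : S₂) : π m ∈ K' ↔ dTi (ent m) ∈ L := by
  have h : π m ∈ K' ↔ α.symm (π m) ∈ H' := Subgroup.mem_map_equiv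
  rw [h, α_symm_π, mem_H'_iff', ent_dS_symm]

theorem iso_H : Nonempty (H' ≃* A₅) := Cfsg.Agent.S2542.iso_A5

theorem iso_K : Nonempty (K' ≃* A₅) := by
  obtain ⟨e⟩ := iso_H
  exact ⟨(H'.equivMapOfInjective α.toMonoidHom α.injective).symm.trans e⟩

theorem card_K' : Nat.card K' = 60 := by
  obtain ⟨e⟩ := iso_K
  rw [Nat.card_congr e.toEquiv, ← card_H', Nat.card_congr (Classical.choice iso_H).toEquiv]

theorem index_K' : K'.index = 11 := by
  have h := K'.card_mul_index
  rw [card_K', card_G'] at h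
  omega

/-- The two subgroups. -/
noncomputable def Xg (e : Bool) : Subgroup G' := if e then K' else H'

theorem mem_Xg_iff (e : Bool) (m : S₂) : π m ∈ Xg e ↔ inX e (ent m) := by
  cases e
  · simpa [Xg, inX] using mem_H'_iff' m
  · simpa [Xg, inX] using mem_K'_iff m

theorem card_Xg (e : Bool) : Nat.card (Xg e) = 60 := by
  cases e
  · simpa [Xg] using card_H'
  · simpa [Xg] using card_K'

theorem ent_conj (c m : S₂) : ent (c * m * c⁻¹) = tconj (ent c) (ent m) := by
  rw [ent_mul, ent_mul, ent_inv, tconj]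

theorem π_eq_one_iff (m : S₂) : π m = 1 ↔ isPM (ent m) := by
  rw [← MonoidHom.mem_ker, ker_π, mem_center_iff]
  constructor
  · rintro (rfl | h)
    · left
      exact ent_one
    · right
      exact h
  · rintro (h | h)
    · left
      exact ent_injective (h.trans ent_one.symm)
    · right
      exact h

theorem ent_sq (m : S₂) : ent (m ^ 2) = tsq (ent m) := by
  rw [pow_two, ent_mul, tsq]

theorem ent_cu (m : S₂) : ent (m ^ 3) = tcu (ent m) := by
  rw [show m ^ 3 = m * m * m by rw [pow_succ, pow_two], ent_mul, ent_mul, tcu]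

theorem ent_fi (m : S₂) : ent (m ^ 5) = tfi (ent m) := by
  rw [show m ^ 5 = m * m * (m * m) * m by rw [pow_succ, show (4 : ℕ) = 2 + 2 from rfl, pow_add, pow_two], ent_mul, ent_mul, ent_mul, tfi]

/-- The standard generators of `A₅`. -/
def u : A₅ := ⟨Equiv.swap 0 1 * Equiv.swap 2 3, by rw [Equiv.Perm.mem_alternatingGroup]; decide⟩

def v : A₅ := ⟨Equiv.swap 0 2 * Equiv.swap 0 4, by rw [Equiv.Perm.mem_alternatingGroup]; decide⟩

theorem u_ne : u ≠ 1 := by decide

theorem v_ne : v ≠ 1 := by decide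

theorem uv_ne : u * v ≠ 1 := by decide

theorem u_two : u ^ 2 = 1 := by decide

theorem v_three : v ^ 3 = 1 := by decide

theorem uv_five : (u * v) ^ 5 = 1 := by decide

theorem card_A₅ : Nat.card A₅ = 60 := by
  exact Cfsg.Agent.Lib.QuadAct.SL2p.card_A5

theorem A₅_gen : Subgroup.closure {u, v} = ⊤ := by
  set C := Subgroup.closure {u, v} with hC
  have hu : u ∈ C := Subgroup.subset_closure (by simp)
  have hv : v ∈ C := Subgroup.subset_closure (by simp)
  have h1 : orderOf u = 2 := orderOf_eq_prime u_two u_ne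
  have h2 : orderOf v = 3 := orderOf_eq_prime v_three v_ne
  haveI : Fact (Nat.Prime 5) := ⟨by norm_num⟩
  have h3 : orderOf (u * v) = 5 := orderOf_eq_prime uv_five uv_ne
  have d1 : 2 ∣ Nat.card C := by
    rw [← h1, ← Subgroup.orderOf_mk u hu]
    exact orderOf_dvd_natCard _
  have d2 : 3 ∣ Nat.card C := by
    rw [← h2, ← Subgroup.orderOf_mk v hv]
    exact orderOf_dvd_natCard _
  have d3 : 5 ∣ Nat.card C := by
    have := orderOf_dvd_natCard (⟨u * v, C.mul_mem hu hv⟩ : C)
    rwa [Subgroup.orderOf_mk, h3] at this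
  have hi := C.card_mul_index
  rw [card_A₅] at hi
  have d4 : 30 ∣ Nat.card C := by omega
  obtain ⟨k, hk⟩ := d4
  have hk2 : k * C.index = 2 := by
    rw [hk] at hi
    have : 30 * (k * C.index) = 30 * 2 := by rw [← mul_assoc, hi]
    exact Nat.eq_of_mul_eq_mul_left (by norm_num) this
  have hidx : C.index = 1 ∨ C.index = 2 := by
    have : C.index ∣ 2 := Dvd.intro_left k hk2
    exact (Nat.dvd_prime (by norm_num)).mp this
  rcases hidx with h | h
  · exact Subgroup.index_eq_one.mp h
  · haveI := Subgroup.normal_of_index_eq_two h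
    haveI : IsSimpleGroup A₅ := alternatingGroup.isSimpleGroup (by simp)
    rcases IsSimpleGroup.eq_bot_or_eq_top_of_normal C inferInstance with h5 | h5
    · exfalso
      rw [h5, Subgroup.index_bot, card_A₅] at h
      omega
    · exact h5

theorem pi_x₀_sq : π x₀ * π x₀ = 1 := by
  rw [← map_mul, π_eq_one_iff, ent_mul]
  decide +kernel

theorem pi_x₀_inv : π x₀⁻¹ = π x₀ := by
  rw [map_inv]
  exact inv_eq_of_mul_eq_one_left pi_x₀_sq

/-- Every subgroup isomorphic to `A₅` is conjugate to one of the two. -/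
theorem classify (M : Subgroup G') (hM : Nonempty (M ≃* A₅)) :
    ∃ g : G', MulAut.conj g • M = H' ∨ MulAut.conj g • M = K' := by
  obtain ⟨e⟩ := hM
  obtain ⟨m, hm⟩ := π_surj (e.symm u : G')
  obtain ⟨n, hn⟩ := π_surj (e.symm v : G')
  have e_inj : ∀ x : A₅, (e.symm x : G') = 1 → x = 1 := by
    intro x hx
    have : e.symm x = 1 := Subtype.ext hx
    simpa using this
  -- the involution
  have hm1 : ¬ isPM (ent m) := by
    rw [← π_eq_one_iff, hm]
    exact fun h => u_ne (e_inj _ h)
  have hm2 : isPM (tsq (ent m)) := by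
    rw [← ent_sq, ← π_eq_one_iff, map_pow, hm, ← Subgroup.coe_pow, ← map_pow, u_two]
    simp
  obtain ⟨s, hs, hs'⟩ := chk1 _ _ _ _ (detT_ent m) hm2 hm1
  let c : S₂ := ofT s (Cl_det s hs)
  have hc : ent c = s := ent_ofT _ _
  have hcm : π (c * m * c⁻¹) = π x₀ := by
    rcases hs' with h | h
    · have : c * m * c⁻¹ = x₀ := ent_injective (by rw [ent_conj, hc, ent_x₀]; exact h)
      rw [this]
    · have : c * m * c⁻¹ = x₀⁻¹ := ent_injective (by
        rw [ent_conj, hc, ent_inv, ent_x₀, tinv_tx₀]; exact h)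
      rw [this, pi_x₀_inv]
  -- the conjugated embedding
  let φ : A₅ →* G' := (MulAut.conj (π c)).toMonoidHom.comp (M.subtype.comp e.symm.toMonoidHom)
  have hφ : ∀ x, φ x = π c * (e.symm x : G') * (π c)⁻¹ := fun x => rfl
  have φ_inj : ∀ x : A₅, φ x = 1 → x = 1 := by
    intro x hx
    rw [hφ] at hx
    apply e_inj
    calc (e.symm x : G') = (π c)⁻¹ * (π c * (e.symm x : G') * (π c)⁻¹) * π c := by group
      _ = 1 := by rw [hx]; group
  let t : S₂ := c * n * c⁻¹
  have hφu : φ u = π x₀ := by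
    rw [hφ, ← hcm, ← hm]
    simp
  have hφv : φ v = π t := by
    rw [hφ, ← hn]
    simp [t]
  have ht1 : ¬ isPM (ent t) := by
    rw [← π_eq_one_iff, ← hφv]
    exact fun h => v_ne (φ_inj _ h)
  have ht3 : isPM (tcu (ent t)) := by
    rw [← ent_cu, ← π_eq_one_iff, map_pow, ← hφv, ← map_pow, v_three, map_one]
  have hx1 : ¬ isPM (tmul tx₀ (ent t)) := by
    rw [← ent_x₀, ← ent_mul, ← π_eq_one_iff, map_mul, ← hφv, ← hφu, ← map_mul]
    exact fun h => uv_ne (φ_inj _ h)
  have hx5 : isPM (tfi (tmul tx₀ (ent t))) := by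
    rw [← ent_x₀, ← ent_mul, ← ent_fi, ← π_eq_one_iff, map_pow, map_mul, ← hφv, ← hφu, ← map_mul,
      ← map_pow, uv_five, map_one]
  obtain ⟨p, hp, hp'⟩ := chk2 _ _ _ _ (detT_ent t) ht3 ht1 hx5 hx1
  let r : S₂ := ofT p.1 (P₀_det p hp)
  have hr : ent r = p.1 := ent_ofT _ _
  -- everything lands in `Xg p.2`
  have hrinv : ent r⁻¹ = tinv p.1 := by rw [ent_inv, hr]
  let ψ : A₅ →* G' := (MulAut.conj (π r⁻¹)).toMonoidHom.comp φ
  have hψ : ∀ x, ψ x = π r⁻¹ * φ x * (π r⁻¹)⁻¹ := fun x => rfl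
  have hψu : ψ u ∈ Xg p.2 := by
    rw [hψ, hφu, ← map_inv, ← map_mul, ← map_mul, mem_Xg_iff, ent_conj, hrinv, ent_x₀]
    exact P₀_u p hp
  have hψv : ψ v ∈ Xg p.2 := by
    rw [hψ, hφv, ← map_inv, ← map_mul, ← map_mul, mem_Xg_iff, ent_conj, hrinv]
    exact hp'
  have hψr : ∀ x, ψ x ∈ Xg p.2 := by
    intro x
    have hx : x ∈ Subgroup.closure {u, v} := by rw [A₅_gen]; trivial
    have h1 : Subgroup.closure {u, v} ≤ (Xg p.2).comap ψ := by
      rw [Subgroup.closure_le]
      rintro y (rfl | rfl)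
      · exact hψu
      · exact hψv
    exact h1 hx
  let δ : G' := π r⁻¹ * π c
  have hle : MulAut.conj δ • M ≤ Xg p.2 := by
    intro y hy
    rw [Subgroup.mem_pointwise_smul_iff_inv_smul_mem] at hy
    have h2 : (e (⟨_, hy⟩ : M) : A₅) = e ⟨_, hy⟩ := rfl
    have h3 : ψ (e ⟨_, hy⟩) = y := by
      rw [hψ, hφ]
      simp [δ]
      group
    rw [← h3]
    exact hψr _
  have heq : MulAut.conj δ • M = Xg p.2 := by
    apply Subgroup.eq_of_le_of_card_ge hle
    rw [card_Xg, Nat.card_congr (Subgroup.equivSMul (MulAut.conj δ) M).symm.toEquiv,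
      Nat.card_congr e.toEquiv, card_A₅]
  refine ⟨δ, ?_⟩
  cases hb : p.2
  · left
    rw [heq, hb]
    simp [Xg]
  · right
    rw [heq, hb]
    simp [Xg]

/-- The representatives of the cosets of `H'`. -/
theorem exists_rep (g : G') : g ∈ H' ∨ ∃ i : Fin 10, ∃ k ∈ H', g = π (uu i) * k := by
  obtain ⟨o, ho⟩ := pt_surjective (QuotientGroup.mk g)
  rcases o with _ | i
  · left
    have h1 : (QuotientGroup.mk 1 : G' ⧸ H') = QuotientGroup.mk g := ho
    rw [QuotientGroup.eq, inv_one, one_mul] at h1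
    exact h1
  · right
    have h1 : (QuotientGroup.mk (π (uu i)) : G' ⧸ H') = QuotientGroup.mk g := ho
    rw [QuotientGroup.eq] at h1
    exact ⟨i, _, h1, by group⟩

theorem g₁_mem : g₁ ∈ Ht := Subgroup.subset_closure (by simp)

theorem g₂_mem : g₂ ∈ Ht := Subgroup.subset_closure (by simp)

/-- `H'` and `K'` are not conjugate. -/
theorem not_conj (g : G') : MulAut.conj g • H' ≠ K' := by
  intro h
  have hmem : ∀ m ∈ Ht, g * π m * g⁻¹ ∈ K' := by
    intro m hm
    rw [← h]
    exact ⟨π m, ⟨m, hm, rfl⟩, rfl⟩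
  rcases exists_rep g with hg | ⟨i, k, hk, rfl⟩
  · -- `g ∈ H'` so `K' = H'`
    have hHK : ∀ m ∈ Ht, π m ∈ K' := by
      intro m hm
      have hg' : g⁻¹ * π m * g ∈ H' := mul_mem (mul_mem (inv_mem hg) ⟨m, hm, rfl⟩) hg
      rw [← h]
      refine ⟨_, hg', ?_⟩
      simp [MulAut.conj_apply]
      group
    have h1 := hHK g₁ g₁_mem
    have h2 := hHK g₂ g₂_mem
    rw [mem_K'_iff, ent_g₁] at h1
    rw [mem_K'_iff, ent_g₂] at h2
    exact chk0' ⟨h1, h2⟩
  · have hmem' : ∀ m ∈ Ht, π (uu i * m * (uu i)⁻¹) ∈ K' := by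
      intro m hm
      have hk' : k⁻¹ * π m * k ∈ H' := mul_mem (mul_mem (inv_mem hk) ⟨m, hm, rfl⟩) hk
      rw [← h]
      refine ⟨_, hk', ?_⟩
      simp [MulAut.conj_apply]
      group
    have h1 := hmem' g₁ g₁_mem
    have h2 := hmem' g₂ g₂_mem
    rw [mem_K'_iff, ent_conj, ent_uu, ent_g₁] at h1
    rw [mem_K'_iff, ent_conj, ent_uu, ent_g₂] at h2
    exact chk0 i ⟨h1, h2⟩

theorem isSimple_G' : IsSimpleGroup G' :=
  Matrix.ProjectiveSpecialLinearGroup.rank_two_simple (F := ZMod 11) (by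
    rw [Nat.card_eq_fintype_card, ZMod.card]; norm_num)

/-- The normalizer of a subgroup of index 11 is itself. -/
theorem normalizer_eq (S : Subgroup G') (hS : S.index = 11) : Subgroup.normalizer (S : Set G') = S := by
  set N := Subgroup.normalizer (S : Set G') with hN
  have hle : S ≤ N := Subgroup.le_normalizer
  have h1 := Subgroup.relIndex_mul_index hle
  rw [hS] at h1
  have h2 : N.index ∣ 11 := Dvd.intro_left _ h1
  rcases (Nat.dvd_prime (by norm_num)).mp h2 with h3 | h3
  · exfalso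
    rw [Subgroup.index_eq_one] at h3
    have h4 : S.Normal := Subgroup.normalizer_eq_top_iff.mp h3
    haveI := isSimple_G'
    rcases IsSimpleGroup.eq_bot_or_eq_top_of_normal S h4 with h5 | h5
    · rw [h5, Subgroup.index_bot, card_G'] at hS
      omega
    · rw [h5, Subgroup.index_top] at hS
      omega
  · rw [h3] at h1
    have h4 : S.relIndex N = 1 := by omega
    exact le_antisymm (Subgroup.relIndex_eq_one.mp h4) hle

theorem conj_smul_eq_iff (S : Subgroup G') (hS : S.index = 11) (g : G') :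
    MulAut.conj g • S = S ↔ g ∈ S := by
  constructor
  · intro h
    have h1 : g ∈ Subgroup.normalizer (S : Set G') := by
      rw [Subgroup.mem_normalizer_iff]
      intro x
      constructor
      · intro hx
        have : g * x * g⁻¹ ∈ MulAut.conj g • S := ⟨x, hx, rfl⟩
        rwa [h] at this
      · intro hx
        rw [← h] at hx
        rw [Subgroup.mem_pointwise_smul_iff_inv_smul_mem] at hx
        simpa [MulAut.smul_def, MulAut.conj_apply, mul_assoc] using hx
    rwa [normalizer_eq S hS] at h1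
  · intro hg
    ext x
    rw [Subgroup.mem_pointwise_smul_iff_inv_smul_mem]
    have : (MulAut.conj g)⁻¹ • x = g⁻¹ * x * g := by
      simp [MulAut.smul_def]
    rw [this]
    constructor
    · intro h
      have := mul_mem (mul_mem hg h) (inv_mem hg)
      simpa [mul_assoc] using this
    · intro h
      exact mul_mem (mul_mem (inv_mem hg) h) hg

/-- The class of a subgroup. -/
def cls (S : Subgroup G') : Set (Subgroup G') := Set.range fun g : G' => MulAut.conj g • S

theorem ncard_cls (S : Subgroup G') (hS : S.index = 11) : (cls S).ncard = 11 := by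
  letI act : MulAction G' (Subgroup G') := MulAction.compHom _ (MulAut.conj : G' →* MulAut G')
  have hsm : ∀ (g : G') (T : Subgroup G'), g • T = MulAut.conj g • T := fun _ _ => rfl
  have hstab : MulAction.stabilizer G' S = S := by
    ext g
    rw [MulAction.mem_stabilizer_iff, hsm, conj_smul_eq_iff S hS]
  have horb : MulAction.orbit G' S = cls S := rfl
  rw [← horb, ← MulAction.index_stabilizer, hstab, hS]

theorem mem_cls_iso (S : Subgroup G') (hS : Nonempty (S ≃* A₅)) (M : Subgroup G') (hM : M ∈ cls S) :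
    Nonempty (M ≃* A₅) := by
  obtain ⟨g, rfl⟩ := hM
  obtain ⟨e⟩ := hS
  exact ⟨(Subgroup.equivSMul (MulAut.conj g) S).symm.trans e⟩

theorem cls_eq : {M : Subgroup G' | Nonempty (M ≃* A₅)} = cls H' ∪ cls K' := by
  ext M
  constructor
  · intro hM
    obtain ⟨g, h | h⟩ := classify M hM
    · left
      exact ⟨g⁻¹, by rw [← h]; simp⟩
    · right
      exact ⟨g⁻¹, by rw [← h]; simp⟩
  · rintro (h | h)
    · exact mem_cls_iso _ iso_H _ h
    · exact mem_cls_iso _ iso_K _ h

theorem cls_disjoint : Disjoint (cls H') (cls K') := by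
  rw [Set.disjoint_left]
  rintro M ⟨g, rfl⟩ ⟨g', hg'⟩
  apply not_conj (g'⁻¹ * g)
  have h1 : MulAut.conj g' • K' = MulAut.conj g • H' := hg'
  rw [map_mul, map_inv, mul_smul, ← h1]
  simp

theorem card_subgroups : Nat.card {M : Subgroup G' // Nonempty (M ≃* A₅)} = 22 := by
  have h1 : Nat.card {M : Subgroup G' // Nonempty (M ≃* A₅)} =
      ({M : Subgroup G' | Nonempty (M ≃* A₅)}).ncard := rfl
  rw [h1, cls_eq, Set.ncard_union_eq cls_disjoint (Set.toFinite _) (Set.toFinite _),
    ncard_cls _ index_H', ncard_cls _ index_K']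

/-- The statement as a property of a group. -/
def Pst (G : Type*) [Group G] : Prop :=
  Nat.card {H : Subgroup G // Nonempty (H ≃* A₅)} = 22 ∧
    ∃ H K : Subgroup G, Nonempty (H ≃* A₅) ∧ Nonempty (K ≃* A₅) ∧
      (∀ g : G, MulAut.conj g • H ≠ K) ∧
      ∀ L : Subgroup G, Nonempty (L ≃* A₅) → ∃ g : G, MulAut.conj g • L = H ∨ MulAut.conj g • L = K

theorem Pst_G' : Pst G' :=
  ⟨card_subgroups, H', K', iso_H, iso_K, not_conj, classify⟩

theorem map_conj_smul {G₁ G₂ : Type*} [Group G₁] [Group G₂] (E : G₁ ≃* G₂) (g : G₁)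
    (H : Subgroup G₁) :
    (MulAut.conj g • H).map E.toMonoidHom = MulAut.conj (E g) • H.map E.toMonoidHom := by
  ext x
  constructor
  · rintro ⟨_, ⟨y, hy, rfl⟩, rfl⟩
    refine ⟨E y, ⟨y, hy, rfl⟩, ?_⟩
    simp [MulAut.smul_def, MulAut.conj_apply]
  · rintro ⟨_, ⟨y, hy, rfl⟩, rfl⟩
    refine ⟨_, ⟨y, hy, rfl⟩, ?_⟩
    simp [MulAut.smul_def, MulAut.conj_apply]

theorem iso_map {G₁ G₂ : Type*} [Group G₁] [Group G₂] (E : G₁ ≃* G₂) (H : Subgroup G₁) :
    Nonempty (H.map E.toMonoidHom ≃* A₅) ↔ Nonempty (H ≃* A₅) := by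
  constructor
  · rintro ⟨e⟩
    exact ⟨(H.equivMapOfInjective E.toMonoidHom E.injective).trans e⟩
  · rintro ⟨e⟩
    exact ⟨(H.equivMapOfInjective E.toMonoidHom E.injective).symm.trans e⟩

theorem Pst.of_equiv {G₁ G₂ : Type*} [Group G₁] [Group G₂] (E : G₁ ≃* G₂) (h : Pst G₂) : Pst G₁ := by
  obtain ⟨hc, H, K, hH, hK, hne, hall⟩ := h
  have hmc : ∀ H : Subgroup G₂, (H.comap E.toMonoidHom).map E.toMonoidHom = H := fun H =>
    Subgroup.map_comap_eq_self_of_surjective E.surjective H
  have hcm : ∀ H : Subgroup G₁, (H.map E.toMonoidHom).comap E.toMonoidHom = H := fun H =>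
    Subgroup.comap_map_eq_self_of_injective E.injective H
  refine ⟨?_, H.comap E.toMonoidHom, K.comap E.toMonoidHom, ?_, ?_, ?_, ?_⟩
  · rw [← hc]
    refine Nat.card_congr (Equiv.subtypeEquiv (E.mapSubgroup.toEquiv) ?_)
    intro H
    exact (iso_map E H).symm
  · rw [← iso_map E, hmc]
    exact hH
  · rw [← iso_map E, hmc]
    exact hK
  · intro g h
    apply hne (E g)
    have := congrArg (fun S => S.map E.toMonoidHom) h
    simp only [map_conj_smul, hmc] at this
    exact this
  · intro L hL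
    obtain ⟨g, hg⟩ := hall (L.map E.toMonoidHom) ((iso_map E L).mpr hL)
    refine ⟨E.symm g, ?_⟩
    have key : ∀ S : Subgroup G₂, MulAut.conj g • L.map E.toMonoidHom = S →
        MulAut.conj (E.symm g) • L = S.comap E.toMonoidHom := by
      intro S hS
      rw [← hS, ← hcm (MulAut.conj (E.symm g) • L), map_conj_smul]
      simp
    rcases hg with h | h
    · exact Or.inl (key _ h)
    · exact Or.inr (key _ h)

theorem main {F : Type*} [Field F] [Fintype F] (hF : Fintype.card F = 11) :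
    Pst (Matrix.ProjectiveSpecialLinearGroup (Fin 2) F) := by
  classical
  have hcard : Fintype.card F = Fintype.card (ZMod 11) := by
    rw [hF, ZMod.card]
  let e : F ≃+* ZMod 11 := FiniteField.ringEquivOfCardEq hcard
  exact Pst.of_equiv (pslCongr e) Pst_G'

end Cfsg.Agent.Lib.Classical.PSL211Two
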