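import Cfsg.Agent.Lib.Classical.TwoTransCount
import Cfsg.Agent.Lib.Classical.EigLin

/-!
The product of two nontrivial conjugacy classes of `PSL_d(F)`, `d ≥ 3`, is not a conjugacy class:
the number of fixed points on the projective space distinguishes classes of products.
-/

set_option autoImplicit false
set_option linter.unusedSectionVars false
set_option linter.style.haveILetI false
set_option linter.unusedSimpArgs false

open scoped LinearAlgebra.Projectivization
open Finset

namespace Cfsg.Agent.Lib.Classical.ProdClass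

open TwoTransCount EigLin

variable {F : Type*} [Field F] {d : ℕ}

/-- The linear map of an element of `SL`. -/
def lin (g : Matrix.SpecialLinearGroup (Fin d) F) : (Fin d → F) →ₗ[F] (Fin d → F) :=
  (Matrix.SpecialLinearGroup.toLin' g).toLinearMap

lemma lin_apply (g : Matrix.SpecialLinearGroup (Fin d) F) (v : Fin d → F) : lin g v = g • v := by
  rfl

lemma lin_mul (g h : Matrix.SpecialLinearGroup (Fin d) F) (v : Fin d → F) :
    lin (g * h) v = lin g (lin h v) := by
  rw [lin_apply, lin_apply, lin_apply, mul_smul]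

lemma lin_inv_lin (g : Matrix.SpecialLinearGroup (Fin d) F) (v : Fin d → F) :
    lin g⁻¹ (lin g v) = v := by
  rw [lin_apply, lin_apply, inv_smul_smul]

lemma lin_lin_inv (g : Matrix.SpecialLinearGroup (Fin d) F) (v : Fin d → F) :
    lin g (lin g⁻¹ v) = v := by
  rw [lin_apply, lin_apply, smul_inv_smul]

lemma lin_injective (g : Matrix.SpecialLinearGroup (Fin d) F) : Function.Injective (lin g) := by
  intro u v h
  rw [lin_apply, lin_apply] at h
  exact MulAction.injective g h

/-- An invertible linear map of determinant one comes from an element of `SL`. -/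
lemma exists_SL_of_equiv (g : (Fin d → F) ≃ₗ[F] (Fin d → F))
    (hg : LinearMap.det (g : (Fin d → F) →ₗ[F] (Fin d → F)) = 1) :
    ∃ x : Matrix.SpecialLinearGroup (Fin d) F, ∀ v, x • v = g v := by
  refine ⟨⟨LinearMap.toMatrix' (g : (Fin d → F) →ₗ[F] (Fin d → F)), ?_⟩, fun v => ?_⟩
  · rw [LinearMap.det_toMatrix', hg]
  · change (LinearMap.toMatrix' (g : (Fin d → F) →ₗ[F] (Fin d → F))) • v = g v
    rw [Matrix.smul_eq_mulVec, LinearMap.toMatrix'_mulVec]
    rfl

/-- Moving independent families by `SL`, up to a scalar on the first vector. -/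
theorem exists_SL_map {m : ℕ} (hm : 0 < m) {p t : Fin m → Fin d → F}
    (hp : LinearIndependent F p) (ht : LinearIndependent F t) :
    ∃ (x : Matrix.SpecialLinearGroup (Fin d) F) (c : F), c ≠ 0 ∧
      x • p ⟨0, hm⟩ = c • t ⟨0, hm⟩ ∧ ∀ i, i ≠ ⟨0, hm⟩ → x • p i = t i := by
  classical
  let f := hp.linearCombinationEquiv.symm ≪≫ₗ ht.linearCombinationEquiv
  obtain ⟨g, hg⟩ := Submodule.exists_linearEquiv_restrict_eq f
  have hgp : ∀ i, g (p i) = t i := by
    intro i
    have hmem : p i ∈ Submodule.span F (Set.range p) := Submodule.subset_span ⟨i, rfl⟩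
    have h1 := hg ⟨p i, hmem⟩
    have h2 : hp.linearCombinationEquiv (Finsupp.single i 1) = ⟨p i, hmem⟩ := by
      apply Subtype.ext
      simp
    have h3 : f ⟨p i, hmem⟩ = ht.linearCombinationEquiv (Finsupp.single i 1) := by
      simp only [f, LinearEquiv.trans_apply]
      rw [← h2, LinearEquiv.symm_apply_apply]
    rw [h3] at h1
    have h4 : ((ht.linearCombinationEquiv (Finsupp.single i 1) :
        Submodule.span F (Set.range t)) : Fin d → F) = t i := by simp
    rw [h4] at h1
    exact h1.symm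
  -- the functional
  let ψ : Submodule.span F (Set.range p) →ₗ[F] F :=
    (Finsupp.lapply (⟨0, hm⟩ : Fin m)) ∘ₗ hp.linearCombinationEquiv.symm.toLinearMap
  obtain ⟨φ, hφ⟩ := LinearMap.exists_extend ψ
  have hφp : ∀ i, φ (p i) = if i = ⟨0, hm⟩ then 1 else 0 := by
    intro i
    have hmem : p i ∈ Submodule.span F (Set.range p) := Submodule.subset_span ⟨i, rfl⟩
    have h1 := LinearMap.congr_fun hφ ⟨p i, hmem⟩
    simp only [LinearMap.coe_comp, Function.comp_apply, Submodule.subtype_apply] at h1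
    rw [h1]
    have h2 : hp.linearCombinationEquiv (Finsupp.single i 1) = ⟨p i, hmem⟩ := by
      apply Subtype.ext
      simp
    simp only [ψ, LinearMap.coe_comp, Function.comp_apply, LinearEquiv.coe_coe]
    rw [← h2, LinearEquiv.symm_apply_apply]
    simp [Finsupp.single_apply]
  set p₀ := p ⟨0, hm⟩ with hp₀
  set δ : F := LinearMap.det (g : (Fin d → F) →ₗ[F] (Fin d → F)) with hδ
  have hδ0 : δ ≠ 0 := by
    rw [hδ]
    exact (LinearEquiv.isUnit_det' g).ne_zero
  set c : F := δ⁻¹ with hc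
  have hc0 : c ≠ 0 := inv_ne_zero hδ0
  have hφ0 : φ p₀ = 1 := by
    rw [hp₀, hφp]
    simp
  have hunit : IsUnit (1 + φ ((c - 1) • p₀)) := by
    rw [map_smul, hφ0, smul_eq_mul, mul_one]
    simpa using hc0
  let s := LinearEquiv.dilatransvection hunit
  have hsdet : LinearMap.det (s : (Fin d → F) →ₗ[F] (Fin d → F)) = c := by
    simp only [s]
    rw [LinearEquiv.dilatransvection.coe_toLinearMap, LinearMap.transvection.det, map_smul, hφ0,
      smul_eq_mul, mul_one]
    ring
  have hsp : ∀ y, s y = y + φ y • (c - 1) • p₀ := fun y => LinearEquiv.dilatransvection.apply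
  obtain ⟨x, hx⟩ := exists_SL_of_equiv (s.trans g) (by
    have : ((s.trans g : (Fin d → F) ≃ₗ[F] (Fin d → F)) : (Fin d → F) →ₗ[F] (Fin d → F)) =
        (g : (Fin d → F) →ₗ[F] (Fin d → F)) ∘ₗ (s : (Fin d → F) →ₗ[F] (Fin d → F)) := rfl
    rw [this, LinearMap.det_comp, hsdet, ← hδ, hc, mul_inv_cancel₀ hδ0])
  refine ⟨x, c, hc0, ?_, ?_⟩
  · rw [hx, LinearEquiv.trans_apply, hsp, hφ0, one_smul]
    have : p₀ + (c - 1) • p₀ = c • p₀ := by module
    rw [this, map_smul, hp₀, hgp]
  · intro i hi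
    rw [hx, LinearEquiv.trans_apply, hsp, hφp, if_neg hi, zero_smul, add_zero, hgp]

section Counting

variable [Fintype F] [DecidableEq F]

/-- The eigenvectors of a linear map. -/
noncomputable def Eig (T : (Fin d → F) →ₗ[F] (Fin d → F)) : Finset (Fin d → F) :=
  open scoped _root_.Classical in univ.filter (fun v => v ≠ 0 ∧ ∃ l : F, T v = l • v)

lemma mem_Eig {T : (Fin d → F) →ₗ[F] (Fin d → F)} {v : Fin d → F} :
    v ∈ Eig T ↔ v ≠ 0 ∧ ∃ l : F, T v = l • v := by
  simp [Eig]

/-- Non-zero vectors of a subspace. -/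
noncomputable def nz (W : Submodule F (Fin d → F)) : Finset (Fin d → F) :=
  open scoped _root_.Classical in univ.filter (fun v => v ∈ W ∧ v ≠ 0)

lemma mem_nz {W : Submodule F (Fin d → F)} {v : Fin d → F} : v ∈ nz W ↔ v ∈ W ∧ v ≠ 0 := by
  simp [nz]

lemma card_nz (W : Submodule F (Fin d → F)) :
    (nz W).card + 1 = Fintype.card F ^ Module.finrank F W := by
  classical
  have h1 : Fintype.card W = Fintype.card F ^ Module.finrank F W := Module.card_eq_pow_finrank
  rw [← h1, Fintype.card_subtype]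
  have h2 : (univ.filter (fun v => v ∈ W)) = insert (0 : Fin d → F) (nz W) := by
    ext v
    simp only [mem_filter, mem_univ, true_and, mem_insert, mem_nz]
    constructor
    · intro h
      by_cases h0 : v = 0
      · exact Or.inl h0
      · exact Or.inr ⟨h, h0⟩
    · rintro (rfl | h)
      · exact W.zero_mem
      · exact h.1
  rw [h2, card_insert_of_notMem]
  intro h
  exact (mem_nz.1 h).2 rfl

lemma card_nz_le {W : Submodule F (Fin d → F)} {n : ℕ} (h : Module.finrank F W ≤ n) :
    (nz W).card + 1 ≤ Fintype.card F ^ n := by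
  rw [card_nz]
  exact Nat.pow_le_pow_right Fintype.card_pos h

/-- The largest dimension of an eigenspace. -/
noncomputable def maxEig (T : (Fin d → F) →ₗ[F] (Fin d → F)) : ℕ :=
  univ.sup (fun l : F => Module.finrank F (Module.End.eigenspace T l))

lemma finrank_le_maxEig (T : (Fin d → F) →ₗ[F] (Fin d → F)) (l : F) :
    Module.finrank F (Module.End.eigenspace T l) ≤ maxEig T :=
  Finset.le_sup (f := fun l : F => Module.finrank F (Module.End.eigenspace T l)) (mem_univ l)

lemma exists_maxEig (T : (Fin d → F) →ₗ[F] (Fin d → F)) :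
    ∃ l : F, Module.finrank F (Module.End.eigenspace T l) = maxEig T := by
  obtain ⟨l, -, hl⟩ := Finset.exists_mem_eq_sup (univ : Finset F) ⟨0, mem_univ _⟩
    (fun l : F => Module.finrank F (Module.End.eigenspace T l))
  exact ⟨l, hl.symm⟩

/-- All eigenvectors are counted by the eigenspaces of non-zero eigenvalues. -/
lemma card_Eig_le {T : (Fin d → F) →ₗ[F] (Fin d → F)} (hT : Function.Injective T) :
    (Eig T).card + (Fintype.card F - 1) ≤ (Fintype.card F - 1) * Fintype.card F ^ maxEig T := by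
  classical
  have h1 : Eig T ⊆ (univ.erase (0 : F)).biUnion (fun l => nz (Module.End.eigenspace T l)) := by
    intro v hv
    obtain ⟨hv0, l, hl⟩ := mem_Eig.1 hv
    rw [mem_biUnion]
    refine ⟨l, ?_, ?_⟩
    · rw [mem_erase]
      refine ⟨?_, mem_univ _⟩
      rintro rfl
      rw [zero_smul] at hl
      exact hv0 (hT (by rw [hl, map_zero]))
    · rw [mem_nz]
      exact ⟨Module.End.mem_eigenspace_iff.2 hl, hv0⟩
  have h2 := (card_le_card h1).trans card_biUnion_le
  have h3 : ∀ l ∈ univ.erase (0 : F), (nz (Module.End.eigenspace T l)).card + 1 ≤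
      Fintype.card F ^ maxEig T := fun l _ => card_nz_le (finrank_le_maxEig T l)
  have h4 : ∑ l ∈ univ.erase (0 : F), ((nz (Module.End.eigenspace T l)).card + 1) ≤
      ∑ l ∈ univ.erase (0 : F), Fintype.card F ^ maxEig T := sum_le_sum h3
  rw [sum_add_distrib, sum_const, sum_const, card_erase_of_mem (mem_univ _), card_univ,
    smul_eq_mul, smul_eq_mul, mul_one] at h4
  omega

/-- Eigenvectors lie in the eigenspace of one eigenvalue or in a disjoint subspace. -/
lemma card_Eig_le_two {T : (Fin d → F) →ₗ[F] (Fin d → F)} (l₁ : F) :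
    ∃ n, Module.finrank F (Module.End.eigenspace T l₁) + n ≤ d ∧
      (Eig T).card + 2 ≤ Fintype.card F ^ Module.finrank F (Module.End.eigenspace T l₁) +
        Fintype.card F ^ n := by
  classical
  set W := ⨆ j, ⨆ (_ : j ≠ l₁), Module.End.eigenspace T j with hW
  have h1 : Disjoint (Module.End.eigenspace T l₁) W := (Module.End.eigenspaces_iSupIndep T) l₁
  have h2 := Submodule.finrank_add_finrank_le_of_disjoint h1
  have h3 : Module.finrank F (Fin d → F) = d := by simp
  refine ⟨Module.finrank F W, by omega, ?_⟩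
  have h4 : Eig T ⊆ nz (Module.End.eigenspace T l₁) ∪ nz W := by
    intro v hv
    obtain ⟨hv0, l, hl⟩ := mem_Eig.1 hv
    rw [mem_union]
    by_cases h5 : l = l₁
    · left
      rw [mem_nz, ← h5]
      exact ⟨Module.End.mem_eigenspace_iff.2 hl, hv0⟩
    · right
      rw [mem_nz]
      refine ⟨?_, hv0⟩
      refine Submodule.mem_iSup_of_mem l (Submodule.mem_iSup_of_mem h5 ?_)
      exact Module.End.mem_eigenspace_iff.2 hl
  have h5 := (card_le_card h4).trans (card_union_le _ _)
  have h6 := card_nz (Module.End.eigenspace T l₁)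
  have h7 := card_nz W
  omega

end Counting

section Proj

variable [Fintype F] [DecidableEq F]
  [Fintype (ℙ F (Fin d → F))] [DecidableEq (ℙ F (Fin d → F))]

local notation "PSLd" => Matrix.ProjectiveSpecialLinearGroup (Fin d) F
local notation "SLd" => Matrix.SpecialLinearGroup (Fin d) F

/-- The image in `PSL`. -/
def toP (g : SLd) : PSLd := QuotientGroup.mk g

lemma toP_mul (g h : SLd) : toP (g * h) = toP g * toP h := rfl

lemma toP_inv (g : SLd) : toP g⁻¹ = (toP g)⁻¹ := rfl

lemma toP_smul (g : SLd) (v : Fin d → F) (hv : v ≠ 0) :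
    toP g • Projectivization.mk F v hv =
      Projectivization.mk F (lin g v) (by
        rw [lin_apply]
        exact (smul_ne_zero_iff_ne g).2 hv) := rfl

lemma toP_fix_iff (g : SLd) (v : Fin d → F) (hv : v ≠ 0) :
    toP g • Projectivization.mk F v hv = Projectivization.mk F v hv ↔ ∃ l : F, lin g v = l • v := by
  rw [toP_smul, Projectivization.mk_eq_mk_iff']
  constructor
  · rintro ⟨a, ha⟩
    exact ⟨a, ha.symm⟩
  · rintro ⟨a, ha⟩
    exact ⟨a, ha.symm⟩

/-- The eigenvector count in terms of the fixed points. -/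
lemma card_Eig_eq (g : SLd) :
    (Fintype.card F - 1) * fixN (ℙ F (Fin d → F)) (toP g) = (Eig (lin g)).card := by
  classical
  have h1 : (({p : ℙ F (Fin d → F) | toP g • p = p} : Finset _) ×ˢ (univ : Finset Fˣ)).card =
      (Eig (lin g)).card := by
    apply Finset.card_bij (fun a _ => ((a.2 : F) • a.1.rep))
    · rintro ⟨p, u⟩ hp
      simp only [mem_product, mem_filter, mem_univ, true_and, and_true] at hp
      rw [mem_Eig]
      refine ⟨smul_ne_zero u.ne_zero p.rep_nonzero, ?_⟩
      have h2 := hp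
      rw [← Projectivization.mk_rep p] at h2
      obtain ⟨l, hl⟩ := (toP_fix_iff g p.rep p.rep_nonzero).1 h2
      refine ⟨l, ?_⟩
      simp only
      rw [map_smul, hl, smul_comm]
    · rintro ⟨p, u⟩ _ ⟨p', u'⟩ _ h
      simp only at h
      have h2 : Projectivization.mk F ((u : F) • p.rep) (smul_ne_zero u.ne_zero p.rep_nonzero) =
          Projectivization.mk F ((u' : F) • p'.rep) (smul_ne_zero u'.ne_zero p'.rep_nonzero) := by
        simp only [h]
      have h3 : p = p' := by
        have e1 : Projectivization.mk F ((u : F) • p.rep) (smul_ne_zero u.ne_zero p.rep_nonzero) =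
            p := by
          conv_rhs => rw [← Projectivization.mk_rep p]
          rw [Projectivization.mk_eq_mk_iff']
          exact ⟨u, rfl⟩
        have e2 : Projectivization.mk F ((u' : F) • p'.rep)
            (smul_ne_zero u'.ne_zero p'.rep_nonzero) = p' := by
          conv_rhs => rw [← Projectivization.mk_rep p']
          rw [Projectivization.mk_eq_mk_iff']
          exact ⟨u', rfl⟩
        rw [← e1, ← e2, h2]
      subst h3
      have h4 : ((u : F) - u') • p.rep = 0 := by
        rw [sub_smul, h, sub_self]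
      have h5 : (u : F) - u' = 0 := (smul_eq_zero.1 h4).resolve_right p.rep_nonzero
      have h6 : u = u' := Units.ext (sub_eq_zero.1 h5)
      rw [h6]
    · intro v hv
      obtain ⟨hv0, l, hl⟩ := mem_Eig.1 hv
      obtain ⟨a, ha⟩ := Projectivization.exists_smul_eq_mk_rep F v hv0
      refine ⟨(Projectivization.mk F v hv0, a⁻¹), ?_, ?_⟩
      · simp only [mem_product, mem_filter, mem_univ, true_and, and_true]
        exact (toP_fix_iff g v hv0).2 ⟨l, hl⟩
      · simp only
        rw [← ha, Units.smul_def, smul_smul]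
        simp
  rw [← h1, card_product, card_univ, Fintype.card_units]
  unfold fixN
  ring

lemma eig_of_fix {g : SLd} {p : ℙ F (Fin d → F)} (h : toP g • p = p) :
    ∃ l : F, lin g p.rep = l • p.rep := by
  have h2 := h
  rw [← Projectivization.mk_rep p] at h2
  exact (toP_fix_iff g p.rep p.rep_nonzero).1 h2

/-- Two independent eigenvectors give two fixed points. -/
lemma two_le_fixN {g : SLd} {u₁ u₂ : Fin d → F} (hl : LinearIndependent F ![u₁, u₂]) {l₁ l₂ : F}
    (h1 : lin g u₁ = l₁ • u₁) (h2 : lin g u₂ = l₂ • u₂) :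
    2 ≤ fixN (ℙ F (Fin d → F)) (toP g) := by
  have hu₁ : u₁ ≠ 0 := li2_ne_zero hl
  have hu₂ : u₂ ≠ 0 := li2_ne_zero (li2_symm hl)
  have h3 : Projectivization.mk F u₁ hu₁ ≠ Projectivization.mk F u₂ hu₂ := by
    intro h4
    rw [Projectivization.mk_eq_mk_iff'] at h4
    obtain ⟨a, ha⟩ := h4
    rw [li2_iff] at hl
    have := hl (-1) a (by rw [ha]; simp)
    simp at this
  have h4 : 1 < fixN (ℙ F (Fin d → F)) (toP g) := by
    apply Finset.one_lt_card.2
    refine ⟨Projectivization.mk F u₁ hu₁, ?_, Projectivization.mk F u₂ hu₂, ?_, h3⟩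
    · simp only [mem_filter, mem_univ, true_and]
      exact (toP_fix_iff g u₁ hu₁).2 ⟨l₁, h1⟩
    · simp only [mem_filter, mem_univ, true_and]
      exact (toP_fix_iff g u₂ hu₂).2 ⟨l₂, h2⟩
  omega

end Proj

section Config

variable {a b x : Matrix.SpecialLinearGroup (Fin d) F}

lemma conj_apply {w z : Fin d → F} (h : lin a w = z) : lin (x * a * x⁻¹) (x • w) = x • z := by
  rw [lin_mul, lin_mul, lin_apply x⁻¹, inv_smul_smul, h, lin_apply x]

lemma T_apply (v : Fin d → F) : lin (x * a * x⁻¹ * b) v = lin (x * a * x⁻¹) (lin b v) :=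
  lin_mul _ _ _

lemma conj_smul {w u z : Fin d → F} {c : F} (hc : c ≠ 0) (h1 : x • w = c • u) (h2 : lin a w = z) :
    lin (x * a * x⁻¹) u = c⁻¹ • (x • z) := by
  have h3 := conj_apply (x := x) h2
  rw [h1, map_smul] at h3
  rw [← h3, smul_smul, inv_mul_cancel₀ hc, one_smul]

lemma finrank_V : Module.finrank F (Fin d → F) = d := by simp

/-- Two nonscalar elements with eigenvectors. -/
lemma caseA (ha : ∃ v, LinearIndependent F ![v, lin a v]) (hb : ∃ v, LinearIndependent F ![v, lin b v])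
    {ea eb : Fin d → F} {α β : F} (hea0 : ea ≠ 0) (hea : lin a ea = α • ea) (heb0 : eb ≠ 0)
    (heb : lin b eb = β • eb) (hd : 3 ≤ d) :
    ∃ (x : Matrix.SpecialLinearGroup (Fin d) F) (u₁ u₂ : Fin d → F) (l₁ l₂ : F),
      LinearIndependent F ![u₁, u₂] ∧ lin (x * a * x⁻¹ * b) u₁ = l₁ • u₁ ∧
        lin (x * a * x⁻¹ * b) u₂ = l₂ • u₂ := by
  have hd' : 3 ≤ Module.finrank F (Fin d → F) := by rw [finrank_V]; exact hd
  obtain ⟨w₁, w₂, α', h0, h1, h2⟩ := exists_li3_eig ha hea0 hea hd'
  obtain ⟨u₁, u₂, β', h3, h4, h5⟩ := exists_li3_eig hb heb0 heb hd'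
  obtain ⟨x, c, hc, hx0, hx⟩ := exists_SL_map (m := 3) (by norm_num) h2 (li3_perm₁ h5)
  have hx1 := hx 1 (by decide)
  have hx2 := hx 2 (by decide)
  simp only [Matrix.cons_val_zero, Matrix.cons_val_one, Matrix.cons_val] at hx0 hx1 hx2
  change x • w₁ = c • u₁ at hx0
  refine ⟨x, u₁, u₂, β' * α', 1, li3_12 h5, ?_, ?_⟩
  · rw [T_apply, h4, map_smul, conj_smul hc hx0 h1, smul_comm x, hx0]
    simp only [smul_smul]
    congr 1
    field_simp
  · rw [T_apply, ← hx1, conj_apply rfl, hx2, one_smul]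

/-- A permutation of four independent vectors. -/
lemma li4_perm {u v w z : Fin d → F} (h : LinearIndependent F ![u, v, w, z]) :
    LinearIndependent F ![v, u, z, w] := by
  rw [li4_iff] at h ⊢
  intro A B C D hs
  have := h B A D C (by rw [← hs]; abel)
  exact ⟨this.2.1, this.1, this.2.2.2, this.2.2.1⟩

lemma li4_13 {u v w z : Fin d → F} (h : LinearIndependent F ![u, v, w, z]) :
    LinearIndependent F ![u, w] := by
  rw [li4_iff] at h
  rw [li2_iff]
  intro A B hs
  have := h A 0 B 0 (by rw [← hs]; simp)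
  exact ⟨this.1, this.2.2.1⟩

/-- An element without eigenvectors and an element with a unique eigenline. -/
lemma caseB (hno : ∀ (v : Fin d → F) (l : F), v ≠ 0 → lin a v ≠ l • v)
    {e : Fin d → F} {β : F} (he0 : e ≠ 0) (he : lin b e = β • e)
    (huniq : ∀ (v : Fin d → F) (l : F), v ≠ 0 → lin b v = l • v → v ∈ Submodule.span F {e})
    (hd : 3 ≤ d) :
    ∃ (x : Matrix.SpecialLinearGroup (Fin d) F) (u₁ u₂ : Fin d → F) (l₁ l₂ : F),
      LinearIndependent F ![u₁, u₂] ∧ lin (x * a * x⁻¹ * b) u₁ = l₁ • u₁ ∧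
        lin (x * a * x⁻¹ * b) u₂ = l₂ • u₂ := by
  have hd' : 3 ≤ Module.finrank F (Fin d → F) := by rw [finrank_V]; exact hd
  obtain ⟨u, hu⟩ := exists_li3_of_unique he0 he huniq hd'
  rcases exists_li_of_no_eig hno hd' with ⟨w, hw⟩ | ⟨w₁, w₂, hw⟩
  · obtain ⟨x, c, hc, hx0, hx⟩ := exists_SL_map (m := 3) (by norm_num) hw (li3_perm₂ hu)
    have hx1 := hx 1 (by decide)
    have hx2 := hx 2 (by decide)
    simp only [Matrix.cons_val_zero, Matrix.cons_val_one, Matrix.cons_val] at hx0 hx1 hx2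
    change x • w = c • lin b (lin b u) at hx0
    refine ⟨x, u, lin b u, 1, c⁻¹, li3_12 hu, ?_, ?_⟩
    · rw [T_apply, ← hx1, conj_apply rfl, hx2, one_smul]
    · rw [T_apply, conj_smul hc hx0 rfl, hx1]
  · have hd4 : 4 ≤ Module.finrank F (Fin d → F) := by
      have := hw.fintype_card_le_finrank
      simpa using this
    obtain ⟨u₂, hu₂⟩ := exists_li4_of_li3 hu hd4
    obtain ⟨x, c, hc, hx0, hx⟩ := exists_SL_map (m := 4) (by norm_num) hw (li4_perm hu₂)
    have hx1 := hx 1 (by decide)
    have hx2 := hx 2 (by decide)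
    have hx3 := hx 3 (by decide)
    simp only [Matrix.cons_val_zero, Matrix.cons_val_one, Matrix.cons_val] at hx0 hx1 hx2 hx3
    change x • w₁ = c • lin b u at hx0
    refine ⟨x, u, u₂, c⁻¹, 1, li4_13 hu₂, ?_, ?_⟩
    · rw [T_apply, conj_smul hc hx0 rfl, hx1]
    · rw [T_apply, ← hx2, conj_apply rfl, hx3, one_smul]

/-- An element of `SL` mapping a subspace into a subspace of at least the same dimension. -/
lemma exists_embed {W W' : Submodule F (Fin d → F)} (h : Module.finrank F W' ≤ Module.finrank F W)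
    (h0 : 0 < Module.finrank F W') :
    ∃ x : Matrix.SpecialLinearGroup (Fin d) F, ∀ v ∈ W', x⁻¹ • v ∈ W := by
  classical
  set m := Module.finrank F W' with hm
  let b' : Module.Basis (Fin m) F W' := Module.finBasisOfFinrankEq F W' rfl
  let b₀ : Module.Basis (Fin (Module.finrank F W)) F W := Module.finBasis F W
  let t : Fin m → Fin d → F := fun i => (b' i : Fin d → F)
  let p : Fin m → Fin d → F := fun i => (b₀ (Fin.castLE h i) : Fin d → F)
  have ht : LinearIndependent F t :=
    b'.linearIndependent.map' W'.subtype (Submodule.ker_subtype _)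
  have hp : LinearIndependent F p :=
    ((b₀.linearIndependent.comp _ (Fin.castLE_injective h))).map' W.subtype (Submodule.ker_subtype _)
  obtain ⟨x, c, hc, hx0, hx⟩ := exists_SL_map h0 hp ht
  refine ⟨x, ?_⟩
  have hpW : ∀ i, p i ∈ W := fun i => (b₀ (Fin.castLE h i)).2
  have hts : ∀ i, x⁻¹ • t i ∈ W := by
    intro i
    by_cases hi : i = ⟨0, h0⟩
    · subst hi
      have h1 : x⁻¹ • t ⟨0, h0⟩ = c⁻¹ • p ⟨0, h0⟩ := by
        rw [inv_smul_eq_iff, smul_comm, hx0, smul_smul, inv_mul_cancel₀ hc, one_smul]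
      rw [h1]
      exact W.smul_mem _ (hpW _)
    · have h1 : x⁻¹ • t i = p i := by
        rw [inv_smul_eq_iff, hx i hi]
      rw [h1]
      exact hpW i
  intro v hv
  have h1 : v = ∑ i, (b'.repr ⟨v, hv⟩ i) • t i := by
    have := b'.sum_repr ⟨v, hv⟩
    have h2 := congrArg (fun y : W' => (y : Fin d → F)) this
    simp only [Submodule.coe_sum, Submodule.coe_smul] at h2
    exact h2.symm
  rw [h1, smul_sum]
  apply Submodule.sum_mem
  intro i _
  rw [smul_comm]
  exact W.smul_mem _ (hts i)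

end Config

section Numbers

lemma num1 {q r s f N W P : ℤ} (hq : 2 ≤ q) (hW : 0 < W) (h1 : (N - 1) * (q - 1) = q * W)
    (h2 : (N - 1) * (f - 1) = (r - 1) * (s - 1)) (h3 : (r - 1) * (q - 1) ≤ W)
    (hs : s + 1 ≤ P) (hf : P ≤ (q - 1) * f + 1) (hs1 : 1 ≤ s) (hP : q ^ 2 ≤ P) : False := by
  have h4 : q * W * (f - 1) = (r - 1) * (q - 1) * (s - 1) := by
    rw [← h1]
    linear_combination (q - 1) * h2
  have h5 : (r - 1) * (q - 1) * (s - 1) ≤ W * (s - 1) :=
    mul_le_mul_of_nonneg_right h3 (by linarith)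
  have h6 : q * (f - 1) ≤ s - 1 := by
    have : W * (q * (f - 1)) ≤ W * (s - 1) := by
      rw [← h4] at h5
      linarith
    exact le_of_mul_le_mul_left this hW
  have h7 : (q - 1) * (q * (f - 1)) ≤ (q - 1) * (s - 1) :=
    mul_le_mul_of_nonneg_left h6 (by linarith)
  have h8 : q * (P - q) ≤ (q - 1) * (q * (f - 1)) := by
    have : P - q ≤ (q - 1) * (f - 1) := by linarith
    calc q * (P - q) ≤ q * ((q - 1) * (f - 1)) := mul_le_mul_of_nonneg_left this (by linarith)
      _ = (q - 1) * (q * (f - 1)) := by ring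
  have h9 : (q - 1) * (s - 1) ≤ (q - 1) * (P - 2) :=
    mul_le_mul_of_nonneg_left (by linarith) (by linarith)
  nlinarith

lemma num2 {q r s f N W : ℤ} (hq : 2 ≤ q) (hW : 0 < W) (h1 : (N - 1) * (q - 1) = q * W)
    (h2 : (N - 1) * (f - 1) = (r - 1) * (s - 1)) (h3 : (r - 1) * (q - 1) ≤ W) (hWq : q - 1 ≤ W)
    (hr : 0 ≤ r) (hs0 : 0 ≤ s) (hs : s + 1 ≤ q) (hf : 0 ≤ f) (hN : 1 < N) : f = 1 ∧ (r = 1 ∨ s = 1) := by
  have h4 : q * W * (f - 1) = (r - 1) * (q - 1) * (s - 1) := by
    rw [← h1]
    linear_combination (q - 1) * h2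
  set A := (r - 1) * (q - 1) with hA
  have hA1 : -W ≤ A := by
    rw [hA]
    nlinarith
  have hB : A * (s - 1) < q * W := by
    nlinarith
  have hB' : -(q * W) < A * (s - 1) := by
    nlinarith
  have hpos : 0 < q * W := by positivity
  have hf1 : f = 1 := by
    by_contra hne
    have : f < 1 ∨ 1 < f := lt_or_gt_of_ne hne
    rcases this with h5 | h5
    · have h6 : f = 0 := by omega
      rw [h6] at h4
      nlinarith
    · have h6 : 1 ≤ f - 1 := by omega
      have h7 : q * W * 1 ≤ q * W * (f - 1) := mul_le_mul_of_nonneg_left h6 hpos.le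
      nlinarith
  refine ⟨hf1, ?_⟩
  rw [hf1] at h2
  have h5 : (r - 1) * (s - 1) = 0 := by rw [← h2]; ring
  rcases mul_eq_zero.1 h5 with h6 | h6
  · left; omega
  · right; omega

lemma num3 {q k n d : ℕ} (hq : 2 ≤ q) (hk : 1 ≤ k) (hk' : k ≤ d - 1) (hkn : k + n ≤ d) (hd : 3 ≤ d) :
    q ^ k + q ^ n ≤ q ^ (d - 1) + q := by
  have hq1 : 1 ≤ q := by omega
  rcases Nat.eq_zero_or_pos n with rfl | hn
  · have h1 : q ^ k ≤ q ^ (d - 1) := Nat.pow_le_pow_right hq1 hk'
    simp only [pow_zero]
    omega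
  · obtain ⟨A, rfl⟩ : ∃ A, k = A + 1 := ⟨k - 1, by omega⟩
    obtain ⟨B, rfl⟩ : ∃ B, n = B + 1 := ⟨n - 1, by omega⟩
    have h1 : q ^ (A + B + 1) ≤ q ^ (d - 1) := Nat.pow_le_pow_right hq1 (by omega)
    have h2 : 1 ≤ q ^ A := Nat.one_le_pow _ _ (by omega)
    have h3 : 1 ≤ q ^ B := Nat.one_le_pow _ _ (by omega)
    have h4 : q ^ A + q ^ B ≤ q ^ A * q ^ B + 1 := by nlinarith
    have h5 : q ^ (A + 1) + q ^ (B + 1) = q * (q ^ A + q ^ B) := by ring
    have h6 : q ^ (A + B + 1) = q * (q ^ A * q ^ B) := by ring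
    have h7 : q * (q ^ A + q ^ B) ≤ q * (q ^ A * q ^ B + 1) := Nat.mul_le_mul_left _ h4
    rw [h5]
    rw [h6] at h1
    nlinarith

end Numbers

section Core

variable [Fintype F] [DecidableEq F]
  [Fintype (ℙ F (Fin d → F))] [DecidableEq (ℙ F (Fin d → F))]

local notation "PSLd" => Matrix.ProjectiveSpecialLinearGroup (Fin d) F
local notation "SLd" => Matrix.SpecialLinearGroup (Fin d) F
local notation "fixP" => fixN (ℙ F (Fin d → F))

lemma two_le_card : 2 ≤ Fintype.card F := by
  have := Fintype.one_lt_card (α := F)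
  omega

lemma card_proj : Fintype.card (ℙ F (Fin d → F)) * (Fintype.card F - 1) + 1 =
    Fintype.card F ^ d := by
  have h1 := Projectivization.card' (k := F) (V := Fin d → F)
  simp only [Nat.card_eq_fintype_card, Fintype.card_fun, Fintype.card_fin] at h1
  exact h1.symm

/-- Upper bound for the number of fixed points of a nonscalar element. -/
lemma r_bound {a : SLd} (ha : ∃ v, LinearIndependent F ![v, lin a v]) (hd : 3 ≤ d) :
    ((fixP (toP a) : ℤ) - 1) * ((Fintype.card F : ℤ) - 1) ≤ (Fintype.card F : ℤ) ^ (d - 1) - 1 := by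
  have hq := two_le_card (F := F)
  set q := Fintype.card F with hqdef
  have h1 := card_Eig_eq a
  have hq' : ((q - 1 : ℕ) : ℤ) = (q : ℤ) - 1 := by
    rw [Nat.cast_sub (by omega)]
    simp
  by_cases hE : (Eig (lin a)).card = 0
  · have h2 : fixP (toP a) = 0 := by
      rw [hE] at h1
      rcases Nat.mul_eq_zero.1 h1 with h3 | h3
      · omega
      · exact h3
    rw [h2]
    have h3 : (q : ℤ) ^ 2 ≤ (q : ℤ) ^ (d - 1) :=
      pow_le_pow_right₀ (by exact_mod_cast (by omega : 1 ≤ q)) (by omega)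
    have h4 : (2 : ℤ) ≤ q := by exact_mod_cast hq
    simp only [Nat.cast_zero]
    nlinarith
  · obtain ⟨v, hv⟩ := Finset.card_pos.1 (Nat.pos_of_ne_zero hE)
    obtain ⟨hv0, l₁, hl₁⟩ := mem_Eig.1 hv
    obtain ⟨n, hn1, hn2⟩ := card_Eig_le_two (T := lin a) l₁
    rw [← hqdef] at hn2 h1
    set k := Module.finrank F (Module.End.eigenspace (lin a) l₁) with hk
    have hk1 : 1 ≤ k := by
      rw [hk, Nat.succ_le_iff, Module.finrank_pos_iff_exists_ne_zero]
      exact ⟨⟨v, Module.End.mem_eigenspace_iff.2 hl₁⟩, fun h => hv0 (congrArg Subtype.val h)⟩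
    have hk2 : k ≤ d - 1 := by
      have hne : Module.End.eigenspace (lin a) l₁ ≠ ⊤ := by
        intro htop
        obtain ⟨w, hw⟩ := ha
        have h2 : w ∈ Module.End.eigenspace (lin a) l₁ := by rw [htop]; trivial
        have h3 := Module.End.mem_eigenspace_iff.1 h2
        rw [li2_iff] at hw
        have := hw (-l₁) 1 (by rw [h3]; simp)
        exact one_ne_zero this.2
      have h2 := Submodule.finrank_lt hne
      rw [finrank_V] at h2
      omega
    have h2 := num3 hq hk1 hk2 hn1 hd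
    have h3 : (q - 1) * fixP (toP a) + 2 ≤ q ^ (d - 1) + q := by
      rw [h1]
      omega
    have h4 : (((q - 1) * fixP (toP a) + 2 : ℕ) : ℤ) ≤ ((q ^ (d - 1) + q : ℕ) : ℤ) := by
      exact_mod_cast h3
    push_cast at h4
    rw [hq'] at h4
    linarith

/-- Upper bound in terms of the largest eigenspace. -/
lemma s_bound (b : SLd) : fixP (toP b) + 1 ≤ Fintype.card F ^ maxEig (lin b) := by
  have hq := two_le_card (F := F)
  have h1 := card_Eig_eq b
  have h2 := card_Eig_le (lin_injective b)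
  rw [← h1] at h2
  have h3 : (Fintype.card F - 1) * (fixP (toP b) + 1) ≤
      (Fintype.card F - 1) * Fintype.card F ^ maxEig (lin b) := by
    rw [mul_add, mul_one]
    exact h2
  exact Nat.le_of_mul_le_mul_left h3 (by omega)

/-- Lower bound from one eigenspace. -/
lemma fix_lower {g : SLd} {W : Submodule F (Fin d → F)} {l : F}
    (h : ∀ v ∈ W, lin g v = l • v) :
    Fintype.card F ^ Module.finrank F W ≤ (Fintype.card F - 1) * fixP (toP g) + 1 := by
  have h1 := card_Eig_eq g
  have h2 : nz W ⊆ Eig (lin g) := by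
    intro v hv
    obtain ⟨hv1, hv2⟩ := mem_nz.1 hv
    exact mem_Eig.2 ⟨hv2, l, h v hv1⟩
  have h3 := card_le_card h2
  have h4 := card_nz W
  omega

lemma fix_pos_of_maxEig {g : SLd} (h : 1 ≤ maxEig (lin g)) : 1 ≤ fixP (toP g) := by
  obtain ⟨l, hl⟩ := exists_maxEig (lin g)
  have h1 := fix_lower (g := g) (W := Module.End.eigenspace (lin g) l) (l := l)
    (fun v hv => Module.End.mem_eigenspace_iff.1 hv)
  rw [hl] at h1
  have hq := two_le_card (F := F)
  have h2 : 2 ≤ Fintype.card F ^ maxEig (lin g) := by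
    calc 2 ≤ Fintype.card F := hq
      _ = Fintype.card F ^ 1 := (pow_one _).symm
      _ ≤ _ := Nat.pow_le_pow_right (by omega) h
  by_contra hcon
  have h3 : fixP (toP g) = 0 := by omega
  rw [h3] at h1
  omega

lemma exists_eig_of_fix_pos {g : SLd} (h : 1 ≤ fixP (toP g)) :
    ∃ (e : Fin d → F) (l : F), e ≠ 0 ∧ lin g e = l • e := by
  obtain ⟨p, hp⟩ := Finset.card_pos.1 h
  obtain ⟨l, hl⟩ := eig_of_fix (mem_filter.1 hp).2
  exact ⟨p.rep, l, p.rep_nonzero, hl⟩

lemma no_eig_of_fix_zero {g : SLd} (h : fixP (toP g) = 0) :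
    ∀ (v : Fin d → F) (l : F), v ≠ 0 → lin g v ≠ l • v := by
  intro v l hv hl
  have h1 : Projectivization.mk F v hv ∈ ({p : ℙ F (Fin d → F) | toP g • p = p} : Finset _) := by
    simp only [mem_filter, mem_univ, true_and]
    exact (toP_fix_iff g v hv).2 ⟨l, hl⟩
  have h2 : ({p : ℙ F (Fin d → F) | toP g • p = p} : Finset _) = ∅ := Finset.card_eq_zero.1 h
  rw [h2] at h1
  simp at h1

lemma unique_eig_of_fix_one {g : SLd} (h : fixP (toP g) = 1) :
    ∃ (e : Fin d → F) (l : F), e ≠ 0 ∧ lin g e = l • e ∧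
      ∀ (v : Fin d → F) (l' : F), v ≠ 0 → lin g v = l' • v → v ∈ Submodule.span F {e} := by
  obtain ⟨p, hp⟩ := Finset.card_eq_one.1 h
  have hp1 : p ∈ ({p : ℙ F (Fin d → F) | toP g • p = p} : Finset _) := by
    rw [hp]
    simp
  obtain ⟨l, hl⟩ := eig_of_fix (mem_filter.1 hp1).2
  refine ⟨p.rep, l, p.rep_nonzero, hl, ?_⟩
  intro v l' hv hl'
  have h1 : Projectivization.mk F v hv ∈ ({p : ℙ F (Fin d → F) | toP g • p = p} : Finset _) := by
    simp only [mem_filter, mem_univ, true_and]
    exact (toP_fix_iff g v hv).2 ⟨l', hl'⟩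
  rw [hp, mem_singleton] at h1
  have h2 : Projectivization.mk F v hv = Projectivization.mk F p.rep p.rep_nonzero := by
    rw [h1, Projectivization.mk_rep]
  rw [Projectivization.mk_eq_mk_iff'] at h2
  obtain ⟨c, hc⟩ := h2
  rw [Submodule.mem_span_singleton]
  exact ⟨c, hc⟩

lemma hf_symm {a b : SLd} {f : ℕ} (hf : ∀ x : SLd, fixP (toP (x * a * x⁻¹ * b)) = f) (x : SLd) :
    fixP (toP (x * b * x⁻¹ * a)) = f := by
  have h1 := hf x⁻¹
  rw [inv_inv] at h1
  rw [← h1]
  have h2 : toP (x⁻¹ * a * x * b) =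
      toP (x⁻¹ * a) * toP (x * b * x⁻¹ * a) * (toP (x⁻¹ * a))⁻¹ := by
    rw [← toP_inv, ← toP_mul, ← toP_mul]
    congr 1
    group
  rw [h2, fixN_conj]

omit [Fintype (ℙ F (Fin d → F))] [DecidableEq (ℙ F (Fin d → F))] in
lemma toP_surjective : Function.Surjective (toP (F := F) (d := d)) := QuotientGroup.mk_surjective

lemma two_trans (m m' p p' : ℙ F (Fin d → F)) (hm : m ≠ m') (hp : p ≠ p') :
    ∃ g : PSLd, g • m = p ∧ g • m' = p' := by
  have h : ∀ {a b c e : ℙ F (Fin d → F)}, a ≠ b → c ≠ e → ∃ g : SLd, g • a = c ∧ g • b = e :=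
    MulAction.is_two_pretransitive_iff.1 inferInstance
  obtain ⟨g, h1, h2⟩ := h hm hp
  exact ⟨toP g, h1, h2⟩

variable [Fintype (Matrix.ProjectiveSpecialLinearGroup (Fin d) F)]

theorem core_left {a b : SLd} (ha : ∃ v, LinearIndependent F ![v, lin a v])
    (hb : ∃ v, LinearIndependent F ![v, lin b v]) (hd : 3 ≤ d) {f : ℕ}
    (hf : ∀ x : SLd, fixP (toP (x * a * x⁻¹ * b)) = f)
    (hab : maxEig (lin b) ≤ maxEig (lin a)) : False := by
  have hq := two_le_card (F := F)
  -- two points
  have hX : ∃ x₀ x₁ : ℙ F (Fin d → F), x₀ ≠ x₁ := by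
    obtain ⟨v, hv⟩ := ha
    have hv0 := li2_ne_zero hv
    have hv1 := li2_ne_zero (li2_symm hv)
    refine ⟨Projectivization.mk F v hv0, Projectivization.mk F _ hv1, ?_⟩
    intro h
    rw [Projectivization.mk_eq_mk_iff'] at h
    obtain ⟨c, hc⟩ := h
    rw [li2_iff] at hv
    have := hv (-1) c (by rw [hc]; simp)
    simp at this
  have hf' : ∀ y : PSLd, fixP (y⁻¹ * toP a * y * toP b) = f := by
    intro y
    obtain ⟨x, rfl⟩ := toP_surjective y
    have h1 := hf x⁻¹
    rw [inv_inv] at h1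
    exact h1
  have key := count_constant (G := PSLd) two_trans hX (toP a) (toP b) f hf'
  set q := Fintype.card F with hqdef
  set N := Fintype.card (ℙ F (Fin d → F)) with hNdef
  set r := fixP (toP a) with hr
  set s := fixP (toP b) with hs
  have hcp := card_proj (F := F) (d := d)
  rw [← hqdef, ← hNdef] at hcp
  have hq2 : (2 : ℤ) ≤ q := by exact_mod_cast hq
  have hqd : (q : ℤ) ^ d = (q : ℤ) * (q : ℤ) ^ (d - 1) := by
    rw [← pow_succ']
    congr 1
    omega
  have hcp' : (N : ℤ) * ((q : ℤ) - 1) + 1 = (q : ℤ) ^ d := by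
    have h1 : ((N * (q - 1) + 1 : ℕ) : ℤ) = ((q ^ d : ℕ) : ℤ) := by rw [hcp]
    push_cast at h1
    rw [Nat.cast_sub (by omega)] at h1
    simpa using h1
  set W : ℤ := (q : ℤ) ^ (d - 1) - 1 with hW
  have hq22 : (q : ℤ) ^ 2 ≤ (q : ℤ) ^ (d - 1) := pow_le_pow_right₀ (by linarith) (by omega)
  have hWpos : 0 < W := by
    rw [hW]
    nlinarith
  have hWq : (q : ℤ) - 1 ≤ W := by
    rw [hW]
    nlinarith
  have h1 : ((N : ℤ) - 1) * ((q : ℤ) - 1) = q * W := by
    rw [hW]
    linear_combination hcp' + hqd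
  have hrb := r_bound ha hd
  rw [← hqdef, ← hr, ← hW] at hrb
  have hN1 : (1 : ℤ) < N := by
    have h2 : 0 < ((N : ℤ) - 1) * ((q : ℤ) - 1) := by
      rw [h1]
      positivity
    have h3 : 0 < (q : ℤ) - 1 := by linarith
    have := (pos_iff_pos_of_mul_pos h2).2 h3
    linarith
  have hsb := s_bound b
  rw [← hqdef, ← hs] at hsb
  by_cases hL : 2 ≤ maxEig (lin b)
  · -- large eigenspaces
    obtain ⟨μ, hμ⟩ := exists_maxEig (lin b)
    obtain ⟨lam, hlam⟩ := exists_maxEig (lin a)
    obtain ⟨x, hx⟩ := exists_embed (W := Module.End.eigenspace (lin a) lam)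
      (W' := Module.End.eigenspace (lin b) μ) (by rw [hμ, hlam]; exact hab) (by rw [hμ]; omega)
    have h2 := fix_lower (g := x * a * x⁻¹ * b) (W := Module.End.eigenspace (lin b) μ)
      (l := μ * lam) (by
        intro v hv
        rw [T_apply, Module.End.mem_eigenspace_iff.1 hv, map_smul, lin_mul, lin_mul,
          lin_apply x⁻¹ v]
        have h3 := Module.End.mem_eigenspace_iff.1 (hx v hv)
        rw [h3, map_smul, lin_apply x, smul_inv_smul, smul_smul])
    rw [hf, hμ, ← hqdef] at h2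
    have hs1 : 1 ≤ s := fix_pos_of_maxEig (by omega)
    have h3 : (q : ℤ) ^ 2 ≤ ((q ^ maxEig (lin b) : ℕ) : ℤ) := by
      push_cast
      exact pow_le_pow_right₀ (by linarith) hL
    refine num1 (q := q) (r := r) (s := s) (f := f) (N := N) (W := W)
      (P := ((q ^ maxEig (lin b) : ℕ) : ℤ)) hq2 hWpos h1 key hrb ?_ ?_ ?_ h3
    · exact_mod_cast hsb
    · have h4 : ((q ^ maxEig (lin b) : ℕ) : ℤ) ≤ (((q - 1) * f + 1 : ℕ) : ℤ) := by
        exact_mod_cast h2
      push_cast at h4
      rw [Nat.cast_sub (by omega)] at h4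
      simpa using h4
    · exact_mod_cast hs1
  · -- small eigenspaces
    have hsb2 : s + 1 ≤ q := by
      calc s + 1 ≤ q ^ maxEig (lin b) := hsb
        _ ≤ q ^ 1 := Nat.pow_le_pow_right (by omega) (by omega)
        _ = q := pow_one _
    obtain ⟨hf1, hrs⟩ := num2 (q := q) (r := r) (s := s) (f := f) (N := N) (W := W) hq2 hWpos h1 key
      hrb hWq (by positivity) (by positivity) (by exact_mod_cast hsb2) (by positivity) hN1
    have hf1' : f = 1 := by exact_mod_cast hf1
    have hrs' : r = 1 ∨ s = 1 := by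
      rcases hrs with h | h
      · left; exact_mod_cast h
      · right; exact_mod_cast h
    have hfin : ∀ (x : SLd) (u₁ u₂ : Fin d → F) (l₁ l₂ : F), LinearIndependent F ![u₁, u₂] →
        lin (x * a * x⁻¹ * b) u₁ = l₁ • u₁ → lin (x * a * x⁻¹ * b) u₂ = l₂ • u₂ → False := by
      intro x u₁ u₂ l₁ l₂ h2 h3 h4
      have h5 := two_le_fixN h2 h3 h4
      rw [hf] at h5
      omega
    by_cases hr0 : r = 0
    · -- `a` has no eigenvectors
      have hs1 : s = 1 := by
        rcases hrs' with h | h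
        · omega
        · exact h
      obtain ⟨e, l, he0, he, hu⟩ := unique_eig_of_fix_one hs1
      obtain ⟨x, u₁, u₂, l₁, l₂, h2, h3, h4⟩ := caseB (no_eig_of_fix_zero hr0) he0 he hu hd
      exact hfin x u₁ u₂ l₁ l₂ h2 h3 h4
    · by_cases hs0 : s = 0
      · have hr1 : r = 1 := by
          rcases hrs' with h | h
          · exact h
          · omega
        obtain ⟨e, l, he0, he, hu⟩ := unique_eig_of_fix_one hr1
        obtain ⟨x, u₁, u₂, l₁, l₂, h2, h3, h4⟩ := caseB (a := b) (b := a)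
          (no_eig_of_fix_zero hs0) he0 he hu hd
        have h5 := two_le_fixN h2 h3 h4
        rw [hf_symm hf] at h5
        omega
      · obtain ⟨ea, α, hea0, hea⟩ := exists_eig_of_fix_pos (g := a) (by omega)
        obtain ⟨eb, β, heb0, heb⟩ := exists_eig_of_fix_pos (g := b) (by omega)
        obtain ⟨x, u₁, u₂, l₁, l₂, h2, h3, h4⟩ := caseA ha hb hea0 hea heb0 heb hd
        exact hfin x u₁ u₂ l₁ l₂ h2 h3 h4

theorem core {a b : SLd} (ha : ∃ v, LinearIndependent F ![v, lin a v])
    (hb : ∃ v, LinearIndependent F ![v, lin b v]) (hd : 3 ≤ d) {f : ℕ}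
    (hf : ∀ x : SLd, fixP (toP (x * a * x⁻¹ * b)) = f) : False := by
  rcases le_total (maxEig (lin b)) (maxEig (lin a)) with h | h
  · exact core_left ha hb hd hf h
  · exact core_left hb ha hd (hf_symm hf) h

end Core

/-- The product of two non-trivial classes is not a class. -/
theorem exists_not_isConj [Fintype F] (hd : 3 ≤ d) (a b : Matrix.ProjectiveSpecialLinearGroup (Fin d) F)
    (ha : a ≠ 1) (hb : b ≠ 1) :
    ∃ g h : Matrix.ProjectiveSpecialLinearGroup (Fin d) F,
      ¬ IsConj (a * b) (g * a * g⁻¹ * (h * b * h⁻¹)) := by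
  classical
  haveI : Finite (Matrix.ProjectiveSpecialLinearGroup (Fin d) F) := by
    unfold Matrix.ProjectiveSpecialLinearGroup
    infer_instance
  letI : Fintype (Matrix.ProjectiveSpecialLinearGroup (Fin d) F) := Fintype.ofFinite _
  letI : Fintype (ℙ F (Fin d → F)) := Fintype.ofFinite _
  by_contra hcon
  push Not at hcon
  obtain ⟨a', rfl⟩ := toP_surjective a
  obtain ⟨b', rfl⟩ := toP_surjective b
  have hns : ∀ c : Matrix.SpecialLinearGroup (Fin d) F, toP c ≠ 1 →
      ∃ v, LinearIndependent F ![v, lin c v] := by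
    intro c hc
    obtain ⟨p, hp⟩ : ∃ p : ℙ F (Fin d → F), toP c • p ≠ p := by
      by_contra h
      push Not at h
      apply hc
      apply FaithfulSMul.eq_of_smul_eq_smul (α := ℙ F (Fin d → F))
      intro p
      rw [h p, one_smul]
    refine ⟨p.rep, ?_⟩
    rw [LinearIndependent.pair_iff' p.rep_nonzero]
    intro t ht
    apply hp
    have h2 : toP c • Projectivization.mk F p.rep p.rep_nonzero =
        Projectivization.mk F p.rep p.rep_nonzero :=
      (toP_fix_iff c p.rep p.rep_nonzero).2 ⟨t, ht.symm⟩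
    rwa [Projectivization.mk_rep] at h2
  refine core (hns a' ha) (hns b' hb) hd (f := fixN (ℙ F (Fin d → F)) (toP a' * toP b')) ?_
  intro x
  have h1 := hcon (toP x) 1
  rw [one_mul, inv_one, mul_one] at h1
  exact (fixN_isConj h1).symm

end Cfsg.Agent.Lib.Classical.ProdClass
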