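import Mathlib

/-!
Counting fixed points of products of conjugates in a two-transitive action.
-/

set_option autoImplicit false
set_option linter.unusedSectionVars false
set_option linter.style.haveILetI false

open Finset

namespace Cfsg.Agent.Lib.Classical.TwoTransCount

variable {G X : Type*} [Group G] [Fintype G] [MulAction G X] [Fintype X] [DecidableEq X]

variable (X) in
/-- The number of fixed points. -/
def fixN (g : G) : ℕ := #{p : X | g • p = p}

/-- The number of fixed points is a class function. -/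
lemma fixN_conj (c g : G) : fixN X (c * g * c⁻¹) = fixN X g := by
  refine Finset.card_bij' (fun p _ => c⁻¹ • p) (fun p _ => c • p) ?_ ?_ ?_ ?_
  · intro p hp
    simp only [mem_filter, mem_univ, true_and] at hp ⊢
    rw [mul_smul, mul_smul] at hp
    exact eq_inv_smul_iff.2 hp
  · intro p hp
    simp only [mem_filter, mem_univ, true_and] at hp ⊢
    simp only [mul_smul, inv_smul_smul, hp]
  · intro p _
    simp
  · intro p _
    simp

lemma fixN_isConj {g g' : G} (h : IsConj g g') : fixN X g = fixN X g' := by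
  obtain ⟨c, rfl⟩ := isConj_iff.1 h
  exact (fixN_conj c g).symm

/-- The number of elements mapping a pair to a pair. -/
def cnt (m m' p p' : X) : ℕ := #{y : G | y • m = p ∧ y • m' = p'}

variable (h2 : ∀ m m' p p' : X, m ≠ m' → p ≠ p' → ∃ g : G, g • m = p ∧ g • m' = p')

include h2

lemma cnt_eq {m m' p p' n n' t t' : X} (hm : m ≠ m') (hp : p ≠ p') (hn : n ≠ n') (ht : t ≠ t') :
    cnt (G := G) m m' p p' = cnt (G := G) n n' t t' := by
  obtain ⟨g₁, h1, h1'⟩ := h2 n n' m m' hn hm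
  obtain ⟨g₂, h3, h3'⟩ := h2 p p' t t' hp ht
  apply Finset.card_bij' (fun y _ => g₂ * y * g₁) (fun z _ => g₂⁻¹ * z * g₁⁻¹)
  · intro y hy
    simp only [mem_filter, mem_univ, true_and] at hy ⊢
    simp only [mul_smul, h1, h1', hy.1, hy.2, h3, h3', and_self]
  · intro y hy
    simp only [mem_filter, mem_univ, true_and] at hy ⊢
    have e1 : g₁⁻¹ • m = n := by rw [← h1, inv_smul_smul]
    have e2 : g₁⁻¹ • m' = n' := by rw [← h1', inv_smul_smul]
    have e3 : g₂⁻¹ • t = p := by rw [← h3, inv_smul_smul]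
    have e4 : g₂⁻¹ • t' = p' := by rw [← h3', inv_smul_smul]
    simp only [mul_smul, e1, e2, e3, e4, hy.1, hy.2, and_self]
  · intro y _
    simp [mul_assoc]
  · intro y _
    simp [mul_assoc]

lemma card_one_point {ℓ ℓ' m x₀ x₁ : X} (hℓ : ℓ ≠ ℓ') (hx : x₀ ≠ x₁) :
    #{y : G | y • ℓ = m} = (Fintype.card X - 1) * cnt (G := G) x₀ x₁ x₀ x₁ := by
  have h1 : #{y : G | y • ℓ = m} = ∑ m' ∈ univ.erase m, #{y ∈ ({y : G | y • ℓ = m} : Finset G) | y • ℓ' = m'} := by
    apply Finset.card_eq_sum_card_fiberwise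
    intro y hy
    simp only [coe_filter, mem_univ, true_and, Set.mem_ofPred_eq] at hy
    simp only [coe_erase, coe_univ, Set.mem_sdiff, Set.mem_univ, Set.mem_singleton_iff, true_and]
    intro h
    rw [← h] at hy
    exact hℓ (MulAction.injective y hy)
  rw [h1]
  have h2' : ∀ m' ∈ univ.erase m, #{y ∈ ({y : G | y • ℓ = m} : Finset G) | y • ℓ' = m'} =
      cnt (G := G) x₀ x₁ x₀ x₁ := by
    intro m' hm'
    rw [filter_filter]
    exact cnt_eq h2 hℓ (ne_of_mem_erase hm').symm hx hx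
  rw [sum_congr rfl h2', sum_const, card_erase_of_mem (mem_univ _), card_univ, smul_eq_mul]

lemma card_group {ℓ ℓ' x₀ x₁ : X} (hℓ : ℓ ≠ ℓ') (hx : x₀ ≠ x₁) :
    Fintype.card G = Fintype.card X * ((Fintype.card X - 1) * cnt (G := G) x₀ x₁ x₀ x₁) := by
  have h1 : #(univ : Finset G) = ∑ m ∈ (univ : Finset X), #{y ∈ (univ : Finset G) | y • ℓ = m} := by
    apply Finset.card_eq_sum_card_fiberwise
    intro y _
    simp
  rw [card_univ] at h1
  rw [h1]
  have h2' : ∀ m ∈ (univ : Finset X), #{y ∈ (univ : Finset G) | y • ℓ = m} =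
      (Fintype.card X - 1) * cnt (G := G) x₀ x₁ x₀ x₁ := fun m _ => card_one_point h2 hℓ hx
  rw [sum_congr rfl h2', sum_const, card_univ, smul_eq_mul]

lemma count_fixed {ℓ ℓ' x₀ x₁ : X} (a : G) (hℓ : ℓ ≠ ℓ') (hx : x₀ ≠ x₁) :
    #{y : G | (y⁻¹ * a * y) • ℓ = ℓ} =
      fixN X a * ((Fintype.card X - 1) * cnt (G := G) x₀ x₁ x₀ x₁) := by
  have h1 : #{y : G | (y⁻¹ * a * y) • ℓ = ℓ} =
      ∑ m ∈ ({m : X | a • m = m} : Finset X),
        #{y ∈ ({y : G | (y⁻¹ * a * y) • ℓ = ℓ} : Finset G) | y • ℓ = m} := by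
    apply Finset.card_eq_sum_card_fiberwise
    intro y hy
    simp only [coe_filter, mem_univ, true_and, Set.mem_ofPred_eq] at hy ⊢
    rw [mul_smul, mul_smul, inv_smul_eq_iff] at hy
    exact hy
  rw [h1]
  have h2' : ∀ m ∈ ({m : X | a • m = m} : Finset X),
      #{y ∈ ({y : G | (y⁻¹ * a * y) • ℓ = ℓ} : Finset G) | y • ℓ = m} =
      (Fintype.card X - 1) * cnt (G := G) x₀ x₁ x₀ x₁ := by
    intro m hm
    rw [filter_filter, ← card_one_point h2 (m := m) hℓ hx]
    congr 1
    ext y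
    simp only [mem_filter, mem_univ, true_and, mul_smul, inv_smul_eq_iff]
    simp only [mem_filter, mem_univ, true_and] at hm
    constructor
    · exact fun h => h.2
    · intro h
      refine ⟨?_, h⟩
      rw [h, hm]
  rw [sum_congr rfl h2', sum_const, smul_eq_mul]
  rfl

lemma count_moved {ℓ ℓ' x₀ x₁ : X} (a : G) (hℓ : ℓ' ≠ ℓ) (hx : x₀ ≠ x₁) :
    #{y : G | (y⁻¹ * a * y) • ℓ' = ℓ} =
      (Fintype.card X - fixN X a) * cnt (G := G) x₀ x₁ x₀ x₁ := by
  have h1 : #{y : G | (y⁻¹ * a * y) • ℓ' = ℓ} =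
      ∑ m ∈ ({m : X | a • m ≠ m} : Finset X),
        #{y ∈ ({y : G | (y⁻¹ * a * y) • ℓ' = ℓ} : Finset G) | y • ℓ' = m} := by
    apply Finset.card_eq_sum_card_fiberwise
    intro y hy
    simp only [coe_filter, mem_univ, true_and, Set.mem_ofPred_eq] at hy ⊢
    rw [mul_smul, mul_smul, inv_smul_eq_iff] at hy
    rw [hy]
    intro h
    exact hℓ (MulAction.injective y h).symm
  rw [h1]
  have h2' : ∀ m ∈ ({m : X | a • m ≠ m} : Finset X),
      #{y ∈ ({y : G | (y⁻¹ * a * y) • ℓ' = ℓ} : Finset G) | y • ℓ' = m} =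
      cnt (G := G) x₀ x₁ x₀ x₁ := by
    intro m hm
    simp only [mem_filter, mem_univ, true_and] at hm
    have e : #{y ∈ ({y : G | (y⁻¹ * a * y) • ℓ' = ℓ} : Finset G) | y • ℓ' = m} =
        cnt (G := G) ℓ' ℓ m (a • m) := by
      rw [filter_filter]
      unfold cnt
      congr 1
      ext y
      simp only [mem_filter, mem_univ, true_and, mul_smul, inv_smul_eq_iff]
      constructor
      · rintro ⟨h1, h2⟩
        exact ⟨h2, by rw [← h1, h2]⟩
      · rintro ⟨h1, h2⟩
        exact ⟨by rw [h1, h2], h1⟩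
    rw [e]
    exact cnt_eq h2 hℓ (Ne.symm hm) hx hx
  rw [sum_congr rfl h2', sum_const, smul_eq_mul]
  congr 1
  have h3 : #({m : X | a • m = m} : Finset X) + #({m : X | a • m ≠ m} : Finset X) = Fintype.card X := by
    rw [card_filter_add_card_filter_not, card_univ]
  unfold fixN
  omega

/-- The averaged count of fixed points of products of conjugates. -/
theorem count_constant (hX : ∃ x₀ x₁ : X, x₀ ≠ x₁) (a b : G) (f : ℕ)
    (hf : ∀ y : G, fixN X (y⁻¹ * a * y * b) = f) :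
    ((Fintype.card X : ℤ) - 1) * ((f : ℤ) - 1) = ((fixN X a : ℤ) - 1) * ((fixN X b : ℤ) - 1) := by
  obtain ⟨x₀, x₁, hx⟩ := hX
  set N := Fintype.card X with hN
  set r := fixN X a with hr
  set s := fixN X b with hs
  set C := cnt (G := G) x₀ x₁ x₀ x₁ with hC
  have hCpos : 0 < C := by
    apply Finset.card_pos.2
    exact ⟨1, by simp⟩
  have hNpos : 0 < N := Fintype.card_pos_iff.2 ⟨x₀⟩
  have hN2 : 2 ≤ N := by
    have : 1 < N := Fintype.one_lt_card_iff.2 ⟨x₀, x₁, hx⟩
    omega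
  have hex : ∀ ℓ : X, ∃ ℓ' : X, ℓ ≠ ℓ' := by
    intro ℓ
    by_cases h : ℓ = x₀
    · exact ⟨x₁, by rw [h]; exact hx⟩
    · exact ⟨x₀, h⟩
  have hG : Fintype.card G = N * ((N - 1) * C) := card_group h2 hx hx
  -- the double count
  have h1 : ∑ y : G, fixN X (y⁻¹ * a * y * b) = ∑ ℓ : X, #{y : G | (y⁻¹ * a * y * b) • ℓ = ℓ} := by
    unfold fixN
    simp only [card_filter]
    rw [sum_comm]
  have h3 : ∑ y : G, fixN X (y⁻¹ * a * y * b) = Fintype.card G * f := by
    simp [hf]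
  have h4 : ∀ ℓ : X, #{y : G | (y⁻¹ * a * y * b) • ℓ = ℓ} =
      if b • ℓ = ℓ then r * ((N - 1) * C) else (N - r) * C := by
    intro ℓ
    by_cases hb : b • ℓ = ℓ
    · rw [if_pos hb]
      obtain ⟨ℓ', hℓ'⟩ := hex ℓ
      rw [← count_fixed h2 a hℓ' hx]
      congr 1
      ext y
      simp only [mem_filter, mem_univ, true_and, mul_smul (y⁻¹ * a * y) b, hb]
    · rw [if_neg hb]
      rw [← count_moved h2 (ℓ := ℓ) (ℓ' := b • ℓ) a hb hx]
      congr 1
      ext y
      simp only [mem_filter, mem_univ, true_and, mul_smul (y⁻¹ * a * y) b]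
  have h5 : ∑ ℓ : X, #{y : G | (y⁻¹ * a * y * b) • ℓ = ℓ} =
      s * (r * ((N - 1) * C)) + (N - s) * ((N - r) * C) := by
    simp only [h4]
    rw [sum_ite]
    simp only [sum_const, smul_eq_mul]
    have h6 : #({ℓ : X | ¬ b • ℓ = ℓ} : Finset X) = N - s := by
      have h7 : #({m : X | b • m = m} : Finset X) + #({m : X | ¬ b • m = m} : Finset X) = N := by
        rw [card_filter_add_card_filter_not, card_univ]
      have h8 : #({m : X | b • m = m} : Finset X) = s := rfl
      omega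
    rw [h6]
    rfl
  have h6 : N * ((N - 1) * C) * f = s * (r * ((N - 1) * C)) + (N - s) * ((N - r) * C) := by
    rw [← hG, ← h3, h1, h5]
  have hrN : r ≤ N := by
    rw [hr, hN]
    exact card_le_univ _
  have hsN : s ≤ N := by
    rw [hs, hN]
    exact card_le_univ _
  -- to the integers
  have h7 : ((N : ℤ)) * (((N : ℤ) - 1) * (C : ℤ)) * (f : ℤ) =
      (s : ℤ) * ((r : ℤ) * (((N : ℤ) - 1) * (C : ℤ))) + ((N : ℤ) - s) * (((N : ℤ) - r) * (C : ℤ)) := by
    have := congrArg (fun n : ℕ => (n : ℤ)) h6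
    simp only [Nat.cast_mul, Nat.cast_add] at this
    rw [Nat.cast_sub (by omega : 1 ≤ N), Nat.cast_sub hsN, Nat.cast_sub hrN] at this
    simpa using this
  have hC0 : (C : ℤ) ≠ 0 := by exact_mod_cast hCpos.ne'
  have hN0 : (N : ℤ) ≠ 0 := by exact_mod_cast hNpos.ne'
  apply mul_left_cancel₀ hN0
  apply mul_left_cancel₀ hC0
  linear_combination h7

end Cfsg.Agent.Lib.Classical.TwoTransCount
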